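import Mathlib

/-!
# N1, THEOREM B0 (bb OMEGA #18835, helper970), step (0)/(1): semilinear maps of `F²`, pure part

`semi`: an additive injective map of `F²` mapping lines to lines and fixing `(1,0)` is
`(x, y) ↦ (α x + δ α y, β α y)` with `α` a ring homomorphism.
-/

set_option autoImplicit false
set_option linter.unusedSectionVars false
set_option linter.style.haveILetI false

namespace Cfsg.Agent.Omega.NO1.B0

variable {F : Type*} [Field F] [Finite F]

theorem vec_eq (v : Fin 2 → F) : v = ![v 0, v 1] := by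
  ext i; fin_cases i <;> rfl

omit [Finite F] in
theorem smul_vec (k x y : F) : k • ![x, y] = ![k * x, k * y] := by
  ext i; fin_cases i <;> rfl

omit [Finite F] in
theorem add_vec (x y x' y' : F) : ![x, y] + ![x', y'] = ![x + x', y + y'] := by
  ext i; fin_cases i <;> rfl

omit [Finite F] in
theorem vec_inj {x y x' y' : F} (h : ![x, y] = ![x', y']) : x = x' ∧ y = y' :=
  ⟨congrFun h 0, congrFun h 1⟩

theorem semi (g : (Fin 2 → F) →+ (Fin 2 → F)) (hinj : Function.Injective g)
    (hline : ∀ (v : Fin 2 → F) (k : F), ∃ k' : F, g (k • v) = k' • g v) (h1 : g ![1, 0] = ![1, 0]) :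
    ∃ (α : F →+* F) (β δ : F), β ≠ 0 ∧ ∀ x y, g ![x, y] = ![α x + δ * α y, β * α y] := by
  -- first coordinate
  have hx : ∀ x, g ![x, 0] = ![g ![x, 0] 0, 0] := by
    intro x
    obtain ⟨k, hk⟩ := hline ![1, 0] x
    rw [smul_vec, mul_one, mul_zero, h1, smul_vec, mul_one, mul_zero] at hk
    rw [hk]; rfl
  set δ := g ![0, 1] 0 with hδ
  set β := g ![0, 1] 1 with hβ
  have h01 : g ![0, 1] = ![δ, β] := vec_eq _
  have hαinj : Function.Injective (fun x : F => g ![x, 0] 0) := by
    intro x y hxy
    have h2 : g ![x, 0] = g ![y, 0] := by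
      rw [hx x, hx y]; exact congrArg (fun c => ![c, 0]) hxy
    exact (vec_inj (hinj h2)).1
  have hβ0 : β ≠ 0 := by
    intro h0
    obtain ⟨x, hx'⟩ := (Finite.injective_iff_surjective.1 hαinj) δ
    have h2 : g ![x, 0] = g ![0, 1] := by
      rw [hx x, h01, h0]; exact congrArg (fun c => ![c, 0]) hx'
    exact zero_ne_one (vec_inj (hinj h2)).2
  have hadd : ∀ x y : F, g ![x, y] = g ![x, 0] + g ![0, y] := by
    intro x y
    rw [← map_add, add_vec, add_zero, zero_add]
  have hy : ∀ y, g ![0, y] = ![δ * g ![y, 0] 0, β * g ![y, 0] 0] := by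
    intro y
    obtain ⟨k, hk⟩ := hline ![0, 1] y
    rw [smul_vec, mul_one, mul_zero, h01, smul_vec] at hk
    obtain ⟨k', hk'⟩ := hline ![1, 1] y
    rw [smul_vec, mul_one, hadd y y, hk, hadd 1 1, h1, h01, hx y, add_vec, add_vec, smul_vec] at hk'
    obtain ⟨e1, e2⟩ := vec_inj hk'
    rw [zero_add, zero_add] at e2
    have h2 : k = k' := mul_right_cancel₀ hβ0 e2
    subst h2
    have h3 : g ![y, 0] 0 = k := by
      have : g ![y, 0] 0 + k * δ = k + k * δ := by rw [e1]; ring
      exact add_right_cancel this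
    rw [hk, h3, mul_comm, mul_comm k β]
  have hα1 : g ![1, 0] 0 = 1 := by rw [h1]; rfl
  have hmul : ∀ m y : F, g ![y * m, 0] 0 = g ![y, 0] 0 * g ![m, 0] 0 := by
    intro m y
    obtain ⟨k, hk⟩ := hline ![m, 1] y
    rw [smul_vec, mul_one, hadd (y * m) y, hy y, hadd m 1, hy 1, hα1, hx (y * m), hx m, add_vec,
      add_vec, smul_vec] at hk
    obtain ⟨e1, e2⟩ := vec_inj hk
    rw [zero_add, zero_add, mul_one] at e2
    have h2 : g ![y, 0] 0 = k := by
      have : β * g ![y, 0] 0 = β * k := by rw [e2]; ring
      exact mul_left_cancel₀ hβ0 this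
    rw [← h2] at e1
    have : g ![y * m, 0] 0 + δ * g ![y, 0] 0 =
        g ![y, 0] 0 * g ![m, 0] 0 + δ * g ![y, 0] 0 := by rw [e1]; ring
    exact add_right_cancel this
  let α : F →+* F :=
    { toFun := fun x => g ![x, 0] 0
      map_one' := hα1
      map_mul' := fun x y => hmul y x
      map_zero' := by
        have : (![0, 0] : Fin 2 → F) = 0 := by ext i; fin_cases i <;> rfl
        rw [this, map_zero]; rfl
      map_add' := fun x y => by
        have : ![x + y, 0] = ![x, 0] + ![y, (0 : F)] := by rw [add_vec, add_zero]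
        rw [this, map_add]; rfl }
  refine ⟨α, β, δ, hβ0, fun x y => ?_⟩
  rw [hadd x y, hx x, hy y, add_vec, zero_add]; rfl

/-- the number of ring endomorphisms of order `≤ 2` is at most 2 -/
theorem card_inv_le [CharP F 2] (S : Set (F →+* F)) (hS : ∀ α ∈ S, ∀ x, α (α x) = x) :
    Nat.card S ≤ 2 := by
  classical
  letI : Algebra (ZMod 2) F := ZMod.algebra F 2
  haveI : Fintype (F ≃ₐ[ZMod 2] F) := Fintype.ofFinite _
  let φ : S → (F ≃ₐ[ZMod 2] F) := fun α =>
    { toFun := α.1
      invFun := α.1
      left_inv := hS α.1 α.2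
      right_inv := hS α.1 α.2
      map_mul' := map_mul α.1
      map_add' := map_add α.1
      commutes' := fun r => by
        change α.1 (algebraMap (ZMod 2) F r) = algebraMap (ZMod 2) F r
        exact congrFun (congrArg DFunLike.coe (RingHom.ext_zmod (α.1.comp (algebraMap (ZMod 2) F))
          (algebraMap (ZMod 2) F))) r }
  have hφ : Function.Injective φ := by
    intro α β h
    apply Subtype.ext
    ext x
    exact DFunLike.congr_fun h x
  have h2 : ∀ α, (φ α) ^ 2 = 1 := by
    intro α
    ext x
    rw [pow_two]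
    exact hS α.1 α.2 x
  have h3 := IsCyclic.card_pow_eq_one_le (α := F ≃ₐ[ZMod 2] F) (n := 2) (by norm_num)
  have h4 : Nat.card S ≤ Nat.card {a : F ≃ₐ[ZMod 2] F // a ∈ (Finset.univ.filter fun a => a ^ 2 = 1)} := by
    refine Nat.card_le_card_of_injective (fun α => ⟨φ α, by simp [h2]⟩) ?_
    intro α β h
    exact hφ (congrArg Subtype.val h)
  have h5 : Nat.card {a : F ≃ₐ[ZMod 2] F // a ∈ (Finset.univ.filter fun a => a ^ 2 = 1)} =
      (Finset.univ.filter fun a : F ≃ₐ[ZMod 2] F => a ^ 2 = 1).card := by
    rw [Nat.card_eq_fintype_card, Fintype.card_coe]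
  rw [h5] at h4
  exact h4.trans h3

theorem exists_vec (v : Fin 2 → F) : ∃ x y, v = ![x, y] := ⟨v 0, v 1, vec_eq v⟩

/-- sets on which the quotients lie in `Fx` -/
theorem card_le_of_ratio {Fx D : Set F} (h0 : (0 : F) ∈ Fx)
    (h : ∀ d ∈ D, ∀ d' ∈ D, d' ≠ 0 → d / d' ∈ Fx) : Nat.card D ≤ Nat.card Fx := by
  by_cases hD : ∃ d' ∈ D, d' ≠ 0
  · obtain ⟨d', hd', hne⟩ := hD
    refine Nat.card_le_card_of_injective (fun d : D => (⟨d.1 / d', h d.1 d.2 d' hd' hne⟩ : Fx)) ?_
    intro a b hab
    have := congrArg Subtype.val hab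
    simp only at this
    exact Subtype.ext ((div_left_inj' hne).1 this)
  · push Not at hD
    refine Nat.card_le_card_of_injective (fun _ : D => (⟨0, h0⟩ : Fx)) ?_
    intro a b _
    exact Subtype.ext ((hD a.1 a.2).trans (hD b.1 b.2).symm)

/-- **PL2** -/
theorem triv_of_mu [CharP F 2] {P : Type*} [Group P] [Finite P]
    (g : P → ((Fin 2 → F) →+ (Fin 2 → F))) (h1 : ∀ v, g 1 v = v)
    (hmul : ∀ p q v, g (p * q) v = g p (g q v)) (hsq : ∀ p : P, p * p = 1)
    (hform : ∀ p, ∃ (α : F →+* F) (β δ : F), β ≠ 0 ∧ ∀ x y, g p ![x, y] = ![α x + δ * α y, β * α y])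
    (hmu : Nat.card {p : P | ∀ v, g p v = v} * Nat.card F ^ 2 ≤
      Nat.card P * Nat.card {v : Fin 2 → F | ∀ p, g p v = v}) (p : P) (x : F) :
    g p ![x, 0] = ![x, 0] := by
  classical
  have hcomm : ∀ p q : P, p * q = q * p := by
    intro p q
    have hp : p⁻¹ = p := inv_eq_of_mul_eq_one_left (hsq p)
    have hq : q⁻¹ = q := inv_eq_of_mul_eq_one_left (hsq q)
    have hpq : (p * q)⁻¹ = p * q := inv_eq_of_mul_eq_one_left (hsq _)
    rw [← hpq, mul_inv_rev, hp, hq]
  have hinv : ∀ p v, g p (g p v) = v := fun p v => by rw [← hmul, hsq, h1]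
  by_contra hne
  choose α β δ hβ hg using hform
  have hp0 : ∀ p x, g p ![x, 0] = ![α p x, 0] := by
    intro p x; rw [hg, map_zero, mul_zero, mul_zero, add_zero]
  have hαα : ∀ p x, α p (α p x) = x := by
    intro p x
    have := hinv p ![x, 0]
    rw [hp0, hp0] at this
    exact (vec_inj this).1
  have hαmul : ∀ p q x, α (p * q) x = α p (α q x) := by
    intro p q x
    have := hmul p q ![x, 0]
    rw [hp0, hp0, hp0] at this
    exact (vec_inj this).1
  have hαne : ∃ x, α p x ≠ x := ⟨x, fun h => hne (by rw [hp0, h])⟩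
  -- the kernel of `α`
  let P₀ : Set P := {q | ∀ x, α q x = x}
  have c1 : Nat.card P ≤ 2 * Nat.card P₀ := by
    have h2 := card_inv_le (Set.range α) (by
      rintro _ ⟨q, rfl⟩ x
      exact hαα q x)
    have h3 : Nat.card P ≤ Nat.card (Set.range α × P₀) := by
      choose r hr using fun s : Set.range α => s.2
      refine Nat.card_le_card_of_injective (fun q : P =>
        ((⟨α q, q, rfl⟩ : Set.range α), (⟨r ⟨α q, q, rfl⟩ * q, fun x => by
          rw [hαmul, hr ⟨α q, q, rfl⟩]; exact hαα q x⟩ : P₀))) ?_
      intro q q' hqq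
      have e1 := congrArg (fun s => s.1) hqq
      have e2 := congrArg (fun s => s.2.1) hqq
      simp only at e1 e2
      rw [e1] at e2
      exact mul_left_cancel e2
    rw [Nat.card_prod] at h3
    calc Nat.card P ≤ _ := h3
      _ ≤ 2 * Nat.card P₀ := Nat.mul_le_mul_right _ h2
  -- the form on `P₀`
  have hP₀ : ∀ q ∈ P₀, ∀ x y, g q ![x, y] = ![x + δ q * y, y] := by
    intro q hq x y
    have h2 := hinv q ![0, 1]
    rw [hg, hg, hq, hq, hq] at h2
    have h3 := (vec_inj h2).2
    rw [hq] at h3
    have h4 : β q = 1 := by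
      have h5 : (β q - 1) ^ 2 = 0 := by
        have : (β q - 1) ^ 2 = β q ^ 2 - 1 := by
          have h2 : (2 : F) = 0 := by exact_mod_cast CharP.cast_eq_zero F 2
          linear_combination (-β q + 1) * h2
        rw [this]
        linear_combination h3
      exact sub_eq_zero.1 (pow_eq_zero_iff (two_ne_zero) |>.1 h5)
    rw [hg, hq, hq, h4, one_mul]
  have hcp : ∀ q ∈ P₀, α p (δ q) = δ q * β p := by
    intro q hq
    have h2 : g p (g q ![0, 1]) = g q (g p ![0, 1]) := by rw [← hmul, hcomm, hmul]
    rw [hP₀ q hq, hg p, hg p, hP₀ q hq] at h2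
    have h3 := (vec_inj h2).1
    simp only [zero_add, mul_one, map_zero, map_one] at h3
    have : α p (δ q) + δ p = δ q * β p + δ p := by rw [h3]; ring
    exact add_right_cancel this
  -- fixed field
  let Fx : AddSubgroup F := { carrier := {x | α p x = x}
                              zero_mem' := map_zero _
                              add_mem' := fun {a b} ha hb => by
                                change α p (a + b) = a + b
                                rw [map_add]; exact congrArg₂ (· + ·) ha hb
                              neg_mem' := fun {a} ha => by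
                                change α p (-a) = -a
                                rw [map_neg]; exact congrArg Neg.neg ha }
  have hFx0 : 0 < Nat.card Fx := Nat.card_pos
  have hr : 2 * Nat.card Fx ≤ Nat.card F := by
    have h2 := Fx.card_mul_index
    have h3 : Fx.index ≠ 1 := by
      intro h3
      rw [AddSubgroup.index_eq_one] at h3
      obtain ⟨x, hx⟩ := hαne
      apply hx
      have : x ∈ Fx := h3 ▸ AddSubgroup.mem_top x
      exact this
    have h4 : Fx.index ≠ 0 := AddSubgroup.index_ne_zero_of_finite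
    rw [← h2, mul_comm]
    exact Nat.mul_le_mul_left _ (by omega)
  let N₀ : Set P := {q | ∀ v, g q v = v}
  let Fix : Set (Fin 2 → F) := {v | ∀ q, g q v = v}
  have hmu' : Nat.card N₀ * Nat.card F ^ 2 ≤ Nat.card P * Nat.card Fix := hmu
  have hN₀pos : 0 < Nat.card N₀ := by
    have : Nonempty N₀ := ⟨⟨1, h1⟩⟩
    exact Nat.card_pos
  have key : Nat.card F ^ 2 ≤ 2 * Nat.card Fx ^ 2 := by
    by_cases hδ : ∀ q ∈ P₀, δ q = 0
    · -- case A
      have h2 : Nat.card P₀ ≤ Nat.card N₀ := by
        refine Nat.card_le_card_of_injective (fun q : P₀ => (⟨q.1, fun v => by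
          obtain ⟨x, y, rfl⟩ := exists_vec v
          rw [hP₀ q.1 q.2, hδ q.1 q.2, zero_mul, add_zero]⟩ : N₀)) ?_
        intro a b hab
        have h3 : a.1 = b.1 := congrArg (fun c : N₀ => c.1) hab
        exact Subtype.ext h3
      have h3 : Nat.card Fix ≤ Nat.card Fx * Nat.card Fx := by
        let Ey : Set F := {y | β p * α p y = y}
        have h4 : Nat.card Ey ≤ Nat.card Fx := by
          refine card_le_of_ratio (Fx := (Fx : Set F)) Fx.zero_mem ?_
          intro d hd d' hd' hne'
          change α p (d / d') = d / d'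
          rw [map_div₀]
          have e1 : α p d = (β p)⁻¹ * d := by
            have : β p * α p d = d := hd
            rw [← this, ← mul_assoc, inv_mul_cancel₀ (hβ p), one_mul, this]
          have e2 : α p d' = (β p)⁻¹ * d' := by
            have : β p * α p d' = d' := hd'
            rw [← this, ← mul_assoc, inv_mul_cancel₀ (hβ p), one_mul, this]
          rw [e1, e2, mul_div_mul_left _ _ (inv_ne_zero (hβ p))]
        have h5 : Nat.card Fix ≤ Nat.card (Ey × Fx) := by
          have hmem : ∀ v : Fix, β p * α p (v.1 1) = v.1 1 ∧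
              α p (v.1 0) + δ p * α p (v.1 1) = v.1 0 := by
            intro v
            have h6 := v.2 p
            obtain ⟨x, y, hxy⟩ := exists_vec v.1
            rw [hxy, hg] at h6
            obtain ⟨e1, e2⟩ := vec_inj h6
            rw [hxy]
            exact ⟨e2, e1⟩
          -- representatives
          let rep : F → F := fun y => if hy : ∃ v : Fix, v.1 1 = y then hy.choose.1 0 else 0
          have hrep : ∀ v : Fix, α p (rep (v.1 1)) + δ p * α p (v.1 1) = rep (v.1 1) := by
            intro v
            have hy : ∃ v' : Fix, v'.1 1 = v.1 1 := ⟨v, rfl⟩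
            have e : rep (v.1 1) = hy.choose.1 0 := by simp only [rep, hy, dite_true]
            rw [e]
            have := (hmem hy.choose).2
            rw [hy.choose_spec] at this
            exact this
          refine Nat.card_le_card_of_injective (fun v : Fix =>
            ((⟨v.1 1, (hmem v).1⟩ : Ey), (⟨v.1 0 - rep (v.1 1), by
              change α p (v.1 0 - rep (v.1 1)) = v.1 0 - rep (v.1 1)
              rw [map_sub]
              have e1 := (hmem v).2
              have e2 := hrep v
              linear_combination e1 - e2⟩ : Fx))) ?_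
          intro a b hab
          have e1 := congrArg (fun s => s.1.1) hab
          have e2 := congrArg (fun s => s.2.1) hab
          simp only at e1 e2
          rw [e1] at e2
          have e3 := sub_left_injective e2
          apply Subtype.ext
          rw [vec_eq a.1, vec_eq b.1, e1, e3]
        rw [Nat.card_prod] at h5
        exact h5.trans (Nat.mul_le_mul_right _ h4)
      have h4 : Nat.card N₀ * Nat.card F ^ 2 ≤ Nat.card N₀ * (2 * Nat.card Fx ^ 2) := by
        calc Nat.card N₀ * Nat.card F ^ 2 ≤ Nat.card P * Nat.card Fix := hmu'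
          _ ≤ (2 * Nat.card N₀) * (Nat.card Fx * Nat.card Fx) :=
              Nat.mul_le_mul (c1.trans (Nat.mul_le_mul_left _ h2)) h3
          _ = Nat.card N₀ * (2 * Nat.card Fx ^ 2) := by ring
      exact Nat.le_of_mul_le_mul_left h4 hN₀pos
    · -- case B
      push Not at hδ
      obtain ⟨q, hq, hδq⟩ := hδ
      have h3 : Nat.card Fix ≤ Nat.card Fx := by
        have hmem : ∀ v : Fix, v.1 1 = 0 ∧ α p (v.1 0) = v.1 0 := by
          intro v
          obtain ⟨x, y, hxy⟩ := exists_vec v.1
          have h6 := v.2 q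
          have h7 := v.2 p
          rw [hxy] at h6 h7 ⊢
          rw [hP₀ q hq] at h6
          have e1 := (vec_inj h6).1
          have e2 : δ q * y = 0 := by linear_combination e1
          have e3 : y = 0 := (mul_eq_zero.1 e2).resolve_left hδq
          subst e3
          rw [hp0] at h7
          exact ⟨rfl, (vec_inj h7).1⟩
        refine Nat.card_le_card_of_injective (fun v : Fix => (⟨v.1 0, (hmem v).2⟩ : Fx)) ?_
        intro a b hab
        have e1 : a.1 0 = b.1 0 := congrArg Subtype.val hab
        apply Subtype.ext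
        rw [vec_eq a.1, vec_eq b.1, e1, (hmem a).1, (hmem b).1]
      let D : Set F := {d | α p d = d * β p}
      have h4 : Nat.card D ≤ Nat.card Fx := by
        refine card_le_of_ratio (Fx := (Fx : Set F)) Fx.zero_mem ?_
        intro d hd d' hd' hne'
        change α p (d / d') = d / d'
        rw [map_div₀, show α p d = d * β p from hd, show α p d' = d' * β p from hd',
          mul_div_mul_right _ _ (hβ p)]
      have h5 : Nat.card P₀ ≤ Nat.card D * Nat.card N₀ := by
        rw [← Nat.card_prod]
        have hδm : ∀ a ∈ P₀, ∀ b ∈ P₀, ∀ x y, g (a * b) ![x, y] = ![x + (δ a + δ b) * y, y] := by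
          intro a ha b hb x y
          rw [hmul, hP₀ b hb, hP₀ a ha]
          congr 1
          ring
        let r : D → P := fun d => if hd : ∃ a : P₀, δ a.1 = d.1 then hd.choose.1 else 1
        have hr1 : ∀ a : P₀, r ⟨δ a.1, hcp a.1 a.2⟩ ∈ P₀ ∧ δ (r ⟨δ a.1, hcp a.1 a.2⟩) = δ a.1 := by
          intro a
          have hd : ∃ a' : P₀, δ a'.1 = δ a.1 := ⟨a, rfl⟩
          have e : r ⟨δ a.1, hcp a.1 a.2⟩ = hd.choose.1 := by simp only [r, hd, dite_true]
          rw [e]
          exact ⟨hd.choose.2, hd.choose_spec⟩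
        refine Nat.card_le_card_of_injective (fun a : P₀ =>
          ((⟨δ a.1, hcp a.1 a.2⟩ : D), (⟨r ⟨δ a.1, hcp a.1 a.2⟩ * a.1, fun v => by
            obtain ⟨x, y, rfl⟩ := exists_vec v
            rw [hδm _ (hr1 a).1 _ a.2, (hr1 a).2]
            have : δ a.1 + δ a.1 = 0 := CharTwo.add_self_eq_zero _
            rw [this, zero_mul, add_zero]⟩ : N₀))) ?_
        intro a b hab
        have e1 := congrArg (fun s => s.1) hab
        have e2 := congrArg (fun s => s.2.1) hab
        simp only at e1 e2
        rw [e1] at e2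
        exact Subtype.ext (mul_left_cancel e2)
      have h6 : Nat.card N₀ * Nat.card F ^ 2 ≤ Nat.card N₀ * (2 * Nat.card Fx ^ 2) := by
        calc Nat.card N₀ * Nat.card F ^ 2 ≤ Nat.card P * Nat.card Fix := hmu'
          _ ≤ (2 * (Nat.card D * Nat.card N₀)) * Nat.card Fx :=
              Nat.mul_le_mul (c1.trans (Nat.mul_le_mul_left _ h5)) h3
          _ ≤ (2 * (Nat.card Fx * Nat.card N₀)) * Nat.card Fx := by gcongr
          _ = Nat.card N₀ * (2 * Nat.card Fx ^ 2) := by ring
      exact Nat.le_of_mul_le_mul_left h6 hN₀pos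
  nlinarith [key, hr, hFx0]

end Cfsg.Agent.Omega.NO1.B0
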