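import Cfsg.Agent.Omega.NO1.B0.Seven
import Cfsg.Agent.Solvable.Gaschutz

/-!
# THEOREM B0 (bb OMEGA 18835, helper970): `L = S × K`, `K ≅ SL₂(a)` (Gaschütz)
-/

set_option autoImplicit false
set_option linter.unusedSectionVars false
set_option linter.style.haveILetI false

namespace Cfsg.Agent.Omega.NO1.B0

open Subgroup Cfsg.Agent.Omega.NO1.AB
open scoped Pointwise

universe u

variable {Y : Type u} [Group Y] {V : Type u} [AddCommGroup V] [DistribMulAction Y V]

namespace Out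

variable {T : Sylow 2 Y} {M L : Subgroup Y} {A Q L₁ : Subgroup L} {R : Sylow 2 L} {E F : AddSubgroup V}
  {z : V} {t : Y} (o : Out T M L A Q L₁ R E F z t)
include o

/-- `R = A` -/
theorem R_eq [Finite Y] [Finite V] : (R : Subgroup L) = A := by
  have h := o.hyp
  apply le_antisymm _ h.loc.AR
  intro r hr
  obtain ⟨K, i1, i2, i3, e, hc⟩ := h.exists_co
  have hrz : r • z = z := h.loc.zR r hr
  have hrT : (r : Y) ∈ T := h.RT r hr
  have hrN : (r : Y) ∈ NX L V Q := h.AN r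
  obtain ⟨s, hs⟩ := hc.act r
  have hs1 : s.mulVec ![1, 0] = ![1, 0] := by
    have h1 := hs ⟨z, h.loc.z_mem.1⟩ ⟨z, h.loc.z_mem.1⟩ hrz.symm
    rw [hc.ez _ rfl] at h1
    exact h1.symm
  have h1 : ∀ x ∈ fx V Q ⊓ F, (r : Y) • x = x := by
    intro x hx
    have h2 := hs ⟨x, hx.1⟩ ⟨r • x, h.Xmem hx.1⟩ rfl
    have h3 : e ⟨x, hx.1⟩ = e ⟨x, hx.1⟩ 0 • ![1, 0] := by
      rw [smul_vec, mul_one, mul_zero]
      have h4 := vec_eq (e ⟨x, hx.1⟩)
      rwa [(hc.memF ⟨x, hx.1⟩).1 hx.2] at h4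
    rw [h3, Matrix.mulVec_smul, hs1, ← h3] at h2
    exact congrArg Subtype.val (e.injective h2)
  obtain ⟨x, hx, hxF⟩ : ∃ x ∈ fx V Q, x ∉ F := by
    obtain ⟨l, hl⟩ := exists_out h.loc h.beta
    refine ⟨l • z, h.Xmem h.loc.z_mem.1, fun h3 => ?_⟩
    have h4 := h.loc.mem_C_of_F hl (smul_mem_smul_as h.loc.z_mem) h3
    rw [h.C0, AddSubgroup.mem_bot, smul_eq_zero_iff_eq] at h4
    exact h.z_ne h4
  have h2 := (h.s2 hrT hrN h1).1 x hx
  obtain ⟨a, ha, c, hc', h3⟩ := h.beta.full x hx hxF _ h2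
  rw [h.C0, AddSubgroup.mem_bot] at hc'
  rw [hc', add_zero] at h3
  have h4 : (a : Y) • x = (r : Y) • x := add_right_cancel h3
  have h7 := (h.s2 (p := (a : Y)⁻¹ * r) (mul_mem (inv_mem (h.AT ha)) hrT) (mul_mem (inv_mem (h.AN a)) hrN) (by
    intro f hf
    rw [mul_smul, h1 f hf, inv_smul_eq_iff]
    exact (h.loc.mem.FB a ha f hf.2).symm)).2 x hx hxF (by rw [mul_smul, ← h4, inv_smul_smul])
  have h8 : a⁻¹ * r ∈ Q := o.CL _ h7
  have h9 := mul_mem ha (o.QA h8)
  rwa [mul_inv_cancel_left] at h9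

/-- `L = S × K` -/
theorem exists_compl [Finite Y] [Finite V] : ∃ K : Subgroup L, K ⊓ Q = ⊥ ∧ K ⊔ Q = ⊤ ∧ K.Normal := by
  have : Fact (Nat.Prime 2) := ⟨Nat.prime_two⟩
  have h := o.hyp
  haveI := h.loc.Qn
  haveI : IsMulCommutative Q := ⟨⟨fun a b => Subtype.ext (o.Qz a a.2 b)⟩⟩
  have hb : Function.Bijective fun k : Q => k ^ A.index := by
    have hcop : (Nat.card Q).Coprime A.index := by
      obtain ⟨n, hn⟩ := IsPGroup.iff_card.1 h.loc.Q2
      rw [hn]
      apply Nat.Coprime.pow_left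
      rw [Nat.prime_two.coprime_iff_not_dvd, ← o.R_eq]
      exact R.not_dvd_index
    exact hcop.pow_left_bijective
  -- the complement `S^t` in `A`
  let B : Subgroup L :=
    { carrier := {b | ∃ q ∈ Q, (b : Y) = t * q * t⁻¹}
      mul_mem' := by
        rintro a b ⟨q, hq, h1⟩ ⟨q', hq', h2⟩
        refine ⟨q * q', mul_mem hq hq', ?_⟩
        rw [coe_mul, coe_mul, h1, h2]; group
      one_mem' := ⟨1, one_mem _, by simp⟩
      inv_mem' := by
        rintro a ⟨q, hq, h1⟩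
        refine ⟨q⁻¹, inv_mem hq, ?_⟩
        rw [coe_inv, coe_inv, h1]; group }
  have hB1 : B ⊓ Q = ⊥ := by
    rw [eq_bot_iff]
    rintro b ⟨⟨q, hq, h1⟩, hb⟩
    rw [mem_bot]
    exact o.inf1 b hb q hq h1
  have hB2 : Q ⊔ B = A := by
    apply le_antisymm
    · refine sup_le o.QA ?_
      rintro b ⟨q, hq, h1⟩
      obtain ⟨c, hc, h2⟩ := o.QtA q hq
      have : b = c := Subtype.ext (h1.trans h2.symm)
      rwa [this]
    · intro b hb
      obtain ⟨q, hq, q', hq', h1⟩ := o.prod b hb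
      obtain ⟨c, hc, h2⟩ := o.QtA q' hq'
      have h3 : b = q * c := Subtype.ext (by rw [coe_mul, h2, h1])
      rw [h3]
      exact mul_mem (mem_sup_left hq) (mem_sup_right ⟨q', hq', h2⟩)
  obtain ⟨K, hK⟩ := Cfsg.Agent.Solvable.Gaschutz.exists_complement Q A hb B hB1 hB2
  have hsup : K ⊔ Q = ⊤ := by rw [sup_comm]; exact hK.sup_eq_top
  refine ⟨K, by rw [inf_comm]; exact hK.disjoint.eq_bot, hsup, ?_⟩
  rw [← normalizer_eq_top_iff, eq_top_iff, ← hsup]
  refine sup_le le_normalizer ?_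
  intro q hq
  rw [mem_normalizer_iff]
  intro x
  rw [o.Qz q hq x, mul_inv_cancel_right]

/-- **`K ≅ SL₂(a)`** -/
theorem exists_K [Finite Y] [Finite V] :
    ∃ (𝕂 : Type) (_ : Field 𝕂) (_ : Fintype 𝕂) (_ : CharP 𝕂 2) (e : ↥(fx V Q) ≃+ (Fin 2 → 𝕂)) (K : Subgroup L)
      (φ : K ≃* Matrix.SpecialLinearGroup (Fin 2) 𝕂), OutK o K 𝕂 e φ ∧ ∀ v : ↥(fx V Q), (v : V) = z → e v = ![1, 0] := by
  have h := o.hyp
  obtain ⟨𝕂, i1, i2, i3, e, h1, h2, h3, h4, h5⟩ := exists_coord' h.loc h.beta h.C0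
  obtain ⟨K, hK1, hK2, hK3⟩ := o.exists_compl
  choose f hf using h3
  have huniq : ∀ s s' : Matrix.SpecialLinearGroup (Fin 2) 𝕂, (∀ v : ↥(fx V Q), s.1.mulVec (e v) = s'.1.mulVec (e v)) →
      s = s' := by
    intro s s' hss
    apply Subtype.ext
    apply Matrix.mulVec_injective
    funext w
    have := hss (e.symm w)
    rwa [e.apply_symm_apply] at this
  let ψ : L →* Matrix.SpecialLinearGroup (Fin 2) 𝕂 := MonoidHom.mk' f (by
    intro a b
    apply huniq
    intro v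
    rw [← hf, Matrix.SpecialLinearGroup.coe_mul, ← Matrix.mulVec_mulVec, ← hf b v, ← hf a]
    congr 1
    exact Subtype.ext (mul_smul a b (v : V)))
  have hker : ∀ l, ψ l = 1 ↔ l ∈ Q := by
    intro l
    constructor
    · intro hl
      apply o.CL
      intro x hx
      have h6 := hf l ⟨x, hx⟩
      have h7 : f l = 1 := hl
      rw [h7, Matrix.SpecialLinearGroup.coe_one, Matrix.one_mulVec] at h6
      exact congrArg Subtype.val (e.injective h6)
    · intro hl
      apply huniq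
      intro v
      change (f l).1.mulVec (e v) = _
      rw [← hf, Matrix.SpecialLinearGroup.coe_one, Matrix.one_mulVec]
      congr 1
      exact Subtype.ext (v.2 l hl)
  have hsurj : ∀ s, ∃ l, ψ l = s := by
    intro s
    obtain ⟨l, hl⟩ := h4 s
    refine ⟨l, huniq _ _ fun v => ?_⟩
    rw [← hl v]
    exact (hf l v).symm
  let φ₀ : K →* Matrix.SpecialLinearGroup (Fin 2) 𝕂 := ψ.comp K.subtype
  have hφ₀ : Function.Bijective φ₀ := by
    constructor
    · rw [injective_iff_map_eq_one]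
      intro k hk
      have h6 : (k : L) ∈ K ⊓ Q := ⟨k.2, (hker _).1 hk⟩
      rw [hK1, mem_bot] at h6
      exact Subtype.ext h6
    · intro s
      obtain ⟨l, hl⟩ := hsurj s
      have h6 : l ∈ K ⊔ Q := by rw [hK2]; exact mem_top l
      haveI := h.loc.Qn
      obtain ⟨k, hk, q, hq, rfl⟩ := mem_sup_of_normal_right.1 h6
      refine ⟨⟨k, hk⟩, ?_⟩
      rw [map_mul, (hker q).2 hq, mul_one] at hl
      exact hl
  refine ⟨𝕂, i1, i2, i3, e, K, MulEquiv.ofBijective φ₀ hφ₀, ?_, ?_⟩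
  · exact
      { inf := hK1
        sup := hK2
        normal := hK3
        card := by
          rw [h1, inf_eq_right.2 o.FX, o.cF]
        act := by
          intro k v w hw
          change _ = (f k).1.mulVec (e v)
          rw [← hf]
          congr 1
          exact Subtype.ext hw
        memF := h2 }
  · intro v hv
    rw [← h5]
    congr 1
    exact Subtype.ext hv

end Out

end Cfsg.Agent.Omega.NO1.B0
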