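import Cfsg.Agent.Omega.NO1.B0.Compl

/-!
# THEOREM B0 (bb OMEGA 18835, helper970), (8): coordinates (shortcut, helper321)

`ê : V → 𝕂²` extends the coordinates on `X`; `Q` acts through `𝕂`-scalars `V/X ≅ X`, `Q^t` through `𝕂`-scalars
`V/X' ≅ X'`; the two `𝕂`-structures agree on `F` (after a field automorphism).
-/

set_option autoImplicit false
set_option linter.unusedSectionVars false
set_option linter.style.haveILetI false

namespace Cfsg.Agent.Omega.NO1.B0

open Subgroup Cfsg.Agent.Omega.NO1.AB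
open scoped Pointwise

universe u

/-- Schur: an additive map commuting with `SL₂(k)` is a scalar -/
theorem schur {k : Type*} [Field k] (f : (Fin 2 → k) →+ (Fin 2 → k))
    (hf : ∀ (s : Matrix.SpecialLinearGroup (Fin 2) k) v, f (s.1.mulVec v) = s.1.mulVec (f v)) :
    ∃ c : k, ∀ v, f v = c • v := by
  -- `f (1,0) = (c,0)`
  have h1 : f ![1, 0] 1 = 0 := by
    have h2 := hf ⟨!![1, 1; 0, 1], by simp⟩ ![1, 0]
    have h3 : (!![1, 1; 0, 1] : Matrix (Fin 2) (Fin 2) k).mulVec ![1, 0] = ![1, 0] := by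
      ext i; fin_cases i <;> simp [Matrix.mulVec, dotProduct, Fin.sum_univ_two]
    change f ((!![1, 1; 0, 1] : Matrix (Fin 2) (Fin 2) k).mulVec ![1, 0]) = _ at h2
    rw [h3] at h2
    have h4 := congrFun h2 0
    simp [Matrix.mulVec, dotProduct, Fin.sum_univ_two] at h4
    exact h4
  set c := f ![1, 0] 0 with hc
  have h2 : f ![1, 0] = ![c, 0] := by
    ext i; fin_cases i
    · rfl
    · exact h1
  have h3 : ∀ x, f ![x, 0] = ![c * x, 0] := by
    intro x
    by_cases hx : x = 0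
    · have : (![x, 0] : Fin 2 → k) = 0 := by
        ext i; fin_cases i <;> simp [hx]
      rw [this, map_zero, hx, mul_zero]
      ext i; fin_cases i <;> rfl
    · have h4 := hf ⟨!![x, 0; 0, x⁻¹], by rw [Matrix.det_fin_two_of]; field_simp; ring⟩ ![1, 0]
      have h5 : (!![x, 0; 0, x⁻¹] : Matrix (Fin 2) (Fin 2) k).mulVec ![1, 0] = ![x, 0] := by
        ext i; fin_cases i <;> simp [Matrix.mulVec, dotProduct, Fin.sum_univ_two]
      have h6 : (!![x, 0; 0, x⁻¹] : Matrix (Fin 2) (Fin 2) k).mulVec ![c, 0] = ![c * x, 0] := by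
        ext i; fin_cases i <;> simp [Matrix.mulVec, dotProduct, Fin.sum_univ_two, mul_comm]
      change f ((!![x, 0; 0, x⁻¹] : Matrix (Fin 2) (Fin 2) k).mulVec ![1, 0]) =
        (!![x, 0; 0, x⁻¹] : Matrix (Fin 2) (Fin 2) k).mulVec (f ![1, 0]) at h4
      rw [h5, h2, h6] at h4
      exact h4
  have h7 : ∀ y, f ![0, y] = ![0, c * y] := by
    intro y
    have h4 := hf ⟨!![0, -1; 1, 0], by rw [Matrix.det_fin_two_of]; ring⟩ ![y, 0]
    have h5 : (!![0, -1; 1, 0] : Matrix (Fin 2) (Fin 2) k).mulVec ![y, 0] = ![0, y] := by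
      ext i; fin_cases i <;> simp [Matrix.mulVec, dotProduct, Fin.sum_univ_two]
    have h6 : (!![0, -1; 1, 0] : Matrix (Fin 2) (Fin 2) k).mulVec ![c * y, 0] = ![0, c * y] := by
      ext i; fin_cases i <;> simp [Matrix.mulVec, dotProduct, Fin.sum_univ_two]
    change f ((!![0, -1; 1, 0] : Matrix (Fin 2) (Fin 2) k).mulVec ![y, 0]) =
      (!![0, -1; 1, 0] : Matrix (Fin 2) (Fin 2) k).mulVec (f ![y, 0]) at h4
    rw [h5, h3, h6] at h4
    exact h4
  refine ⟨c, fun v => ?_⟩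
  have h8 : v = ![v 0, 0] + ![0, v 1] := by
    ext i; fin_cases i <;> simp
  rw [h8, map_add, h3, h7, smul_add]
  ext i; fin_cases i <;> simp

variable {Y : Type u} [Group Y] {V : Type u} [AddCommGroup V] [DistribMulAction Y V]

/-- an additive map extends -/
theorem exists_ext (h2 : ∀ v : V, v + v = 0) {X : AddSubgroup V} {W : Type*} [AddCommGroup W]
    (hW : ∀ w : W, w + w = 0) (e : X →+ W) : ∃ f : V →+ W, ∀ x : X, f x = e x := by
  letI : Module (ZMod 2) V := AddCommGroup.zmodModule (n := 2) fun v => by rw [two_nsmul]; exact h2 v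
  letI : Module (ZMod 2) W := AddCommGroup.zmodModule (n := 2) fun v => by rw [two_nsmul]; exact hW v
  let X' : Submodule (ZMod 2) V := AddSubgroup.toZModSubmodule 2 X
  let e' : X' →ₗ[ZMod 2] W := AddMonoidHom.toZModLinearMap 2 (e : X' →+ W)
  obtain ⟨g, hg⟩ := LinearMap.exists_extend e'
  refine ⟨g.toAddMonoidHom, fun x => ?_⟩
  exact congrArg (fun f : X' →ₗ[ZMod 2] W => f x) hg

/-- the coordinates on `X`, extended to `V` -/
structure Crd {L : Subgroup Y} (Q : Subgroup L) (F : AddSubgroup V) (K : Subgroup L) (k : Type) [Field k]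
    (g : V →+ (Fin 2 → k)) : Prop where
  inj : ∀ x ∈ fx V Q, g x = 0 → x = 0
  surj : ∀ w, ∃ x ∈ fx V Q, g x = w
  memF : ∀ x ∈ fx V Q, (x ∈ F ↔ g x 1 = 0)
  act : ∀ l : L, ∃ s : Matrix.SpecialLinearGroup (Fin 2) k, ∀ x ∈ fx V Q, g (l • x) = s.1.mulVec (g x)
  act' : ∀ s : Matrix.SpecialLinearGroup (Fin 2) k, ∃ l ∈ K, ∀ x ∈ fx V Q, g (l • x) = s.1.mulVec (g x)

namespace Out

variable {T : Sylow 2 Y} {M L : Subgroup Y} {A Q L₁ : Subgroup L} {R : Sylow 2 L} {E F : AddSubgroup V}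
  {z : V} {t : Y} (o : Out T M L A Q L₁ R E F z t)
include o

theorem two (v : V) : v + v = 0 := o.hyp.two v

theorem exists_crd [Finite Y] [Finite V] {K : Subgroup L} {k : Type} [Field k] [CharP k 2]
    {e : ↥(fx V Q) ≃+ (Fin 2 → k)} {φ : K ≃* Matrix.SpecialLinearGroup (Fin 2) k} (ok : OutK o K k e φ) :
    ∃ g : V →+ (Fin 2 → k), Crd Q F K k g ∧ ∀ x : ↥(fx V Q), g x = e x := by
  obtain ⟨g, hg⟩ := exists_ext o.two (fun w => by
    ext i
    exact CharTwo.add_self_eq_zero _) e.toAddMonoidHom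
  have hg' : ∀ x : ↥(fx V Q), g x = e x := hg
  have hK : ∀ (κ : K) (x : V), x ∈ fx V Q → g ((κ : L) • x) = (φ κ).1.mulVec (g x) := by
    intro κ x hx
    have h1 := ok.act κ ⟨x, hx⟩ ⟨(κ : L) • x, o.hyp.Xmem hx⟩ rfl
    rw [← hg', ← hg'] at h1
    exact h1
  refine ⟨g, ?_, hg'⟩
  exact
    { inj := by
        intro x hx h1
        have h2 := hg' ⟨x, hx⟩
        change g x = _ at h2
        rw [h1, eq_comm, map_eq_zero_iff e e.injective] at h2
        exact congrArg Subtype.val h2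
      surj := by
        intro w
        refine ⟨e.symm w, (e.symm w).2, ?_⟩
        rw [hg', e.apply_symm_apply]
      memF := by
        intro x hx
        rw [show g x = e ⟨x, hx⟩ from hg' ⟨x, hx⟩]
        exact ok.memF ⟨x, hx⟩
      act := by
        intro l
        haveI := o.hyp.loc.Qn
        have h1 : l ∈ K ⊔ Q := by rw [ok.sup]; exact mem_top l
        obtain ⟨κ, hκ, q, hq, rfl⟩ := mem_sup_of_normal_right.1 h1
        refine ⟨φ ⟨κ, hκ⟩, fun x hx => ?_⟩
        rw [mul_smul, hx q hq]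
        exact hK ⟨κ, hκ⟩ x hx
      act' := by
        intro s
        refine ⟨(φ.symm s : K), (φ.symm s).2, fun x hx => ?_⟩
        rw [hK _ x hx, φ.apply_symm_apply] }

theorem act_eq_one {y : Y} (hy : ∀ v : V, y • v + v = 0) : y = 1 :=
  o.hyp.faith y fun v => o.hyp.eq_of_add (hy v)

/-- `Q` acts by `𝕂`-scalars `V/X ≅ X` -/
theorem exists_c [Finite Y] [Finite V] {K : Subgroup L} {k : Type} [Field k] [Finite k]
    {g : V →+ (Fin 2 → k)} (hg : Crd Q F K k g) (hcard : Nat.card k = E.index) {q₀ : L} (hq₀ : q₀ ∈ Q)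
    (hq₀1 : q₀ ≠ 1) :
    ∃ c : L → k, (∀ q ∈ Q, ∀ v : V, g (q • v + v) = c q • g (q₀ • v + v)) ∧
      (∀ d : k, ∃ q ∈ Q, c q = d) ∧ (∀ q ∈ Q, q ≠ 1 → c q ≠ 0) := by
  classical
  let N : V →+ (Fin 2 → k) := g.comp (HE.dl (V := V) q₀)
  have hNs : Function.Surjective N := by
    intro w
    obtain ⟨x, hx, hxw⟩ := hg.surj w
    obtain ⟨v, hv⟩ := o.Qsurj q₀ hq₀ hq₀1 x hx
    refine ⟨v, ?_⟩
    change g (q₀ • v + v) = w
    rw [hv, hxw]
  have hNk : ∀ v, N v = 0 → v ∈ fx V Q := by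
    intro v hv
    apply o.Qfix q₀ hq₀ hq₀1
    exact o.hyp.eq_of_add (hg.inj _ (o.QV q₀ hq₀ v) hv)
  have key : ∀ q ∈ Q, ∃ c : k, ∀ v : V, g (q • v + v) = c • g (q₀ • v + v) := by
    intro q hq
    let Mq : V →+ (Fin 2 → k) := g.comp (HE.dl (V := V) q)
    have hker : N.ker ≤ Mq.ker := by
      intro v hv
      have h1 := hNk v hv
      change g (q • v + v) = 0
      rw [h1 q hq, o.two, map_zero]
    let f : (Fin 2 → k) →+ (Fin 2 → k) :=
      N.liftOfRightInverse (Function.surjInv hNs) (Function.rightInverse_surjInv hNs) ⟨Mq, hker⟩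
    have hf : ∀ v, f (N v) = Mq v := fun v => AddMonoidHom.liftOfRightInverse_comp_apply _ _ _ _ v
    obtain ⟨c, hc⟩ := schur f (by
      intro s w
      obtain ⟨v, rfl⟩ := hNs w
      obtain ⟨l, -, hl⟩ := hg.act' s
      have h1 : ∀ q ∈ Q, g (q • (l • v) + l • v) = s.1.mulVec (g (q • v + v)) := by
        intro q hq
        rw [← hl _ (o.QV q hq v), smul_add, ← mul_smul, ← mul_smul, o.Qz q hq l]
      have h2 : s.1.mulVec (N v) = N (l • v) := (h1 q₀ hq₀).symm
      rw [h2, hf, hf]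
      exact h1 q hq)
    refine ⟨c, fun v => ?_⟩
    have := hc (N v)
    rw [hf] at this
    exact this
  choose! c hc using key
  have hcn : ∀ q ∈ Q, q ≠ 1 → c q ≠ 0 := by
    intro q hq hq1 h0
    apply hq1
    have h1 : (q : Y) = 1 := by
      apply o.act_eq_one
      intro v
      have h2 := hc q hq v
      rw [h0, zero_smul] at h2
      exact hg.inj _ (o.QV q hq v) h2
    exact Subtype.ext h1
  refine ⟨c, hc, ?_, hcn⟩
  -- bijection
  let f : Q → k := fun q => c q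
  have hN0 : ∃ v : V, g (q₀ • v + v) ≠ 0 := by
    obtain ⟨v, hv⟩ := hNs ![1, 0]
    refine ⟨v, fun h1 => ?_⟩
    have h2 : (![1, 0] : Fin 2 → k) = 0 := hv.symm.trans h1
    have := congrFun h2 0
    simp at this
  have hf : Function.Injective f := by
    intro q q' hqq
    by_contra hne
    have h1 : (q : L)⁻¹ * q' ∈ Q := mul_mem (inv_mem q.2) q'.2
    have h2 : (q : L)⁻¹ * q' ≠ 1 := by
      rw [Ne, inv_mul_eq_one]
      exact fun h3 => hne (Subtype.ext h3)
    apply h2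
    have h3 : (((q : L)⁻¹ * q' : L) : Y) = 1 := by
      apply o.hyp.faith
      intro v
      have h4 := hc q q.2 v
      have h5 := hc q' q'.2 v
      change c q = c q' at hqq
      rw [hqq, ← h5] at h4
      have h6 : (q : L) • v + v = (q' : L) • v + v := by
        have h7 : g ((q : L) • v + v + ((q' : L) • v + v)) = 0 := by
          rw [map_add, h4, ← map_add, o.two, map_zero]
        exact o.hyp.eq_of_add (hg.inj _ ((fx V Q).add_mem (o.QV _ q.2 v) (o.QV _ q'.2 v)) h7)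
      have h7 : (q : L) • v = (q' : L) • v := add_right_cancel h6
      change ((q : L)⁻¹ * q') • v = v
      rw [mul_smul, ← h7, inv_smul_smul]
    exact Subtype.ext h3
  have hs := ((Nat.bijective_iff_injective_and_card f).2 ⟨hf, by rw [o.cQ, hcard]⟩).2
  intro d
  obtain ⟨q, hq⟩ := hs d
  exact ⟨q, q.2, hq⟩

/-- `A` acts on `X` by transvections -/
theorem exists_κ [Finite Y] [Finite V] {K : Subgroup L} {k : Type} [Field k] [CharP k 2]
    {g : V →+ (Fin 2 → k)} (hg : Crd Q F K k g) :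
    ∃ κ : L → k, ∀ b ∈ A, ∀ x ∈ fx V Q, g (b • x + x) = ![κ b * g x 1, 0] := by
  have key : ∀ b ∈ A, ∃ κ : k, ∀ x ∈ fx V Q, g (b • x + x) = ![κ * g x 1, 0] := by
    intro b hb
    obtain ⟨s, hs⟩ := hg.act b
    obtain ⟨f, hf, hf1⟩ := hg.surj ![1, 0]
    have hfF : f ∈ F := (hg.memF f hf).2 (by rw [hf1]; rfl)
    have h1 := hs f hf
    rw [o.hyp.loc.mem.FB b hb f hfF, hf1] at h1
    have h2 := congrFun h1 0
    have h3 := congrFun h1 1
    simp [Matrix.mulVec, dotProduct, Fin.sum_univ_two] at h2 h3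
    have h4 := s.2
    rw [Matrix.det_fin_two, ← h2, ← h3, one_mul, mul_zero, sub_zero] at h4
    refine ⟨s.1 0 1, fun x hx => ?_⟩
    rw [map_add, hs x hx]
    ext i
    fin_cases i
    · simp [← h2]
      have h5 : g x 0 + g x 0 = 0 := CharTwo.add_self_eq_zero _
      have : g x 0 + s.1 0 1 * g x 1 + g x 0 = (g x 0 + g x 0) + s.1 0 1 * g x 1 := by ring
      rw [this, h5, zero_add]
    · simp [← h3, h4]
      exact CharTwo.add_self_eq_zero _
  choose! κ hκ using key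
  exact ⟨κ, hκ⟩

end Out

/-- the abstract computation: `ρ` is semilinear -/
theorem rho_mul {k : Type*} [Field k] {ι W : Type*} (ρ : k → k) (c κ κ' : ι → k)
    (ν ν' : W → k) (hc : ∀ d, ∃ i, c i = d) (hκ : ∃ i, κ i = 1) (hν : ∀ d, ∃ w, ν w = d)
    (h : ∀ i j w, ρ (κ j * c i * ν w) = κ' i * c j * ν' w) (x y : k) : ρ (x * y) * ρ 1 = ρ x * ρ y := by
  obtain ⟨j, hj⟩ := hκ
  obtain ⟨i, hi⟩ := hc x
  obtain ⟨i₁, hi₁⟩ := hc 1
  obtain ⟨w, hw⟩ := hν y
  obtain ⟨w₁, hw₁⟩ := hν 1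
  have h1 := h i j w
  have h2 := h i₁ j w₁
  have h3 := h i j w₁
  have h4 := h i₁ j w
  rw [hj, hi, hw, one_mul] at h1
  rw [hj, hi₁, hw₁, one_mul, mul_one] at h2
  rw [hj, hi, hw₁, one_mul, mul_one] at h3
  rw [hj, hi₁, hw, one_mul, one_mul] at h4
  rw [h1, h2, h3, h4]
  ring

/-- the coordinates: `S = Q`, `S' = t Q t⁻¹` -/
structure Cd {L : Subgroup Y} (Q : Subgroup L) (E F : AddSubgroup V) (t : Y) (k : Type) [Field k]
    (g g' N N' : V →+ (Fin 2 → k)) (c c' : Y → k) (κ : k) : Prop where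
  injX : ∀ x ∈ fx V Q, g x = 0 → x = 0
  injX' : ∀ x ∈ t • (fx V Q : AddSubgroup V), g' x = 0 → x = 0
  surjX : ∀ w, ∃ x ∈ fx V Q, g x = w
  memF : ∀ x ∈ fx V Q, (x ∈ F ↔ g x 1 = 0)
  memF' : ∀ x ∈ t • (fx V Q : AddSubgroup V), (x ∈ F ↔ g' x 1 = 0)
  gF : ∀ f ∈ F, g' f = g f
  memE : ∀ v, v ∈ E ↔ N v 1 = 0
  surjN : ∀ w, ∃ v, N v = w
  cN : ∀ q ∈ Q, ∀ v : V, g ((q : Y) • v + v) = c q • N v
  cN' : ∀ q ∈ Q, ∀ v : V, g' ((t * (q : Y) * t⁻¹) • v + v) = c' (t * (q : Y) * t⁻¹) • N' v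
  c_surj : ∀ d : k, ∃ q ∈ Q, c (q : Y) = d
  c'_surj : ∀ d : k, ∃ q ∈ Q, c' (t * (q : Y) * t⁻¹) = d
  c_ne : ∀ q ∈ Q, (q : Y) ≠ 1 → c (q : Y) ≠ 0
  c'_ne : ∀ q ∈ Q, (q : Y) ≠ 1 → c' (t * (q : Y) * t⁻¹) ≠ 0
  κ_ne : κ ≠ 0
  κX : ∀ q ∈ Q, ∀ x ∈ fx V Q, g ((t * (q : Y) * t⁻¹) • x + x) = ![κ * c' (t * (q : Y) * t⁻¹) * g x 1, 0]

namespace Out

variable {T : Sylow 2 Y} {M L : Subgroup Y} {A Q L₁ : Subgroup L} {R : Sylow 2 L} {E F : AddSubgroup V}
  {z : V} {t : Y} (o : Out T M L A Q L₁ R E F z t)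
include o

/-- `t⁻¹ A t ≤ A` -/
theorem tA_inv [Finite Y] {b : L} (hb : b ∈ A) : ∃ c ∈ A, (c : Y) = t⁻¹ * b * t := by
  have h1 : ∀ b ∈ A.map L.subtype, t * b * t⁻¹ ∈ A.map L.subtype := by
    rintro _ ⟨b, hb, rfl⟩
    obtain ⟨c, hc, h1⟩ := o.tA b hb
    exact ⟨c, hc, h1⟩
  have h2 : MulAut.conj t • A.map L.subtype = A.map L.subtype := by
    apply conj_eq_self_of_le
    intro y hy
    rw [mem_conj] at hy
    have := h1 _ hy
    have e : t * (t⁻¹ * y * t) * t⁻¹ = y := by group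
    rwa [e] at this
  have h3 : (b : Y) ∈ MulAut.conj t • A.map L.subtype := by rw [h2]; exact ⟨b, hb, rfl⟩
  rw [mem_conj] at h3
  obtain ⟨c, hc, h4⟩ := h3
  exact ⟨c, hc, h4⟩

theorem exists_cd [Finite Y] [Finite V] {K : Subgroup L} {k : Type} [Field k] [Finite k] [CharP k 2]
    {e : ↥(fx V Q) ≃+ (Fin 2 → k)} {φ : K ≃* Matrix.SpecialLinearGroup (Fin 2) k} (ok : OutK o K k e φ) :
    ∃ (g g' N N' : V →+ (Fin 2 → k)) (c c' : Y → k) (κ : k), Cd Q E F t k g g' N N' c c' κ ∧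
      (∀ x : ↥(fx V Q), g x = e x) ∧ ∃ q₀ ∈ Q, ∀ v, N v = g (q₀ • v + v) := by
  classical
  have h := o.hyp
  obtain ⟨g, hg, hge⟩ := o.exists_crd ok
  obtain ⟨q₀, hq₀, hq₀1⟩ := h.exists_q o.tk
  obtain ⟨c, hc, hcs, hcn⟩ := o.exists_c hg ok.card hq₀ hq₀1
  obtain ⟨κ, hκ⟩ := o.exists_κ hg
  set X : AddSubgroup V := fx V Q with hX
  let N : V →+ (Fin 2 → k) := g.comp (HE.dl (V := V) q₀)
  have hN : ∀ v, N v = g (q₀ • v + v) := fun _ => rfl
  have hNs : ∀ w, ∃ v, N v = w := by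
    intro w
    obtain ⟨x, hx, hxw⟩ := hg.surj w
    obtain ⟨v, hv⟩ := o.Qsurj q₀ hq₀ hq₀1 x hx
    exact ⟨v, by rw [hN, hv, hxw]⟩
  have hNE : ∀ v, v ∈ E ↔ N v 1 = 0 := by
    intro v
    rw [hN, ← hg.memF _ (o.QV q₀ hq₀ v)]
    constructor
    · intro hv
      exact h.loc.mem.EB q₀ (o.QA hq₀) v hv
    · intro hv
      by_contra hvE
      exact hq₀1 (h.loc.mem.inj v hvE q₀ (o.QA hq₀) hv)
  -- `t⁻¹ q t ∈ A`
  have htq : ∀ q : Q, ∃ b ∈ A, (b : Y) = t⁻¹ * ((q : L) : Y) * t := fun q => o.tA_inv (o.QA q.2)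
  choose tq htqA htq using htq
  have hqt : ∀ q : Q, ∃ b ∈ A, (b : Y) = t * ((q : L) : Y) * t⁻¹ := fun q => o.QtA q q.2
  choose qt hqtA hqt using hqt
  -- the vector `(α, 0)`
  have hfv : ∀ α : k, ∃ f ∈ F, g f = ![α, 0] := by
    intro α
    obtain ⟨x, hx, hx1⟩ := hg.surj ![α, 0]
    exact ⟨x, (hg.memF x hx).2 (by rw [hx1]; rfl), hx1⟩
  choose fv hfvF hfv using hfv
  have htF : ∀ f ∈ F, t⁻¹ • f ∈ F := by
    intro f hf
    rw [← mem_smul_as, o.tF]
    exact hf
  let ρ : k → k := fun α => g (t⁻¹ • fv α) 0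
  have hρ : ∀ f ∈ F, ρ (g f 0) = g (t⁻¹ • f) 0 := by
    intro f hf
    have h1 : fv (g f 0) = f := by
      have h2 : g (fv (g f 0) + f) = 0 := by
        rw [map_add, hfv]
        ext i
        fin_cases i
        · exact CharTwo.add_self_eq_zero _
        · change 0 + g f 1 = 0
          rw [(hg.memF f (o.FX hf)).1 hf, add_zero]
      exact h.eq_of_add (hg.inj _ ((fx V Q).add_mem (o.FX (hfvF _)) (o.FX hf)) h2)
    change g (t⁻¹ • fv (g f 0)) 0 = _
    rw [h1]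
  have hρadd : ∀ α β, ρ (α + β) = ρ α + ρ β := by
    intro α β
    have h1 := hρ (fv α + fv β) (F.add_mem (hfvF α) (hfvF β))
    have h2 : g (fv α + fv β) 0 = α + β := by
      rw [map_add, hfv, hfv]; rfl
    rw [h2, smul_add, map_add] at h1
    exact h1
  have hρ0 : ∀ α, ρ α = 0 → α = 0 := by
    intro α hα
    have h1 : t⁻¹ • fv α = 0 := by
      apply hg.inj _ (o.FX (htF _ (hfvF α)))
      ext i
      fin_cases i
      · exact hα
      · exact (hg.memF _ (o.FX (htF _ (hfvF α)))).1 (htF _ (hfvF α))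
    rw [smul_eq_zero_iff_eq] at h1
    have h2 := hfv α
    rw [h1, map_zero] at h2
    exact (congrFun h2 0).symm
  -- the key identity
  have hkey : ∀ (i j : Q) (v : V), ρ (κ (qt j) * c i * N v 1) = κ (tq i) * c j * N (t⁻¹ • v) 1 := by
    intro i j v
    -- `f = [[v, q_i], r_j]`
    set y := (i : L) • v + v with hy
    have hyX : y ∈ fx V Q := o.QV i i.2 v
    have hfF : qt j • y + y ∈ F := h.loc.mem.EB _ (hqtA j) y (h.beta.XE hyX)
    have h1 : g (qt j • y + y) 0 = κ (qt j) * c i * N v 1 := by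
      rw [hκ _ (hqtA j) y hyX, hc i i.2 v]
      change κ (qt j) * (c i * N v 1) = _
      ring
    rw [← h1, hρ _ hfF]
    -- the other side
    have hcomm : qt j • y + y = (i : L) • (qt j • v + v) + (qt j • v + v) := by
      rw [hy, smul_add, smul_add, ← mul_smul, ← mul_smul, h.loc.mem.comm _ (hqtA j) _ (o.QA i.2)]
      abel
    have hconj : t⁻¹ • (qt j • y + y) = tq i • ((j : L) • (t⁻¹ • v) + t⁻¹ • v) + ((j : L) • (t⁻¹ • v) + t⁻¹ • v) := by
      have h2 : ∀ w : V, t⁻¹ • (qt j • w) = (j : L) • (t⁻¹ • w) := by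
        intro w
        change t⁻¹ • ((qt j : Y) • w) = ((j : L) : Y) • (t⁻¹ • w)
        rw [hqt j, ← mul_smul, ← mul_smul]
        congr 1
        group
      have h3 : ∀ w : V, t⁻¹ • ((i : L) • w) = tq i • (t⁻¹ • w) := by
        intro w
        change t⁻¹ • (((i : L) : Y) • w) = (tq i : Y) • (t⁻¹ • w)
        rw [htq i, ← mul_smul, ← mul_smul]
        congr 1
        group
      rw [hcomm, smul_add, h3, smul_add t⁻¹ (qt j • v) v, h2]
    have hw := o.QV (j : L) j.2 (t⁻¹ • v)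
    rw [hconj, hκ _ (htqA i) _ hw, hc j j.2 (t⁻¹ • v)]
    change κ (tq i) * (c j * N (t⁻¹ • v) 1) = _
    ring
  -- `κ` is onto on `S'`
  have hκs : ∀ d : k, ∃ j : Q, κ (qt j) = d := by
    let f : Q → k := fun j => κ (qt j)
    have hf : Function.Injective f := by
      intro j j' hjj
      -- `qt j⁻¹ qt j'` is trivial on `X`
      have h1 : ∀ x ∈ fx V Q, qt j • x = qt j' • x := by
        intro x hx
        have h2 : g ((qt j • x + x) + (qt j' • x + x)) = 0 := by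
          change κ (qt j) = κ (qt j') at hjj
          rw [map_add, hκ _ (hqtA j) x hx, hκ _ (hqtA j') x hx, hjj]
          ext i
          fin_cases i
          · exact CharTwo.add_self_eq_zero _
          · exact add_zero _
        have h3 := h.eq_of_add (hg.inj _ ((fx V Q).add_mem ((fx V Q).add_mem (h.Xmem hx) hx)
          ((fx V Q).add_mem (h.Xmem hx) hx)) h2)
        exact add_right_cancel h3
      have h2 : (qt j')⁻¹ * qt j ∈ Q := by
        apply o.CL
        intro x hx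
        rw [mul_smul, h1 x hx, inv_smul_smul]
      have h3 : (((qt j')⁻¹ * qt j : L) : Y) = t * (((j' : L)⁻¹ * (j : L) : L) : Y) * t⁻¹ := by
        rw [coe_mul, coe_inv, hqt, hqt, coe_mul, coe_inv]
        group
      have h4 := o.inf1 _ h2 _ (mul_mem (inv_mem j'.2) j.2) h3
      have h5 : t * (((j' : L)⁻¹ * (j : L) : L) : Y) * t⁻¹ = 1 := by rw [← h3, h4]; rfl
      have h6 : (((j' : L)⁻¹ * (j : L) : L) : Y) = 1 := by
        have h7 : (((j' : L)⁻¹ * (j : L) : L) : Y) = t⁻¹ * (t * (((j' : L)⁻¹ * (j : L) : L) : Y) * t⁻¹) * t := by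
          group
        rw [h7, h5]; group
      have h7 : (j' : L)⁻¹ * (j : L) = 1 := Subtype.ext h6
      rw [inv_mul_eq_one] at h7
      exact Subtype.ext h7.symm
    exact ((Nat.bijective_iff_injective_and_card f).2 ⟨hf, by rw [o.cQ, ok.card]⟩).2
  have hcs' : ∀ d : k, ∃ i : Q, c i = d := by
    intro d
    obtain ⟨q, hq, h1⟩ := hcs d
    exact ⟨⟨q, hq⟩, h1⟩
  have hνs : ∀ d : k, ∃ v : V, N v 1 = d := by
    intro d
    obtain ⟨v, hv⟩ := hNs ![0, d]
    exact ⟨v, by rw [hv]; rfl⟩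
  have hmul := rho_mul ρ (fun i : Q => c i) (fun j : Q => κ (qt j)) (fun i : Q => κ (tq i)) (fun v : V => N v 1)
    (fun v : V => N (t⁻¹ • v) 1) hcs' (hκs 1) hνs hkey
  have hρ1 : ρ 1 ≠ 0 := fun h1 => one_ne_zero (hρ0 1 h1)
  let σ₀ : k →+* k :=
    { toFun := fun x => ρ x / ρ 1
      map_one' := div_self hρ1
      map_mul' := fun x y => by
        have := hmul x y
        field_simp
        rw [mul_comm, ← this]
        ring
      map_zero' := by
        have h1 := hρadd 0 0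
        rw [add_zero] at h1
        have h2 : ρ 0 = 0 := by
          have := h1
          rwa [left_eq_add] at this
        rw [h2, zero_div]
      map_add' := fun x y => by rw [hρadd, add_div] }
  have hσb : Function.Bijective σ₀ := ⟨σ₀.injective, Finite.surjective_of_injective σ₀.injective⟩
  let σ : k ≃+* k := RingEquiv.ofBijective σ₀ hσb
  have hσ : ∀ x, σ x = ρ x / ρ 1 := fun _ => rfl
  -- `g'`
  let τ₀ : (Fin 2 → k) →+ (Fin 2 → k) := AddMonoidHom.mk' (fun w i => σ.symm (w i / ρ 1)) (by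
    intro v w
    ext i
    change σ.symm ((v i + w i) / ρ 1) = _
    rw [add_div, map_add]; rfl)
  have hτ₀ : ∀ w i, τ₀ w i = σ.symm (w i / ρ 1) := fun _ _ => rfl
  have hτ₀inj : ∀ w, τ₀ w = 0 → w = 0 := by
    intro w hw
    ext i
    have h1 := congrFun hw i
    rw [hτ₀] at h1
    have h2 : w i / ρ 1 = 0 := (map_eq_zero_iff σ.symm σ.symm.injective).1 h1
    exact (div_eq_zero_iff.1 h2).resolve_right hρ1
  have hτ₀s : ∀ (d : k) w, τ₀ (d • w) = σ.symm d • τ₀ w := by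
    intro d w
    ext i
    change σ.symm (d * w i / ρ 1) = σ.symm d * σ.symm (w i / ρ 1)
    rw [← map_mul, mul_div_assoc]
  let tm : V →+ V := AddMonoidHom.mk' (fun v => t⁻¹ • v) (smul_add _)
  let g' : V →+ (Fin 2 → k) := (τ₀.comp g).comp tm
  let N' : V →+ (Fin 2 → k) := (τ₀.comp N).comp tm
  have hg' : ∀ v, g' v = τ₀ (g (t⁻¹ • v)) := fun _ => rfl
  have hN' : ∀ v, N' v = τ₀ (N (t⁻¹ • v)) := fun _ => rfl
  let cY : Y → k := fun y => if hy : y ∈ L then c ⟨y, hy⟩ else 0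
  have hcY : ∀ q : L, cY q = c q := fun q => dif_pos q.2
  let cY' : Y → k := fun y => σ.symm (cY (t⁻¹ * y * t))
  have hcY' : ∀ q : L, cY' (t * (q : Y) * t⁻¹) = σ.symm (c q) := by
    intro q
    have e1 : t⁻¹ * (t * (q : Y) * t⁻¹) * t = q := by group
    change σ.symm (cY (t⁻¹ * (t * (q : Y) * t⁻¹) * t)) = _
    rw [e1, hcY]
  have hts : ∀ (q : L) (v : V), t⁻¹ • ((t * (q : Y) * t⁻¹) • v + v) = q • (t⁻¹ • v) + t⁻¹ • v := by
    intro q v
    rw [smul_add]
    congr 1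
    change _ = (q : Y) • (t⁻¹ • v)
    rw [← mul_smul, ← mul_smul]
    congr 1
    group
  -- `κ_r = κ₀ c'(r)`
  obtain ⟨i₁, hi₁⟩ := hcs' 1
  obtain ⟨v₁, hv₁⟩ := hνs 1
  set κ₀ : k := σ.symm (κ (tq i₁) * N (t⁻¹ • v₁) 1 / ρ 1) with hκ₀
  have hκc : ∀ j : Q, κ (qt j) = κ₀ * σ.symm (c j) := by
    intro j
    have h1 := hkey i₁ j v₁
    rw [hi₁, hv₁, mul_one, mul_one] at h1
    have h2 : σ (κ (qt j)) = κ (tq i₁) * N (t⁻¹ • v₁) 1 / ρ 1 * c j := by
      rw [hσ, h1]; ring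
    rw [← σ.symm_apply_apply (κ (qt j)), h2, map_mul]
  refine ⟨g, g', N, N', cY, cY', κ₀, ?_, hge, q₀, hq₀, hN⟩
  exact
    { injX := hg.inj
      injX' := by
        intro x hx h1
        rw [hg'] at h1
        have h2 := hg.inj _ (mem_smul_as.1 hx) (hτ₀inj _ h1)
        rwa [smul_eq_zero_iff_eq] at h2
      surjX := hg.surj
      memF := hg.memF
      memF' := by
        intro x hx
        have h1 : x ∈ F ↔ t⁻¹ • x ∈ F := by
          rw [← mem_smul_as (g := t) (W := F), o.tF]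
        rw [h1, hg.memF _ (mem_smul_as.1 hx), hg', hτ₀, map_eq_zero_iff σ.symm σ.symm.injective, div_eq_zero_iff]
        exact ⟨Or.inl, fun h2 => h2.resolve_right hρ1⟩
      gF := by
        intro f hf
        ext i
        rw [hg', hτ₀]
        fin_cases i
        · change σ.symm (g (t⁻¹ • f) 0 / ρ 1) = g f 0
          rw [← hρ f hf, ← hσ, σ.symm_apply_apply]
        · change σ.symm (g (t⁻¹ • f) 1 / ρ 1) = g f 1
          rw [(hg.memF _ (o.FX (htF f hf))).1 (htF f hf), (hg.memF _ (o.FX hf)).1 hf, zero_div, map_zero]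
      memE := hNE
      surjN := hNs
      cN := by
        intro q hq v
        rw [hcY]
        exact hc q hq v
      cN' := by
        intro q hq v
        rw [hcY', hg', hts, hc q hq, hτ₀s, hN']
        rfl
      c_surj := by
        intro d
        obtain ⟨q, hq, h1⟩ := hcs d
        exact ⟨q, hq, by rw [hcY, h1]⟩
      c'_surj := by
        intro d
        obtain ⟨q, hq, h1⟩ := hcs (σ d)
        exact ⟨q, hq, by rw [hcY', h1, σ.symm_apply_apply]⟩
      c_ne := by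
        intro q hq hq1
        rw [hcY]
        exact hcn q hq fun h1 => hq1 (by rw [h1]; rfl)
      c'_ne := by
        intro q hq hq1
        rw [hcY', Ne, map_eq_zero_iff σ.symm σ.symm.injective]
        exact hcn q hq fun h1 => hq1 (by rw [h1]; rfl)
      κ_ne := by
        intro h1
        obtain ⟨j, hj⟩ := hκs 1
        rw [hκc, h1, zero_mul] at hj
        exact one_ne_zero hj.symm
      κX := by
        intro q hq x hx
        rw [hcY', ← hκc ⟨q, hq⟩, ← hκ _ (hqtA ⟨q, hq⟩) x hx, ← hqt ⟨q, hq⟩]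
        rfl }

end Out

end Cfsg.Agent.Omega.NO1.B0
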