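import Cfsg.Prelude.Def_Local
import Cfsg.Agent.SignalizersComponents.SLQuasisimple
import Cfsg.Agent.SignalizersComponents.QsBasic

/-!
# THEOREM B0 (9), the end: two commuting conjugate `SL₂(k)` permuted by `Y` ⟹ two components
-/

set_option autoImplicit false

namespace Cfsg.Agent.Omega.NO1.B0

open Subgroup
open scoped Pointwise

universe u

theorem two_comp {Y : Type u} [Group Y] [Finite Y] {k : Type} [Field k] [Finite k] [CharP k 2]
    (hk : 4 ≤ Nat.card k) (ψ : Matrix.SpecialLinearGroup (Fin 2) k →* Y) (hψ : Function.Injective ψ) (t : Y)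
    (hcomm : ∀ g g', t * ψ g * t⁻¹ * ψ g' = ψ g' * (t * ψ g * t⁻¹))
    (hperm : ∀ y : Y, (MulAut.conj y • ψ.range = ψ.range ∧
        MulAut.conj y • MulAut.conj t • ψ.range = MulAut.conj t • ψ.range) ∨
      (MulAut.conj y • ψ.range = MulAut.conj t • ψ.range ∧ MulAut.conj y • MulAut.conj t • ψ.range = ψ.range))
    (one : ∀ L L' : Subgroup Y, Cfsg.IsComponent L → Cfsg.IsComponent L' → L = L') : False := by
  set K₁ : Subgroup Y := ψ.range with hK₁
  set K₂ : Subgroup Y := MulAut.conj t • K₁ with hK₂
  have hq : Cfsg.IsQuasisimple (Matrix.SpecialLinearGroup (Fin 2) k) :=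
    SignalizersComponents.SLQuasisimple.isQuasisimple_two hk
  have hq1 : Cfsg.IsQuasisimple K₁ :=
    SignalizersComponents.QsBasic.isQuasisimple_of_mulEquiv (MonoidHom.ofInjective hψ) hq
  have hq2 : Cfsg.IsQuasisimple K₂ :=
    SignalizersComponents.QsBasic.isQuasisimple_of_mulEquiv (Subgroup.equivSMul (MulAut.conj t) K₁) hq1
  have hcm : ∀ x ∈ K₁, ∀ y ∈ K₂, y * x = x * y := by
    rintro _ ⟨g', rfl⟩ y hy
    rw [hK₂, Subgroup.mem_pointwise_smul_iff_inv_smul_mem] at hy
    obtain ⟨g, hg⟩ := hy
    have h1 : y = t * ψ g * t⁻¹ := by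
      rw [hg, ← map_inv, MulAut.smul_def, MulAut.conj_apply]
      group
    rw [h1]
    exact hcomm g g'
  set N : Subgroup Y := K₁ ⊔ K₂ with hN
  have hNn : N.Normal := by
    constructor
    intro n hn y
    have h1 : MulAut.conj y • N = N := by
      rw [hN, Subgroup.smul_sup]
      rcases hperm y with ⟨h1, h2⟩ | ⟨h1, h2⟩
      · rw [h1, h2]
      · rw [h1, h2, sup_comm]
    have h2 := Subgroup.smul_mem_pointwise_smul n (MulAut.conj y) N hn
    rw [h1] at h2
    exact h2
  have hNs : N.IsSubnormal := by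
    refine .step N ⊤ le_top .top ?_
    infer_instance
  have hs : ∀ K K' : Subgroup Y, K ≤ N → K ⊔ K' = N → (∀ x ∈ K, ∀ y ∈ K', y * x = x * y) → K.IsSubnormal := by
    intro K K' hle hsup hc
    refine .step K N hle hNs ?_
    have h1 : N ≤ normalizer (K : Set Y) := by
      rw [← hsup]
      refine sup_le le_normalizer ?_
      intro y hy
      rw [mem_normalizer_iff]
      intro x
      constructor
      · intro hx
        rw [hc x hx y hy, mul_inv_cancel_right]
        exact hx
      · intro hx
        have h3 := hc _ hx y hy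
        have h4 : x = y * x * y⁻¹ := by
          have h5 : y * (y * x * y⁻¹) = y * x := by rw [h3]; group
          exact (mul_left_cancel h5).symm
        rw [h4]; exact hx
    exact normal_subgroupOf_iff_le_normalizer hle |>.2 h1
  have h1 : Cfsg.IsComponent K₁ := ⟨hs K₁ K₂ le_sup_left rfl hcm, hq1⟩
  have h2 : Cfsg.IsComponent K₂ := ⟨hs K₂ K₁ le_sup_right (sup_comm _ _) fun x hx y hy => (hcm y hy x hx).symm, hq2⟩
  have h3 := one K₁ K₂ h1 h2
  have h4 : ∀ x y : K₁, x * y = y * x := by
    intro x y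
    apply Subtype.ext
    have hy : (y : Y) ∈ K₂ := by rw [← h3]; exact y.2
    exact (hcm x x.2 y hy).symm
  have h5 : center K₁ = ⊤ := by
    rw [eq_top_iff]
    intro x _
    rw [mem_center_iff]
    exact fun y => h4 y x
  have h6 := hq1.2.exists_pair_ne
  obtain ⟨x, y, hxy⟩ := h6
  apply hxy
  induction x using QuotientGroup.induction_on with
  | H x =>
    induction y using QuotientGroup.induction_on with
    | H y =>
      rw [QuotientGroup.eq, h5]
      exact mem_top _

end Cfsg.Agent.Omega.NO1.B0
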