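import Cfsg.Agent.Omega.NO1.B0.Perm
import Cfsg.Agent.Omega.NO1.B0.TwoComp
import Cfsg.Agent.Omega.NO1.TH.Fin

/-!
# N1, one component: the BETA case of `Fin` is impossible at the top (THEOREM B0, bb OMEGA 18835, helper970)

`false_of_beta` (socket of 406, bb OMEGA 22616).
-/

set_option autoImplicit false
set_option linter.unusedSectionVars false
set_option linter.style.haveILetI false

namespace Cfsg.Agent.Omega.NO1.TH

open Subgroup Cfsg.Agent.Omega.NO1.AB Cfsg.Agent.Omega.NO1.B0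
open scoped Pointwise

universe u

variable {Y : Type u} [Group Y] {V : Type u} [AddCommGroup V] [DistribMulAction Y V]

/-- **BETA is impossible** (`a ≥ 4`, weakly irreducible, one component, (Soc5)). -/
theorem false_of_beta [Finite Y] [Finite V] {U : Set (Subgroup Y)} {T : Sylow 2 Y} {M : Subgroup Y} {a : ℕ}
    (w : World V U T M a) (ha : 4 ≤ a)
    (one : ∀ L L' : Subgroup Y, Cfsg.IsComponent L → Cfsg.IsComponent L' → L = L') (h5 : Soc5 V U)
    {L A : Subgroup Y} {Q : Subgroup L} {R : Sylow 2 L} (hA : A ∈ U) (hAL : A ≤ L) (hLM : ¬ L ≤ M)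
    (hRT : (R : Subgroup L).map L.subtype ≤ (T : Subgroup Y))
    (h0 : Loc0 (A.subgroupOf L) (Ee V A) (fx V A) Q (M.subgroupOf L) R) (hC : fx V L = ⊥)
    (hne : A.subgroupOf L ⊓ Q ≠ ⊥) : False := by
  have hoff : ∀ B : Subgroup Y, (∀ b ∈ B, b * b = 1) → B ≠ ⊥ → Nat.card B * Nat.card ↥(fx V B) < Nat.card V := by
    intro B hB hB1
    have h1 : ∀ x ∈ B, ∀ y ∈ B, x * y = y * x := by
      intro x hx y hy
      have e1 := hB _ (mul_mem hx hy)
      have e2 : x⁻¹ = x := inv_eq_of_mul_eq_one_left (hB x hx)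
      have e3 : y⁻¹ = y := inv_eq_of_mul_eq_one_left (hB y hy)
      have e4 : x * y = (x * y)⁻¹ := (inv_eq_of_mul_eq_one_left e1).symm
      rw [e4, mul_inv_rev, e2, e3]
    have h2 := w.noff B h1 hB hB1
    have h3 := (fx V B).card_mul_index
    have h4 : 0 < Nat.card ↥(fx V B) := Nat.card_pos
    rw [← h3, mul_comm]
    exact Nat.mul_lt_mul_of_pos_left h2 h4
  obtain ⟨T', z, t, o⟩ := exists_out_of hLM hRT h0 hC hne w.faith
    (fun W hW hWE => (w.irr W hW).resolve_right fun h1 => h1 A hA hWE) hoff w.TM w.Mne w.max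
  obtain ⟨k, i1, i2, i3, e, K, φ, ok, ez⟩ := o.exists_K
  have hE : 4 ≤ (Ee V A).index := by rw [w.ind A hA]; exact ha
  have hAm : (A.subgroupOf L).map L.subtype = A := by
    rw [subgroupOf_map_subtype]
    exact inf_eq_left.2 hAL
  have hz : z ∈ fx V A := o.hyp.loc.z_mem.2
  have h6 : ∃ x : V, x ∉ fx V A ∧ ∀ y : V, y ∉ Ee V A → ∃ s ∈ (A.subgroupOf L).map L.subtype,
      s ∈ ZN.o2 (MulAction.stabilizer Y z) ∧ s • y + y + x ∈ fx V A := by
    obtain ⟨x, hx, h7⟩ := h5 A hA z o.hyp.z_ne hz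
    refine ⟨x, hx, fun y hy => ?_⟩
    obtain ⟨s, hs, h8, h9⟩ := h7 y hy
    exact ⟨s, by rw [hAm]; exact hs, h8, h9⟩
  have hc := o.comm_ps ok ez hE h6
  exact two_comp (by rw [ok.card]; exact hE) (ps φ) (o.nin ok ez hE).ψ_inj' t hc (o.perm_K ok ez hE hc) one

end Cfsg.Agent.Omega.NO1.TH
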