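import Cfsg.Agent.Omega.NO1.AB.Beta
import Cfsg.Agent.Omega.FF.SpreadEnd
import Cfsg.Agent.Omega.NO1.B0.Pure

/-!
# THEOREM B0 (bb OMEGA 18835, helper970): coordinates on `X`

`Loc`, `Beta` with `C = C_V(L) = 0`: `L` acts on `X = C_V(Q)` as `SL₂(K)`, `|K| = |X₁|`, natural module,
`X₁ = {(x,0)}`.
-/

set_option autoImplicit false
set_option linter.unusedSectionVars false
set_option linter.style.haveILetI false

namespace Cfsg.Agent.Omega.NO1.B0

open Subgroup Cfsg.Agent.Omega.NO1.AB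
open scoped Pointwise MatrixGroups

universe u

variable {L : Type u} [Group L] {V : Type u} [AddCommGroup V] [DistribMulAction L V]

/-- the action on an invariant subgroup -/
@[reducible] def actX {X : AddSubgroup V} (hX : ∀ (l : L), ∀ x ∈ X, l • x ∈ X) : DistribMulAction L X where
  smul l x := ⟨l • (x : V), hX l x x.2⟩
  one_smul x := Subtype.ext (one_smul L (x : V))
  mul_smul l m x := Subtype.ext (mul_smul l m (x : V))
  smul_zero l := Subtype.ext (smul_zero l)
  smul_add l x y := Subtype.ext (smul_add l (x : V) (y : V))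

/-- the endomorphism of `X` -/
def endX {X : AddSubgroup V} (hX : ∀ (l : L), ∀ x ∈ X, l • x ∈ X) : L →* (AddMonoid.End X)ˣ :=
  letI := actX hX
  MonoidHom.toHomUnits (DistribMulAction.toAddMonoidEnd L X)

theorem endX_apply {X : AddSubgroup V} (hX : ∀ (l : L), ∀ x ∈ X, l • x ∈ X) (l : L) (x : X) :
    ((endX hX l • x : X) : V) = l • (x : V) := rfl

section

variable {A : Subgroup L} {E F : AddSubgroup V} {Q L₁ : Subgroup L} {R : Sylow 2 L} {z : V}
  (h : Loc A E F Q L₁ R z) (hb : Beta A E F (fx V Q) Q L₁)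
include h hb

theorem exists_out : ∃ g : L, g ∉ L₁ := by
  by_contra hc
  push Not at hc
  exact h.ne (eq_top_iff.2 fun g _ => hc g)

theorem X1_card_mul [Finite L] [Finite V] (hC : fx V (⊤ : Subgroup L) = ⊥) :
    Nat.card ↥(fx V Q ⊓ F) * Nat.card ↥(A ⊓ Q) = Nat.card A := by
  rw [hb.card, hC, AddSubgroup.card_bot, one_mul]

theorem inf_comp [Finite L] [Finite V] (hC : fx V (⊤ : Subgroup L) = ⊥) {g k : L} (hgk : g⁻¹ * k ∉ L₁) :
    g • (fx V Q ⊓ F) ⊓ k • (fx V Q ⊓ F) = ⊥ := by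
  rw [eq_bot_iff, ← hC]
  rintro v ⟨h1, h2⟩
  exact h.mem_C_of hgk h1 h2

theorem inf_F [Finite L] [Finite V] (hC : fx V (⊤ : Subgroup L) = ⊥) {g : L} (hg : g ∉ L₁) :
    g • F ⊓ F = ⊥ := by
  rw [eq_bot_iff, ← hC]
  rintro v ⟨h1, h2⟩
  exact h.fix_all (x := 1) (y := g) (by simpa using hg) (by simpa using h2) (mem_smul_as.1 h1)

theorem card_X [Finite L] [Finite V] (hC : fx V (⊤ : Subgroup L) = ⊥) :
    Nat.card ↥(fx V Q) = Nat.card ↥(fx V Q ⊓ F) ^ 2 := by
  obtain ⟨g, hg⟩ := exists_out h hb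
  have h1 := card_sup_as (fx V Q ⊓ F) (g • (fx V Q ⊓ F))
  have h2 := inf_comp h hb hC (g := 1) (k := g) (by simpa using hg)
  rw [one_smul] at h2
  rw [h2, ← hb.sup g hg, AddSubgroup.card_bot, mul_one, card_smul_as] at h1
  rw [h1, pow_two]

/-- the elements which act on `X` as an element of `A` -/
theorem conj_act [Finite L] [Finite V] (hC : fx V (⊤ : Subgroup L) = ⊥) {l : L} (hl : l ∈ L₁) {a : L}
    (ha : a ∈ A) : ∃ a' ∈ A, ∀ x ∈ fx V Q, (l * a * l⁻¹) • x = a' • x := by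
  obtain ⟨g, hg⟩ := exists_out h hb
  set m := l * a * l⁻¹ with hm
  have hmL : m ∈ L₁ := mul_mem (mul_mem hl (h.A_le ha)) (inv_mem hl)
  have hmg : m * g ∉ L₁ := fun h1 => hg (by
    have := mul_mem (inv_mem hmL) h1
    rwa [inv_mul_cancel_left] at this)
  obtain ⟨b, hb1, hb2⟩ := hb.tra g hg (m * g) hmg
  refine ⟨b, hb1, ?_⟩
  set X₁ := fx V Q ⊓ F with hX₁
  -- `m` is trivial on `X₁`
  have e1 : ∀ x ∈ X₁, m • x = x := by
    intro x hx
    have h1 : l⁻¹ • x ∈ X₁ := by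
      have h2 := smul_mem_smul_as (g := l⁻¹) hx
      rwa [hb.inv l⁻¹ (inv_mem hl)] at h2
    rw [hm, mul_smul, mul_smul, h.mem.FB a ha _ h1.2, smul_inv_smul]
  have e2 : ∀ x ∈ fx V Q, m • x + x ∈ X₁ := by
    intro x hx
    have h1 : l⁻¹ • x ∈ fx V Q := h.smul_X _ hx
    have h2 : a • (l⁻¹ • x) + l⁻¹ • x ∈ X₁ :=
      ⟨(fx V Q).add_mem (h.smul_X _ h1) h1, h.mem.EB a ha _ (hb.XE h1)⟩
    have h3 := smul_mem_smul_as (g := l) h2
    rw [hb.inv l hl] at h3
    have e : l • (a • (l⁻¹ • x) + l⁻¹ • x) = m • x + x := by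
      rw [smul_add, smul_inv_smul, hm, mul_smul, mul_smul]
    rwa [e] at h3
  -- `k = b⁻¹ m`
  have hbb : b⁻¹ = b := inv_eq_of_mul_eq_one_left (h.mem.sq b hb1)
  have e3 : ∀ x ∈ g • X₁, (b⁻¹ * m) • x = x := by
    intro x hx
    have hxX : x ∈ fx V Q := h.mem_X_of hx
    have h1 : (b⁻¹ * m) • x ∈ g • X₁ := by
      rw [mem_smul_as]
      have h2 := mem_smul_as.1 hx
      have h3 : g⁻¹ • (b⁻¹ * m) • x = ((b * g)⁻¹ * (m * g)) • (g⁻¹ • x) := by
        rw [← mul_smul, ← mul_smul]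
        congr 1
        group
      have h4 := smul_mem_smul_as (g := (b * g)⁻¹ * (m * g)) h2
      rw [hb.inv _ hb2] at h4
      rwa [h3]
    have h2 : (b⁻¹ * m) • x + x ∈ X₁ := by
      have h3 : (b⁻¹ * m) • x + x = b⁻¹ • (m • x + x) + (b⁻¹ • x + x) := by
        rw [smul_add, mul_smul]
        have : b⁻¹ • m • x + b⁻¹ • x + (b⁻¹ • x + x) = b⁻¹ • m • x + (b⁻¹ • x + b⁻¹ • x) + x := by abel
        rw [this, h.two, add_zero]
      rw [h3]
      refine X₁.add_mem ?_ ?_
      · have h4 := e2 x hxX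
        rw [hbb, h.mem.FB b hb1 _ h4.2]
        exact h4
      · rw [hbb]
        exact ⟨(fx V Q).add_mem (h.smul_X _ hxX) hxX, h.mem.EB b hb1 _ (hb.XE hxX)⟩
    have h3 : (b⁻¹ * m) • x + x ∈ fx V (⊤ : Subgroup L) :=
      h.mem_C_of_F hg ((g • X₁).add_mem h1 hx) h2.2
    rw [hC, AddSubgroup.mem_bot] at h3
    rw [← neg_eq_iff_add_eq_zero] at h3
    rw [← neg_eq_of_add_eq_zero_left (h.two ((b⁻¹ * m) • x)), h3]
  intro x hx
  rw [hb.sup g hg, AddSubgroup.mem_sup] at hx
  obtain ⟨y, hy, w, hw, rfl⟩ := hx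
  have h1 : m • w = b • w := by
    have := e3 w hw
    rwa [mul_smul, inv_smul_eq_iff] at this
  rw [smul_add, smul_add, e1 y hy, h.mem.FB b hb1 y hy.2, h1]

/-- **Coordinates on `X`.** -/
theorem exists_coord [Finite L] [Finite V] (hC : fx V (⊤ : Subgroup L) = ⊥) :
    ∃ (K : Type) (_ : Field K) (_ : Fintype K) (_ : CharP K 2) (e : ↥(fx V Q) ≃+ (Fin 2 → K)),
      Nat.card K = Nat.card ↥(fx V Q ⊓ F) ∧ (∀ v : ↥(fx V Q), (v : V) ∈ F ↔ e v 1 = 0) ∧
      (∀ l : L, ∃ s : Matrix.SpecialLinearGroup (Fin 2) K, ∀ v : ↥(fx V Q),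
        e ⟨l • (v : V), h.smul_X l v.2⟩ = s.1.mulVec (e v)) ∧
      (∀ s : Matrix.SpecialLinearGroup (Fin 2) K, ∃ l : L, ∀ v : ↥(fx V Q),
        e ⟨l • (v : V), h.smul_X l v.2⟩ = s.1.mulVec (e v)) ∧
      (∀ a ∈ A, ∃ k : K, ∀ v : ↥(fx V Q),
        e ⟨a • (v : V), h.smul_X a v.2⟩ = (!![1, k; 0, 1] : Matrix (Fin 2) (Fin 2) K).mulVec (e v)) := by
  set X := fx V Q with hX
  have hXi : ∀ (l : L), ∀ x ∈ X, l • x ∈ X := fun l x hx => h.smul_X l hx
  set ρ : L →* (AddMonoid.End X)ˣ := endX hXi with hρ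
  obtain ⟨g₀, hg₀⟩ := exists_out h hb
  -- the group
  set T : Subgroup ρ.range := A.map ρ.rangeRestrict with hT
  set U : AddSubgroup X := F.addSubgroupOf X with hU
  have hTmem : ∀ {t : ρ.range}, t ∈ T ↔ ∃ a ∈ A, ρ.rangeRestrict a = t := fun {t} => Iff.rfl
  have happ : ∀ (l : L) (x : X), ((ρ.rangeRestrict l • x : X) : V) = l • (x : V) := fun l x => rfl
  have htriv : ∀ l : L, (∀ x ∈ X, l • x = x) → ρ.rangeRestrict l = 1 := by
    intro l hl
    apply Subtype.ext
    apply Units.ext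
    apply AddMonoidHom.ext
    intro x
    exact Subtype.ext (hl x x.2)
  have hext : ∀ l m : L, (∀ x ∈ X, l • x = m • x) → ρ.rangeRestrict l = ρ.rangeRestrict m := by
    intro l m hl
    apply Subtype.ext
    apply Units.ext
    apply AddMonoidHom.ext
    intro x
    exact Subtype.ext (hl x x.2)
  have two : ∀ v : X, v + v = 0 := fun v => Subtype.ext (h.two v)
  have hout : ∃ x ∈ X, x ∉ F := by
    refine ⟨g₀ • z, h.smul_X _ h.z_mem.1, fun h1 => ?_⟩
    have h2 := h.mem_C_of_F hg₀ (smul_mem_smul_as h.z_mem) h1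
    rw [hC, AddSubgroup.mem_bot] at h2
    apply h.z_not
    rw [hC, AddSubgroup.mem_bot]
    rwa [smul_eq_zero_iff_eq] at h2
  -- the kernel on `A`
  have hker : ∀ a ∈ A, ρ.rangeRestrict a = 1 → a ∈ Q := by
    intro a ha h1
    obtain ⟨x, hx, hxF⟩ := hout
    apply hb.cen x hx hxF a ha
    have h2 := congrArg (fun t : ρ.range => ((t • (⟨x, hx⟩ : X) : X) : V)) h1
    simpa [happ] using h2
  have hcT : Nat.card T = Nat.card ↥(X ⊓ F) := by
    let f : A →* ρ.range := ρ.rangeRestrict.comp A.subtype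
    have h1 : f.range = T := by
      rw [hT, MonoidHom.range_comp, Subgroup.range_subtype]
    have h2 : Nat.card f.ker = Nat.card ↥(A ⊓ Q) := by
      apply Nat.card_congr
      exact
        { toFun := fun a => ⟨a.1.1, a.1.2, hker _ a.1.2 (MonoidHom.mem_ker.1 a.2)⟩
          invFun := fun a => ⟨⟨a.1, a.2.1⟩, MonoidHom.mem_ker.2 (htriv _ fun x hx => hx a a.2.2)⟩
          left_inv := fun a => rfl
          right_inv := fun a => rfl }
    have h3 := Subgroup.card_mul_index f.ker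
    rw [Subgroup.index_ker, h1, h2, ← X1_card_mul h hb hC, mul_comm] at h3
    exact Nat.eq_of_mul_eq_mul_right Nat.card_pos h3
  have hX1 : 1 < Nat.card ↥(X ⊓ F) := by
    have h1 : z ≠ 0 := by
      intro h1
      apply h.z_not
      rw [h1]; exact AddSubgroup.zero_mem _
    have : Nontrivial ↥(X ⊓ F) := ⟨⟨⟨z, h.z_mem⟩, 0, fun h2 => h1 (congrArg Subtype.val h2)⟩⟩
    exact Finite.one_lt_card
  have hcU : Nat.card U = Nat.card ↥(X ⊓ F) := by
    apply Nat.card_congr
    exact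
      { toFun := fun v => ⟨v.1.1, v.1.2, AddSubgroup.mem_addSubgroupOf.1 v.2⟩
        invFun := fun v => ⟨⟨v.1, v.2.1⟩, AddSubgroup.mem_addSubgroupOf.2 v.2.2⟩
        left_inv := fun v => rfl
        right_inv := fun v => rfl }
  haveI : Finite ρ.range := Finite.of_surjective ρ.rangeRestrict ρ.rangeRestrict_surjective
  obtain ⟨K, i1, i2, i3, φ, e, h1, h2, h3, h4, h5, h6, h7⟩ :=
    Cfsg.Agent.Omega.FF.SpreadEnd.exists_field_add (L := ρ.range) (V := X) T U ⊥ two (by
      rintro ⟨_, l, rfl⟩ hl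
      exact htriv l fun x hx => congrArg Subtype.val (hl ⟨x, hx⟩)) (by
      intro v
      rw [AddSubgroup.mem_addSubgroupOf]
      constructor
      · rintro hv _ ⟨a, ha, rfl⟩
        exact Subtype.ext (h.mem.FB a ha _ hv)
      · intro hv
        exact h.mem.CB _ fun a ha => congrArg Subtype.val (hv _ ⟨a, ha, rfl⟩)) (by
      intro v
      rw [AddSubgroup.mem_bot]
      constructor
      · rintro rfl x
        exact smul_zero x
      · intro hv
        have h1 : (v : V) ∈ fx V (⊤ : Subgroup L) := fun l _ => congrArg Subtype.val (hv (ρ.rangeRestrict l))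
        rw [hC, AddSubgroup.mem_bot] at h1
        exact Subtype.ext h1) (by
      rintro _ ⟨a, ha, rfl⟩
      change ρ.rangeRestrict a * ρ.rangeRestrict a = 1
      rw [← map_mul, h.mem.sq a ha, map_one]) (by
      rintro _ ⟨a, ha, rfl⟩ v
      rw [AddSubgroup.mem_addSubgroupOf]
      exact h.mem.EB a ha _ (hb.XE v.2)) (by
      rintro _ ⟨a, ha, rfl⟩ h1 v hv
      rw [AddSubgroup.mem_addSubgroupOf]
      by_contra hvF
      apply h1
      have h2 := hb.cen _ v.2 hvF a ha (congrArg Subtype.val hv)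
      exact htriv a fun x hx => hx a h2) (by rw [hcT]; exact hX1) (by
      have h1 := AddSubgroup.card_mul_index U
      rw [hcU, card_X h hb hC, pow_two] at h1
      rw [hcT]
      exact Nat.eq_of_mul_eq_mul_left Nat.card_pos h1) (by
      rw [AddSubgroup.relIndex_bot_left, hcU, hcT]) (by
      intro K hK
      have h1 : (⊤ : Subgroup L) ≤ K.comap ρ.rangeRestrict := by
        rw [← h.top_of hg₀]
        refine sup_le ?_ ?_
        · intro a ha
          have := hK 1 (ρ.rangeRestrict a) ⟨a, ha, rfl⟩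
          simpa using this
        · intro a ha
          rw [mem_conj] at ha
          have := hK (ρ.rangeRestrict g₀) (ρ.rangeRestrict (g₀⁻¹ * a * g₀)) ⟨_, ha, rfl⟩
          rw [← map_mul, ← map_inv, ← map_mul] at this
          have e : g₀ * (g₀⁻¹ * a * g₀) * g₀⁻¹ = a := by group
          rwa [e] at this
      rw [eq_top_iff]
      rintro ⟨_, l, rfl⟩ _
      exact h1 (mem_top l)) (by
      rintro ⟨_, l, rfl⟩ hl v hv hlv
      rw [AddSubgroup.mem_addSubgroupOf] at hv hlv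
      rw [AddSubgroup.mem_bot]
      by_cases hlL : l ∈ L₁
      · exfalso
        apply hl
        have key : ∀ l ∈ L₁, ∀ t ∈ T, ρ.rangeRestrict l * t * (ρ.rangeRestrict l)⁻¹ ∈ T := by
          rintro l hl _ ⟨a, ha, rfl⟩
          obtain ⟨a', ha', h1⟩ := conj_act h hb hC hl ha
          refine ⟨a', ha', ?_⟩
          change ρ.rangeRestrict a' = ρ.rangeRestrict l * ρ.rangeRestrict a * (ρ.rangeRestrict l)⁻¹
          rw [← map_mul, ← map_inv, ← map_mul]
          exact (hext _ _ h1).symm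
        change ρ.rangeRestrict l ∈ _
        rw [mem_normalizer_iff]
        intro y
        constructor
        · exact key l hlL y
        · intro hy
          have h1 := key l⁻¹ (inv_mem hlL) _ hy
          have e : ρ.rangeRestrict l⁻¹ * (ρ.rangeRestrict l * y * (ρ.rangeRestrict l)⁻¹) * (ρ.rangeRestrict l⁻¹)⁻¹
              = y := by rw [map_inv]; group
          rwa [e] at h1
      · have h1 : l • (v : V) ∈ fx V (⊤ : Subgroup L) :=
          h.mem_C_of_F hlL (smul_mem_smul_as ⟨v.2, hv⟩) hlv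
        rw [hC, AddSubgroup.mem_bot] at h1
        exact Subtype.ext h1) (by
      rintro ⟨_, l, rfl⟩ _ hl
      by_contra hcon
      push Not at hcon
      apply hl
      apply htriv l
      intro x hx
      have h1 := hcon ⟨x, hx⟩
      rw [AddSubgroup.mem_bot] at h1
      have h2 : l • x + x = 0 := congrArg Subtype.val h1
      have h3 := neg_eq_iff_add_eq_zero.2 h2
      rw [neg_eq_of_add_eq_zero_left (h.two (l • x))] at h3
      exact h3)
  have hinj : Function.Injective e := by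
    intro v w hvw
    have h8 : e (v + w) = 0 := by
      rw [h2, hvw, ← h2, two, (h4 _).2 (AddSubgroup.zero_mem _)]
    rw [h4, AddSubgroup.mem_bot] at h8
    rw [← neg_eq_iff_add_eq_zero, neg_eq_of_add_eq_zero_left (two v)] at h8
    exact h8
  let e' : X ≃+ (Fin 2 → K) := AddEquiv.ofBijective (AddMonoidHom.mk' e h2) ⟨hinj, h3⟩
  refine ⟨K, i1, i2, i3, e', by rw [h1, hcT], fun v => ?_, fun l => ⟨φ (ρ.rangeRestrict l), fun v => ?_⟩,
    fun s => ?_, fun a ha => ?_⟩
  · rw [← AddSubgroup.mem_addSubgroupOf (K := X)]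
    exact h6 v
  · exact h5 (ρ.rangeRestrict l) v
  · obtain ⟨⟨_, l, rfl⟩, hl⟩ := φ.surjective s
    refine ⟨l, fun v => ?_⟩
    rw [← hl]
    exact h5 (ρ.rangeRestrict l) v
  · obtain ⟨k, hk⟩ := (h7 (ρ.rangeRestrict a)).1 ⟨a, ha, rfl⟩
    refine ⟨k, fun v => ?_⟩
    rw [← hk]
    exact h5 (ρ.rangeRestrict a) v

end

end Cfsg.Agent.Omega.NO1.B0
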