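import Cfsg.Agent.ClassTwo.Sp4SL2

/-!
# THEOREM B0 (bb OMEGA 18835, helper970), (9): the setting in coordinates

`X = {p x y}` the natural module of `ψ : SL₂(k) → Y`, `S` centralises `X` and `V/X`, `t S t⁻¹ ≤ ψ {u α}`.

* `Nin.tor` : an element of odd order of `N_Y(X)` which commutes with the `ψ (u α)` commutes with `ψ (SL₂)`;
* `Nin.nrm` : an element of `N_Y(X)` which fixes `p 1 0` normalises `ψ (SL₂)`.
-/

set_option autoImplicit false
set_option linter.unusedSectionVars false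

namespace Cfsg.Agent.Omega.NO1.B0

open Subgroup Cfsg.Agent.ClassTwo.Sp4Defs Cfsg.Agent.ClassTwo.Sp4SL2 Matrix

variable {Y : Type*} [Group Y] {V : Type*} [AddCommGroup V] [DistribMulAction Y V] {k : Type*} [Field k]

/-- `g` normalises `X = {p x y}` -/
def Pr (p : k → k → V) (g : Y) : Prop := ∀ x y, ∃ x' y', g • p x y = p x' y'

/-- the setting of (9) -/
structure Nin (S : Subgroup Y) (ψ : SpecialLinearGroup (Fin 2) k →* Y) (p : k → k → V) (t : Y) : Prop where
  two : ∀ v : V, v + v = 0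
  faith : ∀ y : Y, (∀ v : V, y • v = v) → y = 1
  add : ∀ x y x' y', p (x + x') (y + y') = p x y + p x' y'
  inj : ∀ x y, p x y = 0 → x = 0 ∧ y = 0
  act : ∀ g x y, ψ g • p x y = p (g.1 0 0 * x + g.1 0 1 * y) (g.1 1 0 * x + g.1 1 1 * y)
  fix : ∀ s ∈ S, ∀ x y, s • p x y = p x y
  comm : ∀ s ∈ S, ∀ g, s * ψ g = ψ g * s
  SV : ∀ s ∈ S, ∀ v : V, ∃ x y, s • v + v = p x y
  Sfix : ∀ s ∈ S, s ≠ 1 → ∀ v : V, s • v = v → ∃ x y, v = p x y
  DD : ∀ g : Y, (∀ x y, g • p x y = p x y) → (∀ v : V, ∃ x y, g • v + v = p x y) → g ∈ S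
  Sab : ∀ s ∈ S, ∀ s' ∈ S, s * s' = s' * s
  cS : Nat.card S = Nat.card k
  cV : Nat.card V = Nat.card k ^ 4
  conj : ∀ s ∈ S, ∃ α, t * s * t⁻¹ = ψ (u α)
  tt : Pr p (t * t)
  tz : t • p 1 0 = p 1 0
  line : ∀ g : Y, Pr p g → ∀ x y c, ∃ c', ∀ x' y', g • p x y = p x' y' → g • p (c * x) (c * y) = p (c' * x') (c' * y')
  semi : ∀ g : Y, Pr p g → g • p 1 0 = p 1 0 → ∃ (σ : k →+* k) (β δ : k), β ≠ 0 ∧
    ∀ x y, g • p x y = p (σ x + δ * σ y) (β * σ y)
  q4 : 4 ≤ Nat.card k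

namespace Nin

variable [CharP k 2] {S : Subgroup Y} {ψ : SpecialLinearGroup (Fin 2) k →* Y} {p : k → k → V} {t : Y}
  (h : Nin S ψ p t)
include h

theorem neg (v : V) : -v = v := neg_eq_of_add_eq_zero_left (h.two v)

theorem eq_of_add {v w : V} (hvw : v + w = 0) : v = w := by
  rw [← neg_eq_iff_add_eq_zero, h.neg] at hvw
  exact hvw

theorem p0 : p 0 0 = 0 := by
  have h1 := h.add 0 0 0 0
  rw [add_zero] at h1
  have h2 : p 0 0 + 0 = p 0 0 + p 0 0 := by rw [add_zero]; exact h1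
  exact (add_left_cancel h2).symm

theorem p_inj {x y x' y' : k} (h1 : p x y = p x' y') : x = x' ∧ y = y' := by
  have h2 : p (x + x') (y + y') = 0 := by rw [h.add, h1, h.two]
  obtain ⟨h3, h4⟩ := h.inj _ _ h2
  exact ⟨CharTwo.add_eq_zero.1 h3, CharTwo.add_eq_zero.1 h4⟩

theorem act_u (α x y : k) : ψ (u α) • p x y = p (x + α * y) y := by
  rw [h.act]
  congr 1 <;> simp

theorem act_v (α x y : k) : ψ (v α) • p x y = p x (α * x + y) := by
  rw [h.act]
  congr 1 <;> simp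

theorem act_w (x y : k) : ψ (w k) • p x y = p y x := by
  rw [h.act]
  congr 1 <;> simp [CharTwo.neg_eq]

theorem act_d (l : kˣ) (x y : k) : ψ (d l) • p x y = p (l * x) ((l⁻¹ : kˣ) * y) := by
  rw [h.act]
  congr 1 <;> simp

theorem ψ_inj {g : SpecialLinearGroup (Fin 2) k} (hg : ψ g = 1) : g = 1 := by
  have h1 := h.act g 1 0
  have h2 := h.act g 0 1
  rw [hg, one_smul] at h1 h2
  obtain ⟨h3, h4⟩ := h.p_inj h1
  obtain ⟨h5, h6⟩ := h.p_inj h2
  rw [Cfsg.Agent.ClassTwo.Sp4SL2.ext_iff]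
  simp at h3 h4 h5 h6 ⊢
  exact ⟨h3.symm, h5.symm, h4.symm, h6.symm⟩

theorem ψ_inj' : Function.Injective ψ := (injective_iff_map_eq_one ψ).2 fun _ hg => h.ψ_inj hg

theorem fk : Finite k := Nat.finite_of_card_ne_zero (by have := h.q4; omega)

theorem fS : Finite S := Nat.finite_of_card_ne_zero (by rw [h.cS]; have := h.q4; omega)

theorem fV : Finite V := Nat.finite_of_card_ne_zero (by rw [h.cV]; have := h.q4; positivity)

theorem Pr_mul {g g' : Y} (hg : Pr p g) (hg' : Pr p g') : Pr p (g * g') := by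
  intro x y
  obtain ⟨x₁, y₁, h1⟩ := hg' x y
  obtain ⟨x₂, y₂, h2⟩ := hg x₁ y₁
  exact ⟨x₂, y₂, by rw [mul_smul, h1, h2]⟩

theorem Pr_ψ (g : SpecialLinearGroup (Fin 2) k) : Pr p (ψ g) := fun x y => ⟨_, _, h.act g x y⟩

theorem Pr_S {s : Y} (hs : s ∈ S) : Pr p s := fun x y => ⟨_, _, h.fix s hs x y⟩

theorem Pr_surj {g : Y} (hg : Pr p g) (x y : k) : ∃ x' y', g • p x' y' = p x y := by
  have := h.fk
  choose f f' hf using hg
  have hinj : Function.Injective fun a : k × k => (f a.1 a.2, f' a.1 a.2) := by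
    rintro ⟨a, b⟩ ⟨a', b'⟩ hab
    obtain ⟨e1, e2⟩ := Prod.mk.inj hab
    have h1 := hf a b
    have h2 := hf a' b'
    simp only at e1 e2
    rw [e1, e2, ← h2, smul_left_cancel_iff] at h1
    obtain ⟨e3, e4⟩ := h.p_inj h1
    rw [e3, e4]
  obtain ⟨⟨a, b⟩, hab⟩ := Finite.surjective_of_injective hinj (x, y)
  obtain ⟨e1, e2⟩ := Prod.mk.inj hab
  refine ⟨a, b, ?_⟩
  rw [hf]
  simp only at e1 e2
  rw [e1, e2]

theorem Pr_inv {g : Y} (hg : Pr p g) : Pr p g⁻¹ := by
  intro x y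
  obtain ⟨x', y', h1⟩ := h.Pr_surj hg x y
  exact ⟨x', y', by rw [← h1, inv_smul_smul]⟩

/-- `S` is normal in `N_Y(X)` -/
theorem nS {g : Y} (hg : Pr p g) {s : Y} (hs : s ∈ S) : g * s * g⁻¹ ∈ S := by
  apply h.DD
  · intro x y
    obtain ⟨x', y', h1⟩ := h.Pr_inv hg x y
    rw [mul_smul, mul_smul, h1, h.fix s hs, ← h1, smul_inv_smul]
  · intro v
    obtain ⟨x, y, h1⟩ := h.SV s hs (g⁻¹ • v)
    obtain ⟨x', y', h2⟩ := hg x y
    refine ⟨x', y', ?_⟩
    rw [← h2, ← h1, smul_add, smul_inv_smul, mul_smul, mul_smul]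

theorem nS' {g : Y} (hg : Pr p g) {s : Y} (hs : s ∈ S) : g⁻¹ * s * g ∈ S := by
  have h1 := h.nS (h.Pr_inv hg) hs
  rwa [inv_inv] at h1

theorem S_ψ {g : SpecialLinearGroup (Fin 2) k} (hg : ψ g ∈ S) : ψ g = 1 := by
  have h1 : g = 1 := by
    have h1 := h.act g 1 0
    have h2 := h.act g 0 1
    rw [h.fix _ hg] at h1 h2
    obtain ⟨h3, h4⟩ := h.p_inj h1
    obtain ⟨h5, h6⟩ := h.p_inj h2
    rw [Cfsg.Agent.ClassTwo.Sp4SL2.ext_iff]
    simp at h3 h4 h5 h6 ⊢
    exact ⟨h3.symm, h5.symm, h4.symm, h6.symm⟩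
  rw [h1, map_one]

theorem exists_s : ∃ s ∈ S, s ≠ 1 := by
  have := h.fS
  by_contra hcon
  push Not at hcon
  have h1 : S = ⊥ := by
    rw [eq_bot_iff]
    intro s hs
    rw [mem_bot]
    exact hcon s hs
  have h2 := h.cS
  rw [h1, card_bot] at h2
  have := h.q4
  omega

/-- two elements of `N_Y(X)` which agree on `X` and are `S`-compatible -/
theorem VX {g g' : Y} (hg : ∀ x y, g • p x y = g' • p x y) {s s' : Y} (hs : s ∈ S) (hs' : s' ∈ S) (hs1 : s' ≠ 1)
    (e1 : s' * g = g * s) (e2 : s' * g' = g' * s) (v : V) : ∃ x y, g • v + g' • v = p x y := by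
  apply h.Sfix s' hs' hs1
  obtain ⟨x, y, h1⟩ := h.SV s hs v
  have h2 : s • v = v + p x y := by
    rw [← h1, add_comm (s • v), ← add_assoc, h.two, zero_add]
  rw [smul_add, ← mul_smul, ← mul_smul, e1, e2, mul_smul, mul_smul, h2, smul_add, smul_add, hg]
  have e : g • v + g' • p x y + (g' • v + g' • p x y) = g • v + g' • v + (g' • p x y + g' • p x y) := by abel
  rw [e, h.two, add_zero]

/-- **TOR**: an element of odd order of `N_Y(X)` which commutes with the `ψ (u α)` commutes with `ψ (SL₂)` -/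
theorem tor {y : Y} (hy : Pr p y) (hu : ∀ α, y * ψ (u α) = ψ (u α) * y) {m : ℕ} (hm : (y * y) ^ m = y)
    (g : SpecialLinearGroup (Fin 2) k) : y * ψ g = ψ g * y := by
  obtain ⟨b, a, h01⟩ := hy 0 1
  -- on `X`
  have hc0 : ∀ c, y • p c 0 = p (c * a) 0 := by
    intro c
    have h1 : y • p c 1 = p (b + c * a) a := by
      have h2 : ψ (u c) • p 0 1 = p c 1 := by rw [h.act_u]; congr 1; ring
      rw [← h2, ← mul_smul, hu, mul_smul, h01, h.act_u]
    have h2 : p c 0 = p c 1 + p 0 1 := by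
      rw [← h.add, add_zero, CharTwo.add_self_eq_zero]
    rw [h2, smul_add, h1, h01, ← h.add, CharTwo.add_self_eq_zero]
    congr 1
    have : b + c * a + b = (b + b) + c * a := by ring
    rw [this, CharTwo.add_self_eq_zero, zero_add]
  have ha : a ≠ 0 := by
    intro ha
    have h1 := hc0 1
    rw [ha, mul_zero, h.p0, smul_eq_zero_iff_eq] at h1
    exact one_ne_zero (h.inj _ _ h1).1
  have h0c : ∀ c, y • p 0 c = p (c * b) (c * a) := by
    intro c
    obtain ⟨c', hc'⟩ := h.line y hy 0 1 c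
    have h1 := hc' _ _ h01
    rw [mul_zero, mul_one] at h1
    have h2 : ψ (u 1) • p 0 c = p c c := by rw [h.act_u]; congr 1; ring
    have h3 : y • p c c = p (c' * b + c' * a) (c' * a) := by
      rw [← h2, ← mul_smul, hu, mul_smul, h1, h.act_u]; congr 1; ring
    have h4 : p c c = p c 0 + p 0 c := by rw [← h.add, add_zero, zero_add]
    rw [h4, smul_add, hc0, h1, ← h.add] at h3
    have h5 := (h.p_inj h3).1
    have h6 : c * a = c' * a := by
      have : c * a + c' * b = c' * a + c' * b := by rw [h5]; ring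
      exact add_right_cancel this
    have h7 : c = c' := mul_right_cancel₀ ha h6
    rw [h1, h7]
  have hxz : ∀ x z, y • p x z = p (x * a + z * b) (z * a) := by
    intro x z
    have h4 : p x z = p x 0 + p 0 z := by rw [← h.add, add_zero, zero_add]
    rw [h4, smul_add, hc0, h0c, ← h.add, zero_add]
  have hyy : ∀ x z, (y * y) • p x z = p (x * (a * a)) (z * (a * a)) := by
    intro x z
    rw [mul_smul, hxz, hxz]
    congr 1
    · have : (x * a + z * b) * a + z * a * b = x * (a * a) + (z * a * b + z * a * b) := by ring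
      rw [this, CharTwo.add_self_eq_zero, add_zero]
    · ring
  have hpow : ∀ (n : ℕ) x z, ((y * y) ^ n) • p x z = p (x * (a * a) ^ n) (z * (a * a) ^ n) := by
    intro n
    induction n with
    | zero => intro x z; rw [pow_zero, one_smul, pow_zero, mul_one, mul_one]
    | succ n ih =>
      intro x z
      rw [pow_succ, mul_smul, hyy, ih, pow_succ]
      congr 1 <;> ring
  have hsc : ∀ x z, y • p x z = p (x * (a * a) ^ m) (z * (a * a) ^ m) := by
    intro x z
    conv_lhs => rw [← hm]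
    rw [hpow]
  have hcX : ∀ (g : SpecialLinearGroup (Fin 2) k) x z, (y * ψ g) • p x z = (ψ g * y) • p x z := by
    intro g x z
    rw [mul_smul, mul_smul, h.act, hsc, hsc, h.act]
    congr 1 <;> ring
  -- on `V/X`
  obtain ⟨s, hs, hs1⟩ := h.exists_s
  have hs' := h.nS hy hs
  have hs'1 : y * s * y⁻¹ ≠ 1 := by
    intro h1
    rw [mul_inv_eq_one] at h1
    exact hs1 (mul_eq_left.1 h1)
  have hV : ∀ (g : SpecialLinearGroup (Fin 2) k) v, ∃ x z, (y * ψ g) • v + (ψ g * y) • v = p x z := by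
    intro g v
    apply h.VX (hcX g) hs hs' hs'1
    · have e1 : y * s * y⁻¹ * (y * ψ g) = y * (s * ψ g) := by group
      rw [e1, h.comm s hs, mul_assoc]
    · rw [← mul_assoc, h.comm _ hs']; group
  have hf : ∀ g : SpecialLinearGroup (Fin 2) k, y * ψ g * (ψ g * y)⁻¹ ∈ S := by
    intro g
    apply h.DD
    · intro x z
      obtain ⟨x', z', h1⟩ := h.Pr_inv (h.Pr_mul (h.Pr_ψ g) hy) x z
      rw [mul_smul, h1, hcX, ← h1, smul_inv_smul]
    · intro v
      obtain ⟨x, z, h1⟩ := hV g ((ψ g * y)⁻¹ • v)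
      refine ⟨x, z, ?_⟩
      rw [← h1, smul_inv_smul, mul_smul (y * ψ g)]
  -- `u`, `v`
  have hv : ∀ α, y * ψ (v α) = ψ (v α) * y := by
    intro α
    obtain ⟨s₀, hs₀, e0⟩ : ∃ s₀ ∈ S, y * ψ (w k) = s₀ * (ψ (w k) * y) := ⟨_, hf (w k), by group⟩
    have e1 : v α = w k * u α * (w k)⁻¹ := by rw [w_conj_u, CharTwo.neg_eq]
    have e2 : y * ψ (w k) * ψ (u α) = ψ (v α) * (y * ψ (w k)) := by
      rw [e0]
      have e3 : s₀ * (ψ (w k) * y) * ψ (u α) = s₀ * (ψ (w k) * (y * ψ (u α))) := by group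
      have e4 : ψ (w k) * ψ (u α) = ψ (v α) * ψ (w k) := by
        rw [← map_mul, ← map_mul, e1]; congr 1; group
      rw [e3, hu]
      have e5 : s₀ * (ψ (w k) * (ψ (u α) * y)) = s₀ * (ψ (w k) * ψ (u α)) * y := by group
      rw [e5, e4]
      have e6 : s₀ * (ψ (v α) * ψ (w k)) * y = s₀ * ψ (v α) * (ψ (w k) * y) := by group
      rw [e6, h.comm s₀ hs₀]; group
    have e7 : ψ (v α) = ψ (w k) * ψ (u α) * (ψ (w k))⁻¹ := by rw [e1, map_mul, map_mul, map_inv]
    calc y * ψ (v α) = y * ψ (w k) * ψ (u α) * (ψ (w k))⁻¹ := by rw [e7]; group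
      _ = ψ (v α) * y := by rw [e2]; group
  have htop := eq_top_of_uv ((centralizer {y}).comap ψ) (fun α => by
    rw [mem_comap, mem_centralizer_singleton_iff]; exact (hu α).symm) (fun α => by
    rw [mem_comap, mem_centralizer_singleton_iff]; exact (hv α).symm)
  have h9 : g ∈ (centralizer {y}).comap ψ := by rw [htop]; exact mem_top g
  rw [mem_comap, mem_centralizer_singleton_iff] at h9
  exact h9.symm

end Nin

end Cfsg.Agent.Omega.NO1.B0
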