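import Cfsg.Agent.Omega.NO1.B0.Nin

/-!
# THEOREM B0 (bb OMEGA 18835, helper970), (9): `N_Y(X)` normalises `ψ (SL₂)`; the tori; `V = X' ⊕ rX'`
-/

set_option autoImplicit false
set_option linter.unusedSectionVars false

namespace Cfsg.Agent.Omega.NO1.B0

open Subgroup Cfsg.Agent.ClassTwo.Sp4Defs Cfsg.Agent.ClassTwo.Sp4SL2 Matrix

variable {Y : Type*} [Group Y] {V : Type*} [AddCommGroup V] [DistribMulAction Y V] {k : Type*} [Field k]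

namespace Nin

variable [CharP k 2] {S : Subgroup Y} {ψ : SpecialLinearGroup (Fin 2) k →* Y} {p : k → k → V} {t : Y}
  (h : Nin S ψ p t)
include h

theorem nrm_aux {g : Y} (hg : Pr p g) (hg1 : g • p 1 0 = p 1 0) (m : SpecialLinearGroup (Fin 2) k) :
    ∃ m', ∃ s ∈ S, g * ψ m * g⁻¹ = s * ψ m' := by
  obtain ⟨σ, β, δ, hβ, hs⟩ := h.semi g hg hg1
  let A := σ (m.1 0 0)
  let B := σ (m.1 0 1)
  let C := σ (m.1 1 0)
  let D := σ (m.1 1 1)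
  have hdet : A * D - B * C = 1 := by
    have h1 := det_eq m
    have h2 := congrArg σ h1
    rw [map_sub, map_mul, map_mul, map_one] at h2
    exact h2
  have two : ∀ x : k, x + x = 0 := CharTwo.add_self_eq_zero
  let m' : SpecialLinearGroup (Fin 2) k :=
    ⟨!![A + δ * C, ((A + δ * C) * δ + B + δ * D) / β; β * C, δ * C + D], by
      rw [Matrix.det_fin_two_of]
      field_simp
      linear_combination hdet⟩
  have hX : ∀ x y, (g * ψ m) • p x y = (ψ m' * g) • p x y := by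
    intro x y
    rw [mul_smul, mul_smul, h.act, hs, hs, h.act]
    change p _ _ = p ((A + δ * C) * _ + ((A + δ * C) * δ + B + δ * D) / β * _) (β * C * _ + (δ * C + D) * _)
    rw [map_add, map_add, map_mul, map_mul, map_mul, map_mul]
    change p (A * σ x + B * σ y + δ * (C * σ x + D * σ y)) (β * (C * σ x + D * σ y)) = _
    congr 1
    · field_simp
      linear_combination -two (A * δ * σ y + C * δ ^ 2 * σ y)
    · linear_combination -two (β * C * δ * σ y)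
  obtain ⟨s, hs', hs1⟩ := h.exists_s
  have hs2 := h.nS hg hs'
  have hs3 : g * s * g⁻¹ ≠ 1 := by
    intro h1
    rw [mul_inv_eq_one] at h1
    exact hs1 (mul_eq_left.1 h1)
  have hV : ∀ w, ∃ x z, (g * ψ m) • w + (ψ m' * g) • w = p x z := by
    intro w
    apply h.VX hX hs' hs2 hs3
    · have e1 : g * s * g⁻¹ * (g * ψ m) = g * (s * ψ m) := by group
      rw [e1, h.comm s hs', mul_assoc]
    · rw [← mul_assoc, h.comm _ hs2]; group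
  refine ⟨m', g * ψ m * (ψ m' * g)⁻¹, ?_, by group⟩
  apply h.DD
  · intro x z
    obtain ⟨x', z', h1⟩ := h.Pr_inv (h.Pr_mul (h.Pr_ψ m') hg) x z
    rw [mul_smul, h1, hX, ← h1, smul_inv_smul]
  · intro w
    obtain ⟨x, z, h1⟩ := hV ((ψ m' * g)⁻¹ • w)
    refine ⟨x, z, ?_⟩
    rw [← h1, smul_inv_smul, mul_smul (g * ψ m)]

/-- `N_Y(X) ∩ C(p 1 0)` normalises `ψ (SL₂)` -/
theorem nrm {g : Y} (hg : Pr p g) (hg1 : g • p 1 0 = p 1 0) (m : SpecialLinearGroup (Fin 2) k) :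
    ∃ m', g * ψ m * g⁻¹ = ψ m' := by
  have hu : ∀ α, ∃ m', g * ψ (u α) * g⁻¹ = ψ m' := by
    intro α
    obtain ⟨l, b, e⟩ := u_mem_commutator h.q4 α
    obtain ⟨m₁, s₁, hs₁, e₁⟩ := h.nrm_aux hg hg1 (d l)
    obtain ⟨m₂, s₂, hs₂, e₂⟩ := h.nrm_aux hg hg1 (u b)
    refine ⟨m₁ * m₂ * m₁⁻¹ * m₂⁻¹, ?_⟩
    have e3 : g * ψ (u α) * g⁻¹ =
        (g * ψ (d l) * g⁻¹) * (g * ψ (u b) * g⁻¹) * (g * ψ (d l) * g⁻¹)⁻¹ * (g * ψ (u b) * g⁻¹)⁻¹ := by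
      rw [e, map_mul, map_mul, map_mul, map_inv, map_inv]; group
    rw [e3, e₁, e₂, map_mul, map_mul, map_mul, map_inv, map_inv]
    have c1 := h.comm s₁ hs₁ m₂
    have c2 := h.comm s₂ hs₂ m₁
    have c3 := h.comm s₁ hs₁ m₁
    have c4 := h.comm s₂ hs₂ m₂
    have c5 := h.Sab s₁ hs₁ s₂ hs₂
    have e4 : s₁ * ψ m₁ * (s₂ * ψ m₂) = (s₁ * s₂) * (ψ m₁ * ψ m₂) := by
      calc s₁ * ψ m₁ * (s₂ * ψ m₂) = s₁ * (ψ m₁ * s₂) * ψ m₂ := by group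
        _ = s₁ * (s₂ * ψ m₁) * ψ m₂ := by rw [c2]
        _ = _ := by group
    have e5 : s₂ * ψ m₂ * (s₁ * ψ m₁) = (s₁ * s₂) * (ψ m₂ * ψ m₁) := by
      calc s₂ * ψ m₂ * (s₁ * ψ m₁) = s₂ * (ψ m₂ * s₁) * ψ m₁ := by group
        _ = s₂ * (s₁ * ψ m₂) * ψ m₁ := by rw [c1]
        _ = (s₂ * s₁) * ψ m₂ * ψ m₁ := by group
        _ = _ := by rw [← c5]; group
    have e6 : s₁ * ψ m₁ * (s₂ * ψ m₂) * (s₁ * ψ m₁)⁻¹ * (s₂ * ψ m₂)⁻¹ =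
        (s₁ * ψ m₁ * (s₂ * ψ m₂)) * (s₂ * ψ m₂ * (s₁ * ψ m₁))⁻¹ := by group
    rw [e6, e4, e5]
    have c6 : s₁ * s₂ * (ψ m₁ * ψ m₂ * (ψ m₁)⁻¹ * (ψ m₂)⁻¹) = (ψ m₁ * ψ m₂ * (ψ m₁)⁻¹ * (ψ m₂)⁻¹) * (s₁ * s₂) := by
      have := h.comm (s₁ * s₂) (mul_mem hs₁ hs₂) (m₁ * m₂ * m₁⁻¹ * m₂⁻¹)
      rwa [map_mul, map_mul, map_mul, map_inv, map_inv] at this
    calc (s₁ * s₂) * (ψ m₁ * ψ m₂) * ((s₁ * s₂) * (ψ m₂ * ψ m₁))⁻¹
        = (s₁ * s₂ * (ψ m₁ * ψ m₂ * (ψ m₁)⁻¹ * (ψ m₂)⁻¹)) * (s₁ * s₂)⁻¹ := by group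
      _ = _ := by rw [c6]; group
  have hv : ∀ α, ∃ m', g * ψ (v α) * g⁻¹ = ψ m' := by
    intro α
    obtain ⟨m₁, e₁⟩ := hu α
    obtain ⟨m₂, s₂, hs₂, e₂⟩ := h.nrm_aux hg hg1 (w k)
    refine ⟨m₂ * m₁ * m₂⁻¹, ?_⟩
    have e : v α = w k * u α * (w k)⁻¹ := by rw [w_conj_u, CharTwo.neg_eq]
    have e3 : g * ψ (v α) * g⁻¹ = (g * ψ (w k) * g⁻¹) * (g * ψ (u α) * g⁻¹) * (g * ψ (w k) * g⁻¹)⁻¹ := by
      rw [e, map_mul, map_mul, map_inv]; group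
    have c := h.comm s₂ hs₂ (m₂ * m₁ * m₂⁻¹)
    rw [map_mul, map_mul, map_inv] at c
    rw [e3, e₁, e₂, map_mul, map_mul, map_inv]
    calc s₂ * ψ m₂ * ψ m₁ * (s₂ * ψ m₂)⁻¹ = (s₂ * (ψ m₂ * ψ m₁ * (ψ m₂)⁻¹)) * s₂⁻¹ := by group
      _ = _ := by rw [c]; group
  have htop := eq_top_of_uv ((ψ.range.comap (MulAut.conj g).toMonoidHom).comap ψ) (fun α => by
    obtain ⟨m', e⟩ := hu α
    exact ⟨m', e.symm⟩) (fun α => by
    obtain ⟨m', e⟩ := hv α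
    exact ⟨m', e.symm⟩)
  have h9 : m ∈ (ψ.range.comap (MulAut.conj g).toMonoidHom).comap ψ := by rw [htop]; exact mem_top m
  obtain ⟨m', e⟩ := h9
  exact ⟨m', e.symm⟩

/-! ### `X' = t • X` -/

/-- `t S t⁻¹ = {ψ (u α)}` -/
theorem conj_surj (α : k) : ∃ s ∈ S, t * s * t⁻¹ = ψ (u α) := by
  have := h.fk
  have := h.fS
  have h1 : ∀ s : S, ∃ α, t * (s : Y) * t⁻¹ = ψ (u α) := fun s => h.conj s s.2
  choose f hf using h1
  have hinj : Function.Injective f := by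
    intro s s' hss
    have h2 := hf s
    rw [hss, ← hf s'] at h2
    exact Subtype.ext (mul_left_cancel (mul_right_cancel h2))
  obtain ⟨s, hs⟩ := ((Nat.bijective_iff_injective_and_card f).2 ⟨hinj, h.cS⟩).2 α
  exact ⟨s, s.2, by rw [hf s, hs]⟩

theorem t_inv_u (α : k) : t⁻¹ * ψ (u α) * t ∈ S := by
  obtain ⟨s, hs, e⟩ := h.conj_surj α
  rw [← e]
  have : t⁻¹ * (t * s * t⁻¹) * t = s := by group
  rwa [this]

theorem t_u (α : k) : t * ψ (u α) * t⁻¹ ∈ S := by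
  obtain ⟨s, hs, e⟩ := h.conj_surj α
  have h1 := h.nS h.tt hs
  have e1 : t * t * s * (t * t)⁻¹ = t * (t * s * t⁻¹) * t⁻¹ := by group
  rwa [e1, e] at h1

/-- `S = t S' t⁻¹` -/
theorem t_u_surj {s : Y} (hs : s ∈ S) : ∃ α, s = t * ψ (u α) * t⁻¹ := by
  have h1 := h.nS' h.tt hs
  obtain ⟨α, e⟩ := h.conj _ h1
  refine ⟨α, ?_⟩
  rw [← e]; group

theorem t_inv_u_surj {s : Y} (hs : s ∈ S) : ∃ α, s = t⁻¹ * ψ (u α) * t := by
  obtain ⟨α, e⟩ := h.conj s hs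
  refine ⟨α, ?_⟩
  rw [← e]; group

/-- `X' = C_V(S')` -/
theorem mem_X' {x : V} (hx : ∀ α, ψ (u α) • x = x) : ∃ a b, x = t • p a b := by
  obtain ⟨s, hs, hs1⟩ := h.exists_s
  obtain ⟨α, e⟩ := h.conj s hs
  obtain ⟨a, b, h1⟩ := h.Sfix s hs hs1 (t⁻¹ • x) (by
    have h2 := hx α
    rw [← e] at h2
    have h3 : t⁻¹ • (t * s * t⁻¹) • x = t⁻¹ • x := by rw [h2]
    rw [← mul_smul] at h3
    have e2 : t⁻¹ * (t * s * t⁻¹) = s * t⁻¹ := by group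
    rw [e2, mul_smul] at h3
    exact h3)
  exact ⟨a, b, by rw [← h1, smul_inv_smul]⟩

theorem u_X' (α a b : k) : ψ (u α) • t • p a b = t • p a b := by
  obtain ⟨s, hs, e⟩ := h.conj_surj α
  rw [← e, ← mul_smul]
  have e2 : t * s * t⁻¹ * t = t * s := by group
  rw [e2, mul_smul, h.fix s hs]

/-- `[V, S'] ≤ X'` -/
theorem u_V (α : k) (x : V) : ∃ a b, ψ (u α) • x + x = t • p a b := by
  obtain ⟨s, hs, e⟩ := h.conj_surj α
  obtain ⟨a, b, h1⟩ := h.SV s hs (t⁻¹ • x)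
  refine ⟨a, b, ?_⟩
  rw [← h1, ← e, smul_add, smul_inv_smul, mul_smul, mul_smul]

/-- `X'` is also `t⁻¹ • X` -/
theorem t_inv_p (a b : k) : ∃ a' b', t⁻¹ • p a b = t • p a' b' := by
  apply h.mem_X'
  intro α
  obtain ⟨s, hs, e⟩ : ∃ s ∈ S, ψ (u α) = t⁻¹ * s * t := ⟨_, h.t_u α, by group⟩
  rw [e, ← mul_smul]
  have e2 : t⁻¹ * s * t * t⁻¹ = t⁻¹ * s := by group
  rw [e2, mul_smul, h.fix s hs]

theorem d_X' (l : kˣ) (a b : k) : ∃ a' b', ψ (d l) • t • p a b = t • p a' b' := by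
  apply h.mem_X'
  intro α
  have e : u α * d l = d l * u (((l⁻¹ : kˣ) : k) ^ 2 * α) := by
    have h1 := d_conj_u l (((l⁻¹ : kˣ) : k) ^ 2 * α)
    have h2 : (l : k) ^ 2 * (((l⁻¹ : kˣ) : k) ^ 2 * α) = α := by
      rw [← mul_assoc, ← mul_pow, ← Units.val_mul, mul_inv_cancel, Units.val_one, one_pow, one_mul]
    rw [h2] at h1
    rw [← h1]; group
  rw [← mul_smul, ← map_mul, e, map_mul, mul_smul, h.u_X']

theorem d_pow (l : kˣ) : d l ^ (Nat.card k - 1) = 1 := by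
  have := h.fk
  have h1 : ∀ n : ℕ, d l ^ n = d (l ^ n) := by
    intro n
    induction n with
    | zero => rw [pow_zero, pow_zero, d_one]
    | succ n ih => rw [pow_succ, ih, d_mul, pow_succ]
  rw [h1]
  have h2 : l ^ (Nat.card k - 1) = 1 := by
    have h3 : Nat.card kˣ = Nat.card k - 1 := Nat.card_units k
    rw [← h3]
    exact pow_card_eq_one'
  rw [h2, d_one]

theorem even_k : ∃ m, Nat.card k = 2 * m := by
  have := h.fk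
  have := Fintype.ofFinite k
  obtain ⟨n, -, hn⟩ := FiniteField.card k 2
  refine ⟨2 ^ ((n : ℕ) - 1), ?_⟩
  rw [Nat.card_eq_fintype_card, hn, ← pow_succ', Nat.sub_add_cancel n.pos]

/-- every conjugate of `ψ (d l)` has odd order -/
theorem odd_d (l : kˣ) : ∃ m : ℕ, (ψ (d l) * ψ (d l)) ^ m = ψ (d l) := by
  obtain ⟨m, hm⟩ := h.even_k
  have hq := h.q4
  refine ⟨m, ?_⟩
  have e : m + m = (Nat.card k - 1) + 1 := by omega
  rw [← map_mul, ← map_pow, ← pow_two, ← pow_mul, two_mul, e, pow_succ, h.d_pow, one_mul]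

/-- `t⁻¹ ψ(d l) t` commutes with `ψ (SL₂)` -/
theorem tor₁ (l : kˣ) (g : SpecialLinearGroup (Fin 2) k) :
    t⁻¹ * ψ (d l) * t * ψ g = ψ g * (t⁻¹ * ψ (d l) * t) := by
  obtain ⟨m, hm⟩ := h.odd_d l
  refine h.tor (m := m) ?_ ?_ ?_ g
  · intro x y
    obtain ⟨a', b', e⟩ := h.d_X' l x y
    refine ⟨a', b', ?_⟩
    rw [mul_smul, mul_smul, e, inv_smul_smul]
  · intro α
    have h1 := h.comm _ (h.t_u α) (d l)
    calc t⁻¹ * ψ (d l) * t * ψ (u α) = t⁻¹ * (ψ (d l) * (t * ψ (u α) * t⁻¹)) * t := by group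
      _ = t⁻¹ * ((t * ψ (u α) * t⁻¹) * ψ (d l)) * t := by rw [h1]
      _ = _ := by group
  · have e : (t⁻¹ * ψ (d l) * t * (t⁻¹ * ψ (d l) * t)) ^ m = t⁻¹ * (ψ (d l) * ψ (d l)) ^ m * t := by
      have e1 : t⁻¹ * ψ (d l) * t * (t⁻¹ * ψ (d l) * t) = t⁻¹ * (ψ (d l) * ψ (d l)) * t⁻¹⁻¹ := by group
      rw [e1, conj_pow, inv_inv]
    rw [e, hm]

/-- `t ψ(d l) t⁻¹` commutes with `ψ (SL₂)` -/
theorem tor₂ (l : kˣ) (g : SpecialLinearGroup (Fin 2) k) :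
    t * ψ (d l) * t⁻¹ * ψ g = ψ g * (t * ψ (d l) * t⁻¹) := by
  obtain ⟨m, hm⟩ := h.odd_d l
  refine h.tor (m := m) ?_ ?_ ?_ g
  · intro x y
    obtain ⟨a, b, e⟩ := h.t_inv_p x y
    obtain ⟨a', b', e'⟩ := h.d_X' l a b
    obtain ⟨a'', b'', e''⟩ := h.tt a' b'
    refine ⟨a'', b'', ?_⟩
    rw [mul_smul, mul_smul, e, e', ← mul_smul, e'']
  · intro α
    have h1 := h.comm _ (h.t_inv_u α) (d l)
    calc t * ψ (d l) * t⁻¹ * ψ (u α) = t * (ψ (d l) * (t⁻¹ * ψ (u α) * t)) * t⁻¹ := by group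
      _ = t * ((t⁻¹ * ψ (u α) * t) * ψ (d l)) * t⁻¹ := by rw [h1]
      _ = _ := by group
  · have e : (t * ψ (d l) * t⁻¹ * (t * ψ (d l) * t⁻¹)) ^ m = t * (ψ (d l) * ψ (d l)) ^ m * t⁻¹ := by
      have e1 : t * ψ (d l) * t⁻¹ * (t * ψ (d l) * t⁻¹) = t * (ψ (d l) * ψ (d l)) * t⁻¹ := by group
      rw [e1, conj_pow]
    rw [e, hm]

end Nin

end Cfsg.Agent.Omega.NO1.B0
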