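import Cfsg.Agent.Omega.NO1.B0.NinB

/-!
# THEOREM B0 (bb OMEGA 18835, helper970), (9): `V = X' ⊕ rX'`; `[K₁, K₂] = 1` for `a > 4`

`r = ψ w`, `κ = t r t⁻¹`: `κ r (t • p a b) = t • p (δ a⁻¹) (δ b⁻¹) + r (t • p b a)` (`exists_δ`); `δ = 0` for `|k| > 4`.
-/

set_option autoImplicit false
set_option linter.unusedSectionVars false

namespace Cfsg.Agent.Omega.NO1.B0

open Subgroup Cfsg.Agent.ClassTwo.Sp4Defs Cfsg.Agent.ClassTwo.Sp4SL2 Matrix

variable {Y : Type*} [Group Y] {V : Type*} [AddCommGroup V] [DistribMulAction Y V] {k : Type*} [Field k]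

namespace Nin

variable [CharP k 2] {S : Subgroup Y} {ψ : SpecialLinearGroup (Fin 2) k →* Y} {p : k → k → V} {t : Y}
  (h : Nin S ψ p t)
include h

theorem fixed_zero {x : V} (hx : ∀ g, ψ g • x = x) : x = 0 := by
  have key : ∀ a b, (∀ g, ψ g • p a b = p a b) → p a b = 0 := by
    intro a b hab
    have h1 := hab (w k)
    have h2 := hab (u 1)
    rw [h.act_w] at h1
    rw [h.act_u] at h2
    obtain ⟨h3, h4⟩ := h.p_inj h1
    obtain ⟨h5, -⟩ := h.p_inj h2
    rw [one_mul, add_eq_left] at h5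
    rw [h3] at h5
    rw [h3, h5, h.p0]
  obtain ⟨s, hs, hs1⟩ := h.exists_s
  obtain ⟨a, b, h1⟩ := h.SV s hs x
  have h2 : p a b = 0 := by
    apply key
    intro g
    rw [← h1, smul_add, hx, ← mul_smul, ← h.comm s hs, mul_smul, hx]
  rw [h2] at h1
  obtain ⟨a', b', h3⟩ := h.Sfix s hs hs1 x (h.eq_of_add h1)
  rw [h3]
  apply key
  intro g
  rw [← h3, hx]

theorem add_t (a b a' b' : k) : t • p (a + a') (b + b') = t • p a b + t • p a' b' := by
  rw [h.add, smul_add]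

theorem add_rt (a b a' b' : k) : ψ (w k) • t • p (a + a') (b + b') = ψ (w k) • t • p a b + ψ (w k) • t • p a' b' := by
  rw [h.add_t, smul_add]

theorem rr (x : V) : ψ (w k) • ψ (w k) • x = x := by
  rw [← mul_smul, ← map_mul, w_mul_w, map_one, one_smul]

theorem P_zero {a b c e : k} (h1 : t • p a b + ψ (w k) • t • p c e = 0) : a = 0 ∧ b = 0 ∧ c = 0 ∧ e = 0 := by
  have h2 := h.eq_of_add h1
  have h3 : t • p a b = 0 := by
    apply h.fixed_zero
    have htop := eq_top_of_uv ((MulAction.stabilizer Y (t • p a b)).comap ψ) (fun α => h.u_X' α a b) (fun α => by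
      change ψ (v α) • t • p a b = t • p a b
      rw [h2, ← w_u_w, map_mul, map_mul, mul_smul, mul_smul, h.rr, h.u_X'])
    intro g
    have h9 : g ∈ (MulAction.stabilizer Y (t • p a b)).comap ψ := by rw [htop]; exact mem_top g
    exact h9
  have h4 : ψ (w k) • t • p c e = 0 := by rw [← h2, h3]
  rw [smul_eq_zero_iff_eq] at h3 h4
  rw [smul_eq_zero_iff_eq] at h4
  obtain ⟨h5, h6⟩ := h.inj _ _ h3
  obtain ⟨h7, h8⟩ := h.inj _ _ h4
  exact ⟨h5, h6, h7, h8⟩

theorem P_inj {a b c e a' b' c' e' : k}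
    (h1 : t • p a b + ψ (w k) • t • p c e = t • p a' b' + ψ (w k) • t • p c' e') :
    a = a' ∧ b = b' ∧ c = c' ∧ e = e' := by
  have h2 : t • p (a + a') (b + b') + ψ (w k) • t • p (c + c') (e + e') = 0 := by
    rw [h.add_t, h.add_rt]
    have e1 : t • p a b + t • p a' b' + (ψ (w k) • t • p c e + ψ (w k) • t • p c' e') =
        (t • p a b + ψ (w k) • t • p c e) + (t • p a' b' + ψ (w k) • t • p c' e') := by abel
    rw [e1, h1, h.two]
  obtain ⟨h3, h4, h5, h6⟩ := h.P_zero h2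
  exact ⟨CharTwo.add_eq_zero.1 h3, CharTwo.add_eq_zero.1 h4, CharTwo.add_eq_zero.1 h5, CharTwo.add_eq_zero.1 h6⟩

theorem P_surj (x : V) : ∃ a b c e, x = t • p a b + ψ (w k) • t • p c e := by
  have := h.fk
  have := h.fV
  let f : k × k × k × k → V := fun a => t • p a.1 a.2.1 + ψ (w k) • t • p a.2.2.1 a.2.2.2
  have hinj : Function.Injective f := by
    rintro ⟨a, b, c, e⟩ ⟨a', b', c', e'⟩ hab
    obtain ⟨rfl, rfl, rfl, rfl⟩ := h.P_inj hab
    rfl
  have hcard : Nat.card (k × k × k × k) = Nat.card V := by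
    rw [h.cV, Nat.card_prod, Nat.card_prod, Nat.card_prod]; ring
  obtain ⟨⟨a, b, c, e⟩, hx⟩ := ((Nat.bijective_iff_injective_and_card f).2 ⟨hinj, hcard⟩).2 x
  exact ⟨a, b, c, e, hx.symm⟩

/-- two elements which agree on `X'` and `rX'` -/
theorem eq_of_P {g g' : Y} (h1 : ∀ a b, g • t • p a b = g' • t • p a b)
    (h2 : ∀ a b, g • ψ (w k) • t • p a b = g' • ψ (w k) • t • p a b) : g = g' := by
  have h3 : g'⁻¹ * g = 1 := by
    apply h.faith
    intro x
    obtain ⟨a, b, c, e, rfl⟩ := h.P_surj x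
    rw [mul_smul, smul_add g, h1, h2, ← smul_add, inv_smul_smul]
  rw [inv_mul_eq_one] at h3
  exact h3.symm

/-- `ψ (d l)` acts on `X'` as a scalar -/
theorem exists_χ_aux (l : kˣ) : ∃ c : k, ∀ a b, ψ (d l) • t • p a b = t • p (c * a) (c * b) := by
  choose f f' hf using h.d_X' l
  have hadd : ∀ a b a' b', f (a + a') (b + b') = f a b + f a' b' ∧ f' (a + a') (b + b') = f' a b + f' a' b' := by
    intro a b a' b'
    have h1 := hf (a + a') (b + b')
    rw [h.add_t, smul_add, hf, hf, ← h.add_t, smul_left_cancel_iff] at h1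
    obtain ⟨h2, h3⟩ := h.p_inj h1
    exact ⟨h2.symm, h3.symm⟩
  let F : (Fin 2 → k) →+ (Fin 2 → k) := AddMonoidHom.mk' (fun x => ![f (x 0) (x 1), f' (x 0) (x 1)]) (by
    intro x y
    ext i
    fin_cases i
    · exact (hadd _ _ _ _).1
    · exact (hadd _ _ _ _).2)
  obtain ⟨c, hc⟩ := end_scalar F (by
    intro g x
    have h1 := hf (x 0) (x 1)
    have h2 := hf (g.1 0 0 * x 0 + g.1 0 1 * x 1) (g.1 1 0 * x 0 + g.1 1 1 * x 1)
    rw [← h.act g (x 0) (x 1)] at h2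
    have h3 : ψ (d l) • t • ψ g • p (x 0) (x 1) = t • ψ g • t⁻¹ • ψ (d l) • t • p (x 0) (x 1) := by
      have h4 := h.tor₁ l g
      have h5 : ψ (d l) * t * ψ g = t * ψ g * t⁻¹ * ψ (d l) * t := by
        calc ψ (d l) * t * ψ g = t * (t⁻¹ * ψ (d l) * t * ψ g) := by group
          _ = t * (ψ g * (t⁻¹ * ψ (d l) * t)) := by rw [h4]
          _ = _ := by group
      have h6 := congrArg (fun y : Y => y • p (x 0) (x 1)) h5
      simp only [mul_smul] at h6
      exact h6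
    rw [h3, h1, inv_smul_smul, h.act, smul_left_cancel_iff] at h2
    obtain ⟨h4, h5⟩ := h.p_inj h2
    rw [Cfsg.Agent.ClassTwo.Sp4SL2.mulVec_apply, Cfsg.Agent.ClassTwo.Sp4SL2.mulVec_apply]
    ext i
    fin_cases i
    · change f _ _ = _
      simp only [Matrix.cons_val_zero, Matrix.cons_val_one]
      rw [← h4]; rfl
    · change f' _ _ = _
      simp only [Matrix.cons_val_zero, Matrix.cons_val_one]
      rw [← h5]; rfl)
  refine ⟨c, fun a b => ?_⟩
  have h1 := hc ![a, b]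
  have h2 := congrFun h1 0
  have h3 := congrFun h1 1
  change f a b = c * a at h2
  change f' a b = c * b at h3
  rw [hf, h2, h3]

theorem exists_χ : ∃ χ : kˣ → kˣ, (∀ l a b, ψ (d l) • t • p a b = t • p (χ l * a) (χ l * b)) ∧
    (∀ l a b, ψ (d l) • ψ (w k) • t • p a b = ψ (w k) • t • p ((χ l)⁻¹ * a) ((χ l)⁻¹ * b)) ∧
    Function.Surjective χ := by
  have := h.fk
  have hc : ∀ l : kˣ, ∃ c : kˣ, ∀ a b, ψ (d l) • t • p a b = t • p (c * a) (c * b) := by
    intro l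
    obtain ⟨c, hc⟩ := h.exists_χ_aux l
    have hc0 : c ≠ 0 := by
      intro h0
      have h1 := hc 1 0
      rw [h0, zero_mul, zero_mul, h.p0, smul_zero, smul_eq_zero_iff_eq, smul_eq_zero_iff_eq] at h1
      exact one_ne_zero (h.inj _ _ h1).1
    exact ⟨Units.mk0 c hc0, hc⟩
  choose χ hχ using hc
  have hχ' : ∀ l a b, ψ (d l) • ψ (w k) • t • p a b = ψ (w k) • t • p ((χ l)⁻¹ * a) ((χ l)⁻¹ * b) := by
    intro l a b
    have e1 : d l * w k = w k * (d l)⁻¹ := by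
      have := w_d_w l
      rw [← this, ← mul_assoc, ← mul_assoc, w_mul_w, one_mul]
    have e2 : ψ (d l) • ψ (w k) • t • p a b = ψ (w k) • (ψ (d l))⁻¹ • t • p a b := by
      rw [← mul_smul, ← map_mul, e1, map_mul, mul_smul, map_inv]
    rw [e2]
    congr 1
    rw [inv_smul_eq_iff, hχ, ← mul_assoc, ← mul_assoc, Units.mul_inv, one_mul, one_mul]
  refine ⟨χ, hχ, hχ', ?_⟩
  apply Finite.surjective_of_injective
  have hmul : ∀ l l', χ (l * l') = χ l * χ l' := by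
    intro l l'
    have h1 := hχ (l * l') 1 0
    rw [← d_mul, map_mul, mul_smul, hχ, hχ, smul_left_cancel_iff] at h1
    apply Units.ext
    have h2 := (h.p_inj h1).1
    rw [mul_one, mul_one] at h2
    exact h2.symm
  have hone : ∀ l, χ l = 1 → l = 1 := by
    intro l hl
    have h1 : ψ (d l) = 1 := by
      apply h.eq_of_P
      · intro a b
        rw [hχ, hl, Units.val_one, one_mul, one_mul, one_smul]
      · intro a b
        rw [hχ', hl, inv_one, Units.val_one, one_mul, one_mul, one_smul]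
    have h2 := h.ψ_inj h1
    rw [← d_one] at h2
    exact d_injective h2
  intro l l' hll
  have h1 : χ (l * l'⁻¹) * χ l' = χ l := by rw [← hmul, inv_mul_cancel_right]
  rw [hll] at h1
  have h2 := hone _ (mul_eq_right.1 h1)
  rw [mul_inv_eq_one] at h2
  exact h2

/-- the braid relation -/
theorem u_rt (a b : k) : ψ (u 1) • ψ (w k) • t • p a b = t • p a b + ψ (w k) • t • p a b := by
  obtain ⟨a', b', h1⟩ := h.u_V 1 (ψ (w k) • t • p a b)
  have h2 : ψ (u 1) • ψ (w k) • t • p a b = t • p a' b' + ψ (w k) • t • p a b := by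
    rw [← h1, add_assoc, h.two, add_zero]
  have e : (w k) * u (1 : k) * w k = u 1 * w k * u 1 := by
    rw [w_u_w, w_eq', ← mul_assoc, ← mul_assoc, u_mul_self, one_mul, mul_assoc, u_mul_self, mul_one]
  have h3 : ψ (w k * u (1 : k) * w k) • t • p a b = ψ (u 1 * w k * u 1) • t • p a b := by rw [e]
  rw [map_mul, map_mul, map_mul, map_mul, mul_smul, mul_smul, mul_smul, mul_smul, h.u_X', h2, smul_add, h.rr,
    add_comm (ψ (w k) • t • p a' b')] at h3
  obtain ⟨h4, h5, -, -⟩ := h.P_inj h3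
  rw [h2, h4, h5]

/-- `t ψ(g) t⁻¹` on `X'` -/
theorem K₁_X' (g : SpecialLinearGroup (Fin 2) k) (a b : k) : (t * ψ g * t⁻¹) • t • p a b = t • ψ g • p a b := by
  rw [← mul_smul, inv_mul_cancel_right, mul_smul]

/-- `t ψ(g) t⁻¹` commutes with `S'` -/
theorem K₁_u (g : SpecialLinearGroup (Fin 2) k) (α : k) : t * ψ g * t⁻¹ * ψ (u α) = ψ (u α) * (t * ψ g * t⁻¹) := by
  have h1 := h.comm _ (h.t_inv_u α) g
  calc t * ψ g * t⁻¹ * ψ (u α) = t * (ψ g * (t⁻¹ * ψ (u α) * t)) * t⁻¹ := by group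
    _ = t * ((t⁻¹ * ψ (u α) * t) * ψ g) * t⁻¹ := by rw [h1]
    _ = _ := by group

/-- `t ψ(g) t⁻¹` commutes with the torus `ψ (d l)` -/
theorem K₁_d (g : SpecialLinearGroup (Fin 2) k) (l : kˣ) : t * ψ g * t⁻¹ * ψ (d l) = ψ (d l) * (t * ψ g * t⁻¹) := by
  have h1 := h.tor₁ l g
  calc t * ψ g * t⁻¹ * ψ (d l) = t * (ψ g * (t⁻¹ * ψ (d l) * t)) * t⁻¹ := by group
    _ = t * ((t⁻¹ * ψ (d l) * t) * ψ g) * t⁻¹ := by rw [h1]
    _ = _ := by group

/-- `t ψ(g) t⁻¹` on `rX'` -/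
theorem K₁_rX' (g : SpecialLinearGroup (Fin 2) k) (a b : k) :
    ∃ A B, (t * ψ g * t⁻¹) • ψ (w k) • t • p a b = t • p A B + ψ (w k) • t • ψ g • p a b := by
  obtain ⟨A, B, C, D, h1⟩ := h.P_surj ((t * ψ g * t⁻¹) • ψ (w k) • t • p a b)
  refine ⟨A, B, ?_⟩
  have h2 : (t * ψ g * t⁻¹) • ψ (u 1) • ψ (w k) • t • p a b = ψ (u 1) • (t * ψ g * t⁻¹) • ψ (w k) • t • p a b := by
    rw [← mul_smul, h.K₁_u, mul_smul]
  obtain ⟨a', b', hab⟩ := h.Pr_ψ g a b
  rw [h.u_rt, smul_add, h1, smul_add, h.u_X', h.u_rt, h.K₁_X', hab] at h2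
  have h3 : t • p (a' + A) (b' + B) + ψ (w k) • t • p C D = t • p (A + C) (B + D) + ψ (w k) • t • p C D := by
    rw [h.add_t, h.add_t, add_assoc, add_assoc]
    exact h2
  obtain ⟨h4, h5, -, -⟩ := h.P_inj h3
  rw [add_comm a', add_right_inj] at h4
  rw [add_comm b', add_right_inj] at h5
  rw [h1, hab, h4, h5]

/-- `κ = t ψ(w) t⁻¹` on `rX'` -/
theorem exists_δ : ∃ δ : k, ∀ a b, (t * ψ (w k) * t⁻¹) • ψ (w k) • t • p a b =
    t • p (δ * a⁻¹) (δ * b⁻¹) + ψ (w k) • t • p b a := by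
  have h1 : ∀ a b, ∃ A B, (t * ψ (w k) * t⁻¹) • ψ (w k) • t • p a b = t • p A B + ψ (w k) • t • p b a := by
    intro a b
    obtain ⟨A, B, h2⟩ := h.K₁_rX' (w k) a b
    refine ⟨A, B, ?_⟩
    rw [h2, h.act_w]
  choose A B hAB using h1
  have hadd : ∀ a b a' b', A (a + a') (b + b') = A a b + A a' b' ∧ B (a + a') (b + b') = B a b + B a' b' := by
    intro a b a' b'
    have h2 := hAB (a + a') (b + b')
    rw [h.add_rt, smul_add, hAB, hAB, h.add_rt] at h2
    have h3 : t • p (A a b + A a' b') (B a b + B a' b') + ψ (w k) • t • p (b + b') (a + a') =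
        t • p (A (a + a') (b + b')) (B (a + a') (b + b')) + ψ (w k) • t • p (b + b') (a + a') := by
      rw [h.add_t, h.add_rt, ← h2]; abel
    obtain ⟨h4, h5, -, -⟩ := h.P_inj h3
    exact ⟨h4.symm, h5.symm⟩
  obtain ⟨χ, hχ, hχ', hχs⟩ := h.exists_χ
  -- scalars
  have hsc : ∀ (l : kˣ) a b, A (l * a) (l * b) = (l : k)⁻¹ * A a b ∧ B (l * a) (l * b) = (l : k)⁻¹ * B a b := by
    intro l a b
    obtain ⟨m, hm⟩ := hχs l⁻¹
    have h2 : (t * ψ (w k) * t⁻¹) • ψ (d m) • ψ (w k) • t • p a b =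
        ψ (d m) • (t * ψ (w k) * t⁻¹) • ψ (w k) • t • p a b := by
      rw [← mul_smul, h.K₁_d, mul_smul]
    rw [hχ', hm, inv_inv, hAB, hAB, smul_add, hχ, hχ', hm, inv_inv] at h2
    obtain ⟨h3, h4, -, -⟩ := h.P_inj h2
    rw [Units.val_inv_eq_inv_val] at h3 h4
    exact ⟨h3, h4⟩
  -- the other torus
  have hto : ∀ (l : kˣ) a b, A (l * a) ((l⁻¹ : kˣ) * b) = (l⁻¹ : kˣ) * A a b ∧
      B (l * a) ((l⁻¹ : kˣ) * b) = l * B a b := by
    intro l a b
    have e1 : t * ψ (w k) * t⁻¹ * (t * ψ (d l) * t⁻¹) = t * ψ (d l⁻¹) * t⁻¹ * (t * ψ (w k) * t⁻¹) := by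
      have e2 : w k * d l = d l⁻¹ * w k := by
        rw [← d_inv, ← w_d_w l, mul_assoc, w_mul_w, mul_one]
      have e3 : ψ (w k) * ψ (d l) = ψ (d l⁻¹) * ψ (w k) := by rw [← map_mul, e2, map_mul]
      calc t * ψ (w k) * t⁻¹ * (t * ψ (d l) * t⁻¹) = t * (ψ (w k) * ψ (d l)) * t⁻¹ := by group
        _ = _ := by rw [e3]; group
    have hr : ∀ (m : kˣ) a b, (t * ψ (d m) * t⁻¹) • ψ (w k) • t • p a b =
        ψ (w k) • t • p (m * a) ((m⁻¹ : kˣ) * b) := by
      intro m a b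
      rw [← mul_smul, h.tor₂, mul_smul, h.K₁_X', h.act_d]
    have h2 : (t * ψ (w k) * t⁻¹) • (t * ψ (d l) * t⁻¹) • ψ (w k) • t • p a b =
        (t * ψ (d l⁻¹) * t⁻¹) • (t * ψ (w k) * t⁻¹) • ψ (w k) • t • p a b := by
      rw [← mul_smul, e1, mul_smul]
    rw [hr, hAB, hAB, smul_add, h.K₁_X', h.act_d, hr, inv_inv] at h2
    obtain ⟨h3, h4, -, -⟩ := h.P_inj h2
    exact ⟨h3, h4⟩
  obtain ⟨l, hl⟩ := exists_unit_ne_one h.q4
  have hl0 : (l : k) ≠ 0 := l.ne_zero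
  have hl2 : (l : k) * l ≠ 1 := by
    intro h2
    apply hl
    have h3 : ((l : k) + 1) * (l + 1) = 0 := by
      have h4 : (l : k) + l = 0 := CharTwo.add_self_eq_zero _
      have h5 : (1 : k) + 1 = 0 := CharTwo.add_self_eq_zero _
      linear_combination h2 + h4 + h5
    have h4 : (l : k) + 1 = 0 := mul_self_eq_zero.1 h3
    exact CharTwo.add_eq_zero.1 h4
  have hBa : ∀ a, B a 0 = 0 := by
    intro a
    have h2 := (hsc l a 0).2
    have h3 := (hto l a 0).2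
    rw [mul_zero] at h2 h3
    rw [h2] at h3
    have h4 : ((l : k) * l - 1) * B a 0 = 0 := by
      field_simp at h3
      linear_combination -h3
    exact (mul_eq_zero.1 h4).resolve_left (sub_ne_zero.2 hl2)
  have hAb : ∀ b, A 0 b = 0 := by
    intro b
    have h2 := (hsc l⁻¹ 0 b).1
    have h3 := (hto l 0 b).1
    rw [mul_zero] at h2 h3
    rw [h2, Units.val_inv_eq_inv_val, inv_inv] at h3
    have h4 : ((l : k) * l - 1) * A 0 b = 0 := by
      field_simp at h3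
      linear_combination h3
    exact (mul_eq_zero.1 h4).resolve_left (sub_ne_zero.2 hl2)
  have hA : ∀ a b, A a b = A a 0 := by
    intro a b
    have h2 := (hadd a 0 0 b).1
    rw [add_zero, zero_add, hAb, add_zero] at h2
    exact h2
  have hB : ∀ a b, B a b = B 0 b := by
    intro a b
    have h2 := (hadd a 0 0 b).2
    rw [add_zero, zero_add, hBa, zero_add] at h2
    exact h2
  have hBA : ∀ b, B 0 b = A b 0 := by
    intro b
    have e1 : t * ψ (w k) * t⁻¹ * (t * ψ (w k) * t⁻¹) = 1 := by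
      calc t * ψ (w k) * t⁻¹ * (t * ψ (w k) * t⁻¹) = t * (ψ (w k) * ψ (w k)) * t⁻¹ := by group
        _ = 1 := by rw [← map_mul, w_mul_w, map_one]; group
    have h2 : (t * ψ (w k) * t⁻¹) • (t * ψ (w k) * t⁻¹) • ψ (w k) • t • p 0 b = ψ (w k) • t • p 0 b := by
      rw [← mul_smul, e1, one_smul]
    rw [hAB, smul_add, h.K₁_X', h.act_w, hAB] at h2
    have h3 : t • p (B 0 b + A b 0) (A 0 b + B b 0) + ψ (w k) • t • p 0 b = t • p 0 0 + ψ (w k) • t • p 0 b := by
      rw [h.add_t, h.p0, smul_zero, zero_add, add_assoc]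
      exact h2
    have h4 := (h.P_inj h3).1
    exact CharTwo.add_eq_zero.1 h4
  have hAinv : ∀ a, A a 0 = A 1 0 * a⁻¹ := by
    intro a
    by_cases ha : a = 0
    · have h2 := hAb 0
      rw [ha, _root_.inv_zero, mul_zero, h2]
    · have h2 := (hsc (Units.mk0 a ha) 1 0).1
      rw [mul_zero] at h2
      change A (a * 1) 0 = a⁻¹ * _ at h2
      rw [mul_one] at h2
      rw [h2, mul_comm]
  refine ⟨A 1 0, fun a b => ?_⟩
  rw [hAB, hA, hB, hBA, hAinv a, hAinv b]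

/-- `δ (a + b)⁻¹ = δ a⁻¹ + δ b⁻¹` -/
theorem δ_add {δ : k} (hδ : ∀ a b, (t * ψ (w k) * t⁻¹) • ψ (w k) • t • p a b =
    t • p (δ * a⁻¹) (δ * b⁻¹) + ψ (w k) • t • p b a) (a b : k) : δ * (a + b)⁻¹ = δ * a⁻¹ + δ * b⁻¹ := by
  have h1 := hδ (a + b) 0
  have h2 : p (a + b) 0 = p a 0 + p b 0 := by rw [← h.add, add_zero]
  rw [h2, smul_add, smul_add, smul_add, hδ, hδ, _root_.inv_zero, mul_zero] at h1
  have h3 : t • p (δ * a⁻¹ + δ * b⁻¹) 0 + ψ (w k) • t • p 0 (a + b) =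
      t • p (δ * (a + b)⁻¹) 0 + ψ (w k) • t • p 0 (a + b) := by
    have e1 : t • p (δ * a⁻¹ + δ * b⁻¹) 0 = t • p (δ * a⁻¹) 0 + t • p (δ * b⁻¹) 0 := by
      rw [← h.add_t, add_zero]
    have e2 : ψ (w k) • t • p 0 (a + b) = ψ (w k) • t • p 0 a + ψ (w k) • t • p 0 b := by
      rw [← h.add_rt, add_zero]
    rw [e1, ← h1, e2]; abel
  exact (h.P_inj h3).1.symm

/-- `δ = 0` for `|k| > 4` -/
theorem δ_zero {δ : k} (hδ : ∀ a b, (t * ψ (w k) * t⁻¹) • ψ (w k) • t • p a b =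
    t • p (δ * a⁻¹) (δ * b⁻¹) + ψ (w k) • t • p b a) (h4 : 4 < Nat.card k) : δ = 0 := by
  classical
  have := h.fk
  have := Fintype.ofFinite k
  by_contra hδ0
  have key : ∀ a : k, a ≠ 0 → a ≠ 1 → a * a + a + 1 = 0 := by
    intro a ha ha1
    have h1 := h.δ_add hδ a 1
    have ha2 : a + 1 ≠ 0 := fun h2 => ha1 (CharTwo.add_eq_zero.1 h2)
    rw [← mul_add] at h1
    have h2 := mul_left_cancel₀ hδ0 h1
    field_simp at h2
    linear_combination -h2
  -- at most two solutions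
  obtain ⟨l, hl⟩ := exists_unit_ne_one h.q4
  have hl0 : (l : k) ≠ 0 := l.ne_zero
  have hsub : (Finset.univ : Finset k) ⊆ {0, 1, (l : k), (l : k) + 1} := by
    intro a _
    by_cases ha : a = 0
    · simp [ha]
    by_cases ha1 : a = 1
    · simp [ha1]
    have h1 := key a ha ha1
    have h2 := key l hl0 hl
    have h3 : (a + l) * (a + l + 1) = 0 := by
      have h5 : (1 : k) + 1 = 0 := CharTwo.add_self_eq_zero _
      have h6 : a * l + a * l = 0 := CharTwo.add_self_eq_zero _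
      linear_combination h1 + h2 + h6 - h5
    rcases mul_eq_zero.1 h3 with h4 | h4
    · have : a = l := CharTwo.add_eq_zero.1 h4
      simp [this]
    · have : a = (l : k) + 1 := by
        have h5 : a + ((l : k) + 1) = 0 := by rw [← h4]; ring
        exact CharTwo.add_eq_zero.1 h5
      simp [this]
  have h1 := Finset.card_le_card hsub
  have h2 : Finset.card ({0, 1, (l : k), (l : k) + 1} : Finset k) ≤ 4 := Finset.card_le_four
  rw [Finset.card_univ, ← Nat.card_eq_fintype_card] at h1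
  omega

/-- `δ = 0` ⟹ `[K₁, K₂] = 1` -/
theorem comm_of_δ (hδ : ∀ a b, (t * ψ (w k) * t⁻¹) • ψ (w k) • t • p a b = ψ (w k) • t • p b a)
    (g g' : SpecialLinearGroup (Fin 2) k) : t * ψ g * t⁻¹ * ψ g' = ψ g' * (t * ψ g * t⁻¹) := by
  have hr : t * ψ (w k) * t⁻¹ * ψ (w k) = ψ (w k) * (t * ψ (w k) * t⁻¹) := by
    have hX : ∀ a b, (t * ψ (w k) * t⁻¹) • t • p a b = t • p b a := by
      intro a b
      rw [h.K₁_X', h.act_w]
    generalize t * ψ (w k) * t⁻¹ = κ at hδ hX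
    apply h.eq_of_P
    · intro a b
      rw [mul_smul, mul_smul, hδ, hX]
    · intro a b
      rw [mul_smul, mul_smul, h.rr, hδ, h.rr, hX]
  -- `r` commutes with `K₁`
  have h1 : ∀ g, t * ψ g * t⁻¹ * ψ (w k) = ψ (w k) * (t * ψ g * t⁻¹) := by
    intro g
    have htop := eq_top_of_uw (((centralizer {ψ (w k)}).comap (MulAut.conj t).toMonoidHom).comap ψ) (fun α => by
      rw [mem_comap, mem_comap, mem_centralizer_singleton_iff]
      exact h.comm _ (h.t_u α) (w k)) (by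
      rw [mem_comap, mem_comap, mem_centralizer_singleton_iff]
      exact hr)
    have h9 : g ∈ ((centralizer {ψ (w k)}).comap (MulAut.conj t).toMonoidHom).comap ψ := by rw [htop]; exact mem_top g
    rw [mem_comap, mem_comap, mem_centralizer_singleton_iff] at h9
    exact h9
  have htop := eq_top_of_uw ((centralizer {t * ψ g * t⁻¹}).comap ψ) (fun α => by
    rw [mem_comap, mem_centralizer_singleton_iff]
    exact (h.K₁_u g α).symm) (by
    rw [mem_comap, mem_centralizer_singleton_iff]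
    exact (h1 g).symm)
  have h9 : g' ∈ (centralizer {t * ψ g * t⁻¹}).comap ψ := by rw [htop]; exact mem_top g'
  rw [mem_comap, mem_centralizer_singleton_iff] at h9
  exact h9.symm

/-- **`[K₁, K₂] = 1` for `a > 4`** -/
theorem comm_K (h4 : 4 < Nat.card k) (g g' : SpecialLinearGroup (Fin 2) k) :
    t * ψ g * t⁻¹ * ψ g' = ψ g' * (t * ψ g * t⁻¹) := by
  obtain ⟨δ, hδ⟩ := h.exists_δ
  have h0 := h.δ_zero hδ h4
  apply h.comm_of_δ
  intro a b
  rw [hδ, h0, zero_mul, zero_mul, h.p0, smul_zero, zero_add]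

end Nin

end Cfsg.Agent.Omega.NO1.B0
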