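import Cfsg.Agent.Omega.NO1.B0.NinC

/-!
# THEOREM B0 (bb OMEGA 18835, helper970), (9), `a = 4`: root groups in coordinates; (Soc5) ⟹ `A ≤ O₂(C_Y(z))`; the end

`P a b c e = t • p a b + r • t • p c e`.
-/

set_option autoImplicit false
set_option linter.unusedSectionVars false

namespace Cfsg.Agent.Omega.NO1.B0

open Subgroup Cfsg.Agent.ClassTwo.Sp4Defs Cfsg.Agent.ClassTwo.Sp4SL2 Matrix

variable {Y : Type*} [Group Y] {V : Type*} [AddCommGroup V] [DistribMulAction Y V] {k : Type*} [Field k]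

namespace Nin

variable [CharP k 2] {S : Subgroup Y} {ψ : SpecialLinearGroup (Fin 2) k →* Y} {p : k → k → V} {t : Y}
  (h : Nin S ψ p t)
include h

theorem exists_sq_unit (α : k) (hα : α ≠ 0) : ∃ l : kˣ, (l : k) ^ 2 = α := by
  have := h.fk
  have hinj : Function.Injective fun x : k => x ^ 2 := by
    intro x y hxy
    have h1 : (x + y) * (x + y) = 0 := by
      have h2 : x ^ 2 = y ^ 2 := hxy
      have h3 : x * y + x * y = 0 := CharTwo.add_self_eq_zero _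
      have h4 : y ^ 2 + y ^ 2 = 0 := CharTwo.add_self_eq_zero _
      linear_combination h2 + h3 + h4
    exact CharTwo.add_eq_zero.1 (mul_self_eq_zero.1 h1)
  obtain ⟨x, hx⟩ := Finite.surjective_of_injective hinj α
  have hx0 : x ≠ 0 := by
    rintro rfl
    apply hα
    rw [← hx]; simp
  exact ⟨Units.mk0 x hx0, hx⟩

/-- `S' = {ψ (u α)}` on `rX'` -/
theorem exists_γ {χ : kˣ → kˣ} (hχ : ∀ l a b, ψ (d l) • t • p a b = t • p (χ l * a) (χ l * b))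
    (hχ' : ∀ l a b, ψ (d l) • ψ (w k) • t • p a b = ψ (w k) • t • p ((χ l)⁻¹ * a) ((χ l)⁻¹ * b))
    (hχs : Function.Surjective χ) :
    ∃ γ : k → k, (∀ α a b, ψ (u α) • ψ (w k) • t • p a b = t • p (γ α * a) (γ α * b) + ψ (w k) • t • p a b) ∧
      Function.Surjective γ ∧ (∀ α β, γ (α + β) = γ α + γ β) ∧ (∀ l : kˣ, ∀ α, γ ((l : k) ^ 2 * α) = (χ l : k) ^ 2 * γ α) ∧
      (∀ α, γ α = 0 → α = 0) := by
  have h1 : ∀ α, ∃ c, ∀ a b, ψ (u α) • ψ (w k) • t • p a b = t • p (c * a) (c * b) + ψ (w k) • t • p a b := by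
    intro α
    by_cases hα : α = 0
    · refine ⟨0, fun a b => ?_⟩
      rw [hα, u_zero, map_one, one_smul, zero_mul, zero_mul, h.p0, smul_zero, zero_add]
    obtain ⟨l, hl⟩ := h.exists_sq_unit α hα
    refine ⟨(χ l : k) ^ 2, fun a b => ?_⟩
    have e1 : u α = d l * u 1 * (d l)⁻¹ := by rw [d_conj_u, mul_one, hl]
    have e2 : ∀ a b, (ψ (d l))⁻¹ • ψ (w k) • t • p a b = ψ (w k) • t • p (χ l * a) (χ l * b) := by
      intro a b
      rw [inv_smul_eq_iff, hχ', ← mul_assoc, ← mul_assoc, Units.inv_mul, one_mul, one_mul]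
    rw [e1, map_mul, map_mul, map_inv, mul_smul, mul_smul, e2, h.u_rt, smul_add, hχ, hχ', ← mul_assoc, ← mul_assoc,
      ← mul_assoc, ← mul_assoc, Units.inv_mul, one_mul, one_mul, ← pow_two]
  choose γ hγ using h1
  have huniq : ∀ α c, (∀ a b, ψ (u α) • ψ (w k) • t • p a b = t • p (c * a) (c * b) + ψ (w k) • t • p a b) →
      γ α = c := by
    intro α c hc
    have h2 := hγ α 1 0
    rw [hc] at h2
    have h3 := (h.P_inj h2).1
    rw [mul_one, mul_one] at h3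
    exact h3.symm
  have hadd : ∀ α β, γ (α + β) = γ α + γ β := by
    intro α β
    apply huniq
    intro a b
    rw [← u_mul, map_mul, mul_smul, hγ, smul_add, h.u_X', hγ, add_mul, add_mul, h.add_t]
    abel
  have hsq : ∀ l : kˣ, ∀ α, γ ((l : k) ^ 2 * α) = (χ l : k) ^ 2 * γ α := by
    intro l α
    apply huniq
    intro a b
    have e2 : ∀ a b, (ψ (d l))⁻¹ • ψ (w k) • t • p a b = ψ (w k) • t • p (χ l * a) (χ l * b) := by
      intro a b
      rw [inv_smul_eq_iff, hχ', ← mul_assoc, ← mul_assoc, Units.inv_mul, one_mul, one_mul]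
    have e3 : ∀ a : k, (((χ l)⁻¹ : kˣ) : k) * ((χ l : k) * a) = a := by
      intro a
      rw [← mul_assoc, Units.inv_mul, one_mul]
    rw [← d_conj_u, map_mul, map_mul, map_inv, mul_smul, mul_smul, e2, hγ, smul_add, hχ, hχ', e3, e3]
    congr 3 <;> ring
  have hone : γ 1 = 1 := huniq 1 1 fun a b => by rw [h.u_rt, one_mul, one_mul]
  refine ⟨γ, hγ, ?_, hadd, hsq, ?_⟩
  · intro c
    by_cases hc : c = 0
    · refine ⟨0, ?_⟩
      have := hadd 0 0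
      rw [add_zero, left_eq_add] at this
      rw [this, hc]
    · obtain ⟨m, hm⟩ := h.exists_sq_unit c hc
      obtain ⟨l, hl⟩ := hχs m
      refine ⟨(l : k) ^ 2 * 1, ?_⟩
      rw [hsq, hl, hm, hone, mul_one]
  · intro α hα
    have h2 : ψ (u α) = 1 := by
      apply h.eq_of_P
      · intro a b
        rw [h.u_X', one_smul]
      · intro a b
        rw [hγ, hα, zero_mul, zero_mul, h.p0, smul_zero, zero_add, one_smul]
    exact u_eq_one.1 (h.ψ_inj h2)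

/-- `S = {t ψ(u β) t⁻¹}` on `X'` and `rX'` -/
theorem s_X' (β a b : k) : (t * ψ (u β) * t⁻¹) • t • p a b = t • p (a + β * b) b := by
  rw [h.K₁_X', h.act_u]

theorem s_rX' (β a b : k) : (t * ψ (u β) * t⁻¹) • ψ (w k) • t • p a b = ψ (w k) • t • p (a + β * b) b := by
  rw [← mul_smul, h.comm _ (h.t_u β), mul_smul, h.s_X']

theorem s_mul (β β' : k) : t * ψ (u β) * t⁻¹ * (t * ψ (u β') * t⁻¹) = t * ψ (u (β + β')) * t⁻¹ := by
  rw [← u_mul, map_mul]; group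

/-- (Soc5) ⟹ `A ≤ O` -/
theorem le_o2 (O : Subgroup Y) (hO : ∀ g : Y, g • p 1 0 = p 1 0 → ∀ x ∈ O, g * x * g⁻¹ ∈ O)
    (hsoc : ∃ a₀ b₀ c₀ e₀ : k, (b₀ ≠ 0 ∨ c₀ ≠ 0 ∨ e₀ ≠ 0) ∧ ∀ m : k, m ≠ 0 → ∃ β α f : k,
      t * ψ (u β) * t⁻¹ * ψ (u α) ∈ O ∧
      (t * ψ (u β) * t⁻¹ * ψ (u α)) • ψ (w k) • t • p 0 m + ψ (w k) • t • p 0 m +
        (t • p a₀ b₀ + ψ (w k) • t • p c₀ e₀) = t • p f 0) :
    (∀ α, ψ (u α) ∈ O) ∧ ∀ β, t * ψ (u β) * t⁻¹ ∈ O := by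
  obtain ⟨χ, hχ, hχ', hχs⟩ := h.exists_χ
  obtain ⟨γ, hγ, hγs, hγa, hγm, hγ0⟩ := h.exists_γ hχ hχ' hχs
  have hγz : γ 0 = 0 := by
    have := hγa 0 0
    rwa [add_zero, left_eq_add] at this
  obtain ⟨a₀, b₀, c₀, e₀, hne, hsoc⟩ := hsoc
  have key : ∀ m : k, m ≠ 0 → e₀ = 0 ∧ ∃ β α, t * ψ (u β) * t⁻¹ * ψ (u α) ∈ O ∧ γ α * m = b₀ ∧ β * m = c₀ := by
    intro m hm
    obtain ⟨β, α, f, hO', he⟩ := hsoc m hm
    rw [mul_smul, hγ, smul_add, h.s_X', h.s_rX', mul_zero, zero_add, zero_add] at he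
    have he' : t • p (β * (γ α * m) + a₀) (γ α * m + b₀) + ψ (w k) • t • p (β * m + c₀) (m + (m + e₀)) =
        t • p f 0 + ψ (w k) • t • p 0 0 := by
      have e1 : p (β * m + c₀) (m + (m + e₀)) = p (β * m) m + (p 0 m + p c₀ e₀) := by
        rw [← h.add, ← h.add, zero_add]
      rw [h.add_t, e1, smul_add, smul_add, smul_add, smul_add, h.p0, smul_zero, smul_zero, add_zero, ← he]
      abel
    obtain ⟨h1, h2, h3, h4⟩ := h.P_inj he'
    rw [← add_assoc, CharTwo.add_self_eq_zero, zero_add] at h4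
    exact ⟨h4, β, α, hO', CharTwo.add_eq_zero.1 h2, CharTwo.add_eq_zero.1 h3⟩
  have he₀ : e₀ = 0 := (key 1 one_ne_zero).1
  -- `S' ≤ O ⟺ S ≤ O`
  have hS : (∀ α, ψ (u α) ∈ O) → ∀ β, t * ψ (u β) * t⁻¹ ∈ O := fun h1 β => hO t h.tz _ (h1 β)
  have hS' : (∀ β, t * ψ (u β) * t⁻¹ ∈ O) → ∀ α, ψ (u α) ∈ O := by
    intro h1 α
    obtain ⟨s, hs, e⟩ := h.conj_surj α
    obtain ⟨β, rfl⟩ := h.t_u_surj hs
    rw [← e]
    exact hO t h.tz _ (h1 β)
  by_cases hb : b₀ = 0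
  · have hc : c₀ ≠ 0 := by
      rcases hne with h1 | h1 | h1
      · exact absurd hb h1
      · exact h1
      · exact absurd he₀ h1
    have h1 : ∀ β, t * ψ (u β) * t⁻¹ ∈ O := by
      intro β
      by_cases hβ : β = 0
      · rw [hβ, u_zero, map_one, mul_one, mul_inv_cancel]; exact one_mem _
      obtain ⟨-, β', α, h2, h3, h4⟩ := key (c₀ / β) (div_ne_zero hc hβ)
      rw [hb] at h3
      have h5 : γ α = 0 := (mul_eq_zero.1 h3).resolve_right (div_ne_zero hc hβ)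
      rw [hγ0 α h5, u_zero, map_one, mul_one] at h2
      have h6 : β' = β := by
        field_simp at h4
        exact h4
      rwa [h6] at h2
    exact ⟨hS' h1, h1⟩
  by_cases hc : c₀ = 0
  · have h1 : ∀ α, ψ (u α) ∈ O := by
      intro α
      by_cases hα : α = 0
      · rw [hα, u_zero, map_one]; exact one_mem _
      have hγα : γ α ≠ 0 := fun h2 => hα (hγ0 α h2)
      obtain ⟨-, β', α', h2, h3, h4⟩ := key (b₀ / γ α) (div_ne_zero hb hγα)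
      rw [hc] at h4
      have h5 : β' = 0 := (mul_eq_zero.1 h4).resolve_right (div_ne_zero hb hγα)
      rw [h5, u_zero, map_one, mul_one, mul_inv_cancel, one_mul] at h2
      have h6 : γ α' = γ α := by
        field_simp at h3
        exact h3
      have h7 : α' = α := by
        have h8 := hγ0 (α' + α) (by rw [hγa, h6, CharTwo.add_self_eq_zero])
        exact CharTwo.add_eq_zero.1 h8
      rwa [h7] at h2
    exact ⟨h1, hS h1⟩
  -- both nonzero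
  obtain ⟨l, hl⟩ := exists_unit_ne_one h.q4
  have hl0 : (l : k) ≠ 0 := l.ne_zero
  have hl4 : (l : k) ^ 2 + ((l : k)⁻¹) ^ 2 ≠ 0 := by
    intro h1
    apply hl
    have h2 : ((l : k) + (l : k)⁻¹) * ((l : k) + (l : k)⁻¹) = 0 := by
      have h3 : (l : k) * (l : k)⁻¹ + (l : k) * (l : k)⁻¹ = 0 := CharTwo.add_self_eq_zero _
      linear_combination h1 + h3
    have h3 := mul_self_eq_zero.1 h2
    have h4 : (l : k) = (l : k)⁻¹ := CharTwo.add_eq_zero.1 h3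
    have h5 : ((l : k) + 1) * (l + 1) = 0 := by
      have h6 : (l : k) * l = 1 := by
        nth_rw 2 [h4]
        exact mul_inv_cancel₀ hl0
      have h7 : (l : k) + l = 0 := CharTwo.add_self_eq_zero _
      have h8 : (1 : k) + 1 = 0 := CharTwo.add_self_eq_zero _
      linear_combination h6 + h7 + h8
    exact CharTwo.add_eq_zero.1 (mul_self_eq_zero.1 h5)
  obtain ⟨l', hl'⟩ := hχs l⁻¹
  have hl'c : ((χ l' : kˣ) : k) = (l : k)⁻¹ := by rw [hl', Units.val_inv_eq_inv_val]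
  set g : Y := ψ (d l') * (t * ψ (d l) * t⁻¹) with hg
  have hgz : g • p 1 0 = p 1 0 := by
    have h1 : p 1 0 = t • p 1 0 := h.tz.symm
    rw [h1, hg, mul_smul, h.K₁_X', h.act_d, hχ, hl'c, mul_one, mul_zero, mul_zero, inv_mul_cancel₀ hl0]
  have h1 : ∀ α, ψ (u α) ∈ O := by
    intro α
    by_cases hα : α = 0
    · rw [hα, u_zero, map_one]; exact one_mem _
    have hγα : γ α ≠ 0 := fun h2 => hα (hγ0 α h2)
    -- `m = (l² + l⁻²) b₀ / γ α`
    set m : k := ((l : k) ^ 2 + ((l : k)⁻¹) ^ 2) * b₀ / γ α with hm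
    have hm0 : m ≠ 0 := div_ne_zero (mul_ne_zero hl4 hb) hγα
    obtain ⟨-, β₁, α₁, h2, h3, h4⟩ := key m hm0
    obtain ⟨-, β₂, α₂, h5, h6, h7⟩ := key (((l : k)⁻¹) ^ 2 * m) (mul_ne_zero (pow_ne_zero 2 (inv_ne_zero hl0)) hm0)
    have h8 := hO g hgz _ h2
    -- conjugate
    have e1 : g * (t * ψ (u β₁) * t⁻¹ * ψ (u α₁)) * g⁻¹ =
        t * ψ (u ((l : k) ^ 2 * β₁)) * t⁻¹ * ψ (u ((l' : k) ^ 2 * α₁)) := by
      have c1 := h.comm _ (h.t_u ((l : k) ^ 2 * β₁)) (d l')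
      have c2 := h.tor₂ l (u α₁)
      have e2 : t * ψ (d l) * t⁻¹ * (t * ψ (u β₁) * t⁻¹) * (t * ψ (d l) * t⁻¹)⁻¹ =
          t * ψ (u ((l : k) ^ 2 * β₁)) * t⁻¹ := by
        rw [← d_conj_u, map_mul, map_mul, map_inv]; group
      have e3 : ψ (d l') * ψ (u α₁) * (ψ (d l'))⁻¹ = ψ (u ((l' : k) ^ 2 * α₁)) := by
        rw [← d_conj_u, map_mul, map_mul, map_inv]
      rw [hg]
      calc ψ (d l') * (t * ψ (d l) * t⁻¹) * (t * ψ (u β₁) * t⁻¹ * ψ (u α₁)) * (ψ (d l') * (t * ψ (d l) * t⁻¹))⁻¹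
          = ψ (d l') * ((t * ψ (d l) * t⁻¹ * (t * ψ (u β₁) * t⁻¹) * (t * ψ (d l) * t⁻¹)⁻¹) *
              (t * ψ (d l) * t⁻¹ * ψ (u α₁)) * (t * ψ (d l) * t⁻¹)⁻¹) * (ψ (d l'))⁻¹ := by group
        _ = ψ (d l') * (t * ψ (u ((l : k) ^ 2 * β₁)) * t⁻¹ *
              (ψ (u α₁) * (t * ψ (d l) * t⁻¹)) * (t * ψ (d l) * t⁻¹)⁻¹) * (ψ (d l'))⁻¹ := by rw [e2, c2]
        _ = (ψ (d l') * (t * ψ (u ((l : k) ^ 2 * β₁)) * t⁻¹)) * ψ (u α₁) * (ψ (d l'))⁻¹ := by group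
        _ = (t * ψ (u ((l : k) ^ 2 * β₁)) * t⁻¹ * ψ (d l')) * ψ (u α₁) * (ψ (d l'))⁻¹ := by rw [c1]
        _ = t * ψ (u ((l : k) ^ 2 * β₁)) * t⁻¹ * (ψ (d l') * ψ (u α₁) * (ψ (d l'))⁻¹) := by group
        _ = _ := by rw [e3]
    rw [e1] at h8
    -- `β` parts agree
    have hβ : (l : k) ^ 2 * β₁ = β₂ := by
      have h9 : (l : k) ^ 2 * (((l : k)⁻¹) ^ 2 * m) = m := by
        rw [← mul_assoc, ← mul_pow, mul_inv_cancel₀ hl0, one_pow, one_mul]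
      have h10 : ((l : k) ^ 2 * β₁) * (((l : k)⁻¹) ^ 2 * m) = β₂ * (((l : k)⁻¹) ^ 2 * m) := by
        rw [h7, ← h4]
        linear_combination β₁ * h9
      exact mul_right_cancel₀ (mul_ne_zero (pow_ne_zero 2 (inv_ne_zero hl0)) hm0) h10
    rw [hβ] at h8
    have h9 := O.mul_mem (O.inv_mem h8) h5
    have e4 : (t * ψ (u β₂) * t⁻¹ * ψ (u ((l' : k) ^ 2 * α₁)))⁻¹ * (t * ψ (u β₂) * t⁻¹ * ψ (u α₂)) =
        ψ (u ((l' : k) ^ 2 * α₁ + α₂)) := by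
      rw [← u_mul, map_mul]
      have : (ψ (u ((l' : k) ^ 2 * α₁)))⁻¹ = ψ (u ((l' : k) ^ 2 * α₁)) := by rw [← map_inv, u_inv']
      rw [_root_.mul_inv_rev, this]; group
    rw [e4] at h9
    have h10 : (l' : k) ^ 2 * α₁ + α₂ = α := by
      have h11 : γ ((l' : k) ^ 2 * α₁ + α₂ + α) = 0 := by
        rw [hγa, hγa, hγm, hl'c]
        have h12 : γ α₁ = b₀ / m := by rw [← h3]; field_simp
        have h13 : γ α₂ = (l : k) ^ 2 * b₀ / m := by
          have h14 : γ α₂ * m = (l : k) ^ 2 * b₀ := by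
            rw [← h6]
            field_simp
          rw [← h14]; field_simp
        have h14 : γ α = ((l : k) ^ 2 + ((l : k)⁻¹) ^ 2) * b₀ / m := by
          rw [eq_div_iff hm0, hm, mul_div_cancel₀ _ hγα]
        rw [h12, h13, h14]
        have h15 : (((l : k)⁻¹) ^ 2 * (b₀ / m) + (l : k) ^ 2 * b₀ / m) + ((l : k) ^ 2 + ((l : k)⁻¹) ^ 2) * b₀ / m =
            (((l : k) ^ 2 + ((l : k)⁻¹) ^ 2) * b₀ / m) + (((l : k) ^ 2 + ((l : k)⁻¹) ^ 2) * b₀ / m) := by ring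
        rw [h15, CharTwo.add_self_eq_zero]
      exact CharTwo.add_eq_zero.1 (hγ0 _ h11)
    rwa [h10] at h9
  exact ⟨h1, hS h1⟩

/-- the end: `C_Y(z)` normalises `F` ⟹ `δ = 0` -/
theorem δ_zero_of_F {δ : k} (hδ : ∀ a b, (t * ψ (w k) * t⁻¹) • ψ (w k) • t • p a b =
    t • p (δ * a⁻¹) (δ * b⁻¹) + ψ (w k) • t • p b a)
    (hF : ∀ g : Y, g • p 1 0 = p 1 0 → ∀ a, ∃ a', g • t • p a 0 = t • p a' 0) : δ = 0 := by
  by_contra hδ0
  obtain ⟨χ, hχ, hχ', hχs⟩ := h.exists_χ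
  obtain ⟨γ, hγ, hγs, hγa, hγm, hγ0⟩ := h.exists_γ hχ hχ' hχs
  obtain ⟨α, hα⟩ := hγs δ⁻¹
  have hv1 : ∀ a b, ψ (v α) • t • p a b = t • p a b + ψ (w k) • t • p (δ⁻¹ * a) (δ⁻¹ * b) := by
    intro a b
    rw [← w_u_w, map_mul, map_mul, mul_smul, mul_smul, hγ, smul_add, h.rr, hα, add_comm]
  have hv2 : ∀ a b, ψ (v α) • ψ (w k) • t • p a b = ψ (w k) • t • p a b := by
    intro a b
    rw [← w_u_w, map_mul, map_mul, mul_smul, mul_smul, h.rr, h.u_X']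
  set κ : Y := t * ψ (w k) * t⁻¹ with hκ
  set s : Y := t * ψ (u 1) * t⁻¹ with hs
  have hy : ∀ x, (s * ψ (v α)) • κ • ψ (w k) • t • p x 0 =
      t • p (δ * x⁻¹) 0 + ψ (w k) • t • p (x⁻¹ + x) x := by
    intro x
    have e1 : κ • ψ (w k) • t • p x 0 = t • p (δ * x⁻¹) 0 + ψ (w k) • t • p 0 x := by
      rw [hδ, _root_.inv_zero, mul_zero]
    rw [e1, mul_smul, smul_add, hv1, hv2, mul_zero, add_assoc, smul_add, hs, h.s_X', mul_zero, add_zero, ← h.add_rt,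
      add_zero, zero_add, h.s_rX', one_mul]
    congr 4
    rw [← mul_assoc, inv_mul_cancel₀ hδ0, one_mul]
  obtain ⟨l, hl⟩ := exists_unit_ne_one h.q4
  have hl0 : (l : k) ≠ 0 := l.ne_zero
  obtain ⟨a', ha'⟩ := hF ((κ * ψ (w k))⁻¹ * (s * ψ (v α)) * (κ * ψ (w k))) (by
    have h1 := hy 1
    rw [inv_one, CharTwo.add_self_eq_zero] at h1
    have h2 : p 1 0 = t • p 1 0 := h.tz.symm
    rw [mul_smul, mul_smul, mul_smul κ, h2, h1, inv_smul_eq_iff, mul_smul κ, hδ, inv_one, _root_.inv_zero, mul_zero])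
    (l : k)
  rw [mul_smul, mul_smul, mul_smul κ, hy, inv_smul_eq_iff, mul_smul κ, hδ, _root_.inv_zero, mul_zero] at ha'
  obtain ⟨-, -, h1, -⟩ := h.P_inj ha'
  apply hl
  have h2 : ((l : k) + 1) * (l + 1) = 0 := by
    have h3 : (l : k) + l = 0 := CharTwo.add_self_eq_zero _
    field_simp at h1
    linear_combination h1 + h3
  exact CharTwo.add_eq_zero.1 (mul_self_eq_zero.1 h2)

end Nin

end Cfsg.Agent.Omega.NO1.B0
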