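import Cfsg.Agent.Omega.NO1.B0.Compl
import Cfsg.Agent.Omega.NO1.AB.UMin

/-!
# FIN-BETA ⟹ the hypotheses of THEOREM B0 (bb OMEGA 20935 (C2), 21423 (D4))

`hyp0_of` : the data of `Fin (BETA)` give `Hyp0`; `exists_out_of` : ... and `Out`.
-/

set_option autoImplicit false
set_option linter.unusedSectionVars false
set_option linter.style.haveILetI false

namespace Cfsg.Agent.Omega.NO1.B0

open Subgroup Cfsg.Agent.Omega.NO1.AB
open scoped Pointwise

universe u

variable {Y : Type u} [Group Y] {V : Type u} [AddCommGroup V] [DistribMulAction Y V]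

/-- `Fin (BETA)` ⟹ `Hyp0` -/
theorem hyp0_of [Finite Y] [Finite V] {T : Sylow 2 Y} {M L A : Subgroup Y} {Q : Subgroup L} {R : Sylow 2 L}
    (hLM : ¬ L ≤ M) (hRT : (R : Subgroup L).map L.subtype ≤ (T : Subgroup Y))
    (h0 : Loc0 (A.subgroupOf L) (Ee V A) (fx V A) Q (M.subgroupOf L) R) (hC : fx V L = ⊥)
    (hne : A.subgroupOf L ⊓ Q ≠ ⊥) (faith : ∀ y : Y, (∀ v : V, y • v = v) → y = 1)
    (irr : ∀ W : AddSubgroup V, (∀ y : Y, ∀ w ∈ W, y • w ∈ W) → W ≤ Ee V A → W = ⊥)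
    (off : ∀ B : Subgroup Y, (∀ b ∈ B, b * b = 1) → B ≠ ⊥ → Nat.card B * Nat.card ↥(fx V B) < Nat.card V)
    (TM : (T : Subgroup Y) ≤ M) (Mne : M ≠ ⊤) (max : ∀ K : Subgroup Y, (T : Subgroup Y) ≤ K → K ≠ ⊤ → K ≤ M) :
    ∃ z, Hyp0 T M L (A.subgroupOf L) Q (M.subgroupOf L) R (Ee V A) (fx V A) z := by
  -- a fixed vector of `T`
  obtain ⟨z, -, hz0, hzT⟩ := exists_fixed_mod h0.two (R := (T : Subgroup Y)) T.2 ⊤ ⊥ (fun _ _ _ _ => trivial)
    (fun r _ w hw => by
      rw [AddSubgroup.mem_bot] at hw ⊢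
      rw [hw, smul_zero]) (by
      obtain ⟨v, hv⟩ := h0.mem.ne
      refine ⟨v, trivial, fun h1 => hv ?_⟩
      rw [AddSubgroup.mem_bot] at h1
      rw [h1]; exact AddSubgroup.zero_mem _)
  rw [AddSubgroup.mem_bot] at hz0
  have hzT' : ∀ r ∈ (T : Subgroup Y), r • z = z := by
    intro r hr
    have h1 := hzT r hr
    rw [AddSubgroup.mem_bot, ← neg_eq_iff_add_eq_zero,
      neg_eq_of_add_eq_zero_left (h0.two (r • z))] at h1
    exact h1
  have hC' : fx V (⊤ : Subgroup L) = ⊥ := by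
    rw [← hC]
    ext v
    constructor
    · intro h l hl
      exact h ⟨l, hl⟩ (mem_top _)
    · intro h l _
      exact h l l.2
  have hloc : Loc (A.subgroupOf L) (Ee V A) (fx V A) Q (M.subgroupOf L) R z :=
    { h0 with
      zR := fun r hr => hzT' _ (hRT ⟨r, hr, rfl⟩)
      zL := by
        by_contra hc
        push Not at hc
        have h1 : z ∈ fx V (⊤ : Subgroup L) := fun l _ => hc l
        rw [hC', AddSubgroup.mem_bot] at h1
        exact hz0 h1 }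
  refine ⟨z, ?_⟩
  exact
    { loc := hloc
      beta := hloc.beta (by
        intro g _ x hx
        by_contra h1
        apply hne
        rw [eq_bot_iff]
        intro b hb
        rw [mem_bot]
        apply h0.mem.inj _ h1 b hb.1
        have h2 : g • x ∈ fx V Q := hloc.smul_X g hx.1
        rw [h2 b hb.2, h0.two]
        exact AddSubgroup.zero_mem _)
      C0 := hC'
      faith := faith
      irr := irr
      off := off
      TM := TM
      M_ne := Mne
      uniqM := max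
      L₁M := fun l hl => mem_subgroupOf.1 hl
      LM := hLM
      RT := fun r hr => hRT ⟨r, hr, rfl⟩
      zT := hzT' }

/-- `Fin (BETA)` ⟹ all conclusions of THEOREM B0 (1)-(7) -/
theorem exists_out_of [Finite Y] [Finite V] {T : Sylow 2 Y} {M L A : Subgroup Y} {Q : Subgroup L} {R : Sylow 2 L}
    (hLM : ¬ L ≤ M) (hRT : (R : Subgroup L).map L.subtype ≤ (T : Subgroup Y))
    (h0 : Loc0 (A.subgroupOf L) (Ee V A) (fx V A) Q (M.subgroupOf L) R) (hC : fx V L = ⊥)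
    (hne : A.subgroupOf L ⊓ Q ≠ ⊥) (faith : ∀ y : Y, (∀ v : V, y • v = v) → y = 1)
    (irr : ∀ W : AddSubgroup V, (∀ y : Y, ∀ w ∈ W, y • w ∈ W) → W ≤ Ee V A → W = ⊥)
    (off : ∀ B : Subgroup Y, (∀ b ∈ B, b * b = 1) → B ≠ ⊥ → Nat.card B * Nat.card ↥(fx V B) < Nat.card V)
    (TM : (T : Subgroup Y) ≤ M) (Mne : M ≠ ⊤) (max : ∀ K : Subgroup Y, (T : Subgroup Y) ≤ K → K ≠ ⊤ → K ≤ M) :
    ∃ (T' : Sylow 2 Y) (z : V) (t : Y), Out T' M L (A.subgroupOf L) Q (M.subgroupOf L) R (Ee V A) (fx V A) z t := by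
  obtain ⟨z, hz⟩ := hyp0_of hLM hRT h0 hC hne faith irr off TM Mne max
  obtain ⟨T', z', h⟩ := hz.exists_hyp
  obtain ⟨t, k⟩ := h.exists_t
  exact ⟨T', z', t, h.out k⟩

end Cfsg.Agent.Omega.NO1.B0
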