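import Cfsg.Agent.Omega.NO1.B0.NinE
import Cfsg.Agent.Omega.NO1.B0.Eight
import Cfsg.Agent.Omega.NO1.B0.OfFin
import Cfsg.Agent.Omega.NO1.TH.Stmt
import Cfsg.Agent.ZN.ChoiceSit

/-!
# THEOREM B0 (bb OMEGA 18835, helper970), (9): `Out` + `OutK` ⟹ `Nin`, `NinT`
-/

set_option autoImplicit false
set_option linter.unusedSectionVars false
set_option linter.style.haveILetI false

namespace Cfsg.Agent.Omega.NO1.B0

open Subgroup Cfsg.Agent.Omega.NO1.AB
open Cfsg.Agent.ClassTwo.Sp4Defs (u v d w)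
open Cfsg.Agent.ClassTwo.Sp4SL2 (det_eq u_zero u_eq_one)
open scoped Pointwise

universe u₁

/-- `SL₂(k) → Y` -/
def ps {Y : Type u₁} [Group Y] {L : Subgroup Y} {K : Subgroup L} {k : Type} [Field k]
    (φ : K ≃* Matrix.SpecialLinearGroup (Fin 2) k) : Matrix.SpecialLinearGroup (Fin 2) k →* Y :=
  (L.subtype.comp K.subtype).comp φ.symm.toMonoidHom

variable {Y : Type u₁} [Group Y] {V : Type u₁} [AddCommGroup V] [DistribMulAction Y V]

/-- the coordinates -/
def pc {L : Subgroup Y} {Q : Subgroup L} {k : Type} [Field k] (e : ↥(fx V Q) ≃+ (Fin 2 → k)) (x y : k) : V :=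
  (e.symm ![x, y] : V)

theorem ps_apply {L : Subgroup Y} {K : Subgroup L} {k : Type} [Field k]
    (φ : K ≃* Matrix.SpecialLinearGroup (Fin 2) k) (g : Matrix.SpecialLinearGroup (Fin 2) k) :
    ps φ g = ((φ.symm g : L) : Y) := rfl

section pc

variable {L : Subgroup Y} {Q : Subgroup L} {k : Type} [Field k] (e : ↥(fx V Q) ≃+ (Fin 2 → k))

theorem mem_pc {v : V} : v ∈ fx V Q ↔ ∃ x y, v = pc e x y := by
  constructor
  · intro hv
    refine ⟨e ⟨v, hv⟩ 0, e ⟨v, hv⟩ 1, ?_⟩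
    unfold pc
    have h1 : ![e ⟨v, hv⟩ 0, e ⟨v, hv⟩ 1] = e ⟨v, hv⟩ := by
      ext i
      fin_cases i <;> rfl
    rw [h1, e.symm_apply_apply]
  · rintro ⟨x, y, rfl⟩
    exact (e.symm ![x, y]).2

theorem pc_e {x y : k} {w : ↥(fx V Q)} (h : (w : V) = pc e x y) : e w = ![x, y] := by
  have : w = e.symm ![x, y] := Subtype.ext h
  rw [this, e.apply_symm_apply]

theorem Pr_iff [Finite V] {g : Y} : Pr (pc e) g ↔ g ∈ NX L V Q := by
  constructor
  · intro h
    apply mem_NX_of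
    intro x hx
    obtain ⟨a, b, rfl⟩ := (mem_pc e).1 hx
    obtain ⟨a', b', h1⟩ := h a b
    rw [h1]
    exact (mem_pc e).2 ⟨_, _, rfl⟩
  · intro h x y
    exact (mem_pc e).1 (NX_smul h ((mem_pc e).2 ⟨x, y, rfl⟩))

end pc

theorem mem_map_of {L : Subgroup Y} {A : Subgroup L} {E F : AddSubgroup V} (h : Mem A E F) :
    Mem (A.map L.subtype) E F where
  comm := by
    rintro _ ⟨b, hb, rfl⟩ _ ⟨c, hc, rfl⟩
    exact congrArg Subtype.val (h.comm b hb c hc)
  sq := by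
    rintro _ ⟨b, hb, rfl⟩
    exact congrArg Subtype.val (h.sq b hb)
  FE := h.FE
  VB := by
    rintro _ ⟨b, hb, rfl⟩ v
    exact h.VB b hb v
  EB := by
    rintro _ ⟨b, hb, rfl⟩ v hv
    exact h.EB b hb v hv
  FB := by
    rintro _ ⟨b, hb, rfl⟩ v hv
    exact h.FB b hb v hv
  CB := fun v hv => h.CB v fun b hb => hv _ ⟨b, hb, rfl⟩
  inj := by
    rintro w hw _ ⟨b, hb, rfl⟩ hbw
    exact congrArg Subtype.val (h.inj w hw b hb hbw)
  surj := fun w hw x hx => by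
    obtain ⟨b, hb, h1⟩ := h.surj w hw x hx
    exact ⟨_, ⟨b, hb, rfl⟩, h1⟩
  ne := h.ne

namespace Out

variable {T : Sylow 2 Y} {M L : Subgroup Y} {A Q L₁ : Subgroup L} {R : Sylow 2 L} {E F : AddSubgroup V}
  {z : V} {t : Y} (o : Out T M L A Q L₁ R E F z t)
include o

section K

variable {K : Subgroup L} {k : Type} [Field k] [Finite k] [CharP k 2] {e : ↥(fx V Q) ≃+ (Fin 2 → k)}
  {φ : K ≃* Matrix.SpecialLinearGroup (Fin 2) k} (ok : OutK o K k e φ)
  (ez : ∀ v : ↥(fx V Q), (v : V) = z → e v = ![1, 0])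
include ok ez

theorem pc_z [Finite Y] [Finite V] : pc e 1 0 = z := by
  have h1 : (⟨z, o.hyp.loc.z_mem.1⟩ : ↥(fx V Q)) = e.symm ![1, 0] := by
    rw [← ez ⟨z, o.hyp.loc.z_mem.1⟩ rfl, e.symm_apply_apply]
  unfold pc
  rw [← h1]

/-- **`Nin`** -/
theorem nin [Finite Y] [Finite V] (ha : 4 ≤ E.index) : Nin (Q.map L.subtype) (ps φ) (pc e) t := by
  have h := o.hyp
  have hact : ∀ (g : Matrix.SpecialLinearGroup (Fin 2) k) (x y : k), ps φ g • pc e x y =
      pc e (g.1 0 0 * x + g.1 0 1 * y) (g.1 1 0 * x + g.1 1 1 * y) := by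
    intro g x y
    have hX : pc e x y ∈ fx V Q := (mem_pc e).2 ⟨x, y, rfl⟩
    have h1 := ok.act (φ.symm g) (e.symm ![x, y]) ⟨(φ.symm g : L) • pc e x y, o.hyp.Xmem hX⟩ rfl
    rw [e.apply_symm_apply, φ.apply_symm_apply, Cfsg.Agent.ClassTwo.Sp4SL2.mulVec_apply] at h1
    have h2 : (⟨(φ.symm g : L) • pc e x y, o.hyp.Xmem hX⟩ : ↥(fx V Q)) =
        e.symm ![g.1 0 0 * x + g.1 0 1 * y, g.1 1 0 * x + g.1 1 1 * y] := by
      rw [e.eq_symm_apply]
      exact h1
    exact congrArg Subtype.val h2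
  have hco := o.co_of ok ez
  exact
    { two := o.two
      faith := h.faith
      add := by
        intro x y x' y'
        unfold pc
        rw [← add_vec, map_add]
        rfl
      inj := by
        intro x y hxy
        have h1 : e.symm ![x, y] = 0 := Subtype.ext hxy
        rw [map_eq_zero_iff e.symm e.symm.injective] at h1
        exact ⟨congrFun h1 0, congrFun h1 1⟩
      act := hact
      fix := by
        rintro _ ⟨q, hq, rfl⟩ x y
        exact (e.symm ![x, y]).2 q hq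
      comm := by
        rintro _ ⟨q, hq, rfl⟩ g
        exact congrArg Subtype.val (o.Qz q hq (φ.symm g : L))
      SV := by
        rintro _ ⟨q, hq, rfl⟩ v
        exact (mem_pc e).1 (o.QV q hq v)
      Sfix := by
        rintro _ ⟨q, hq, rfl⟩ hq1 v hv
        exact (mem_pc e).1 (o.Qfix q hq (fun h1 => hq1 (by rw [h1]; rfl)) v hv)
      DD := by
        intro g h1 h2
        obtain ⟨q, hq, h3⟩ := o.DD g (fun x hx => by
          obtain ⟨a, b, rfl⟩ := (mem_pc e).1 hx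
          exact h1 a b) (fun v => (mem_pc e).2 (h2 v))
        exact ⟨q, hq, h3⟩
      Sab := by
        rintro _ ⟨q, hq, rfl⟩ _ ⟨q', hq', rfl⟩
        exact congrArg Subtype.val (o.Qz q hq q')
      cS := by
        rw [ok.card, ← o.cQ]
        exact (Nat.card_congr (Q.equivMapOfInjective _ L.subtype_injective).toEquiv).symm
      cV := by rw [o.cV, ok.card]
      conj := by
        rintro _ ⟨q, hq, rfl⟩
        obtain ⟨b, hbA, hbK, hb⟩ := o.SK ha ok hq
        set m := φ ⟨b, hbK⟩ with hm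
        have hmb : ps φ m = b := by
          rw [ps_apply, hm, φ.symm_apply_apply]
        have h1 := hact m 1 0
        have h2 : pc e 1 0 ∈ F := by rw [o.pc_z ok ez]; exact h.loc.z_mem.2
        have h3 : ps φ m • pc e 1 0 = pc e 1 0 := by
          rw [hmb]
          exact h.loc.mem.FB b hbA _ h2
        rw [h3] at h1
        have h4 := pc_e e (w := e.symm ![1, 0]) h1
        rw [e.apply_symm_apply] at h4
        obtain ⟨h5, h6⟩ := vec_inj h4
        simp only [mul_one, mul_zero, add_zero] at h5 h6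
        refine ⟨m.1 0 1, ?_⟩
        have h7 : m = u (m.1 0 1) := by
          rw [Cfsg.Agent.ClassTwo.Sp4SL2.ext_iff]
          have h8 := det_eq m
          rw [← h5, ← h6, mul_zero, sub_zero, one_mul] at h8
          simp [← h5, ← h6, h8]
        rw [← h7, hmb]
        exact hb.symm
      tt := (Pr_iff e).2 o.tk.tt
      tz := by
        rw [o.pc_z ok ez]
        exact h.zT t o.tk.tT
      line := by
        intro g hg x y c
        have hg' := (Pr_iff e).1 hg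
        obtain ⟨c', hc'⟩ := h.line hco hg' ![x, y] c
        refine ⟨c', fun x' y' h1 => ?_⟩
        have h2 : ge e hg' ![x, y] = ![x', y'] := by
          rw [ge_apply]
          exact pc_e e h1
        rw [h2, smul_vec, smul_vec, ge_apply, ← e.eq_symm_apply] at hc'
        exact congrArg Subtype.val hc'
      semi := by
        intro g hg hgz
        have hg' := (Pr_iff e).1 hg
        rw [o.pc_z ok ez] at hgz
        obtain ⟨α, β, δ, hβ, h1⟩ := h.semi hco hg' hgz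
        refine ⟨α, β, δ, hβ, fun x y => ?_⟩
        have h2 := h1 x y
        rw [ge_apply, ← e.eq_symm_apply] at h2
        exact congrArg Subtype.val h2
      q4 := by rw [ok.card]; exact ha }

/-- `v ∈ F` in coordinates -/
theorem mem_F_pc [Finite Y] [Finite V] (ha : 4 ≤ E.index) (v : V) : v ∈ F ↔ ∃ a, v = t • pc e a 0 := by
  have h := o.nin ok ez ha
  obtain ⟨τ, hτ, -, -, -, hτb⟩ := h.exists_τ
  constructor
  · intro hv
    have h1 := (ok.memF ⟨v, o.FX hv⟩).1 hv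
    obtain ⟨x, y, h2⟩ := (mem_pc e).1 (o.FX hv)
    have h3 := pc_e e (w := ⟨v, o.FX hv⟩) h2
    rw [h3] at h1
    have h4 : y = 0 := h1
    exact ⟨τ x, by rw [h2, h4, hτ]⟩
  · rintro ⟨a, rfl⟩
    obtain ⟨x, rfl⟩ := hτb.2 a
    rw [← hτ]
    refine (ok.memF ⟨pc e x 0, (mem_pc e).2 ⟨_, _, rfl⟩⟩).2 ?_
    rw [pc_e e (w := ⟨pc e x 0, (mem_pc e).2 ⟨_, _, rfl⟩⟩) rfl]
    rfl

theorem memA_pc [Finite Y] [Finite V] (ha : 4 ≤ E.index) (x : Y) :
    x ∈ A.map L.subtype ↔ ∃ s ∈ Q.map L.subtype, ∃ α, x = s * ps φ (u α) := by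
  have h := o.nin ok ez ha
  constructor
  · rintro ⟨b, hb, rfl⟩
    obtain ⟨q, hq, q', hq', h1⟩ := o.prod b hb
    obtain ⟨α, h2⟩ := h.conj _ ⟨q', hq', rfl⟩
    refine ⟨q, ⟨q, hq, rfl⟩, α, ?_⟩
    rw [← h2]
    exact h1
  · rintro ⟨_, ⟨q, hq, rfl⟩, α, rfl⟩
    obtain ⟨_, ⟨q', hq', rfl⟩, h2⟩ := h.conj_surj α
    obtain ⟨b, hb, h3⟩ := o.QtA q' hq'
    refine ⟨q * b, mul_mem (o.QA hq) hb, ?_⟩
    rw [← h2]
    change (q : Y) * (b : Y) = _
    rw [h3]
    rfl

theorem E_pc [Finite Y] [Finite V] (ha : 4 ≤ E.index) (x : V) (hx : x ∈ E) :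
    ∃ a b c, x = t • pc e a b + ps φ (w k) • t • pc e c 0 := by
  have h := o.nin ok ez ha
  obtain ⟨τ, hτ, hτ', -, -, -⟩ := h.exists_τ
  rw [o.supE] at hx
  obtain ⟨y, hy, y', hy', rfl⟩ := AddSubgroup.mem_sup.1 hx
  obtain ⟨a, b, rfl⟩ := (mem_pc e).1 hy
  rw [mem_smul_as] at hy'
  obtain ⟨a', b', h1⟩ := (mem_pc e).1 hy'
  have h2 : y' = t • pc e a' b' := by rw [← h1, smul_inv_smul]
  refine ⟨τ a + a', b', τ b, ?_⟩
  have h3 : pc e a b = pc e a 0 + pc e 0 b := by rw [← h.add, add_zero, zero_add]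
  have h4 : pc e (τ a + a') b' = pc e (τ a) 0 + pc e a' b' := by rw [← h.add, zero_add]
  rw [h3, h2, h4, hτ a, hτ' b, smul_add]
  abel

/-- `O₂(C_Y(z))` -/
theorem o2_conj [Finite Y] [Finite V] {g : Y} (hg : g • pc e 1 0 = pc e 1 0) {x : Y}
    (hx : x ∈ ZN.o2 (MulAction.stabilizer Y z)) : g * x * g⁻¹ ∈ ZN.o2 (MulAction.stabilizer Y z) := by
  rw [o.pc_z ok ez] at hg
  have h1 := ZN.ChoiceSit.le_normalizer_o2 (MulAction.stabilizer Y z) (show g ∈ MulAction.stabilizer Y z from hg)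
  exact (mem_normalizer_iff.1 h1 x).1 hx

omit ok ez in
theorem o2_le_T [Finite Y] [Finite V] : ZN.o2 (MulAction.stabilizer Y z) ≤ (T : Subgroup Y) := by
  have f2 : Fact (Nat.Prime 2) := ⟨Nat.prime_two⟩
  have hT : (T : Subgroup Y) ≤ MulAction.stabilizer Y z := fun x hx => o.hyp.zT x hx
  have h1 : IsPGroup 2 ((T : Subgroup Y) ⊔ ZN.o2 (MulAction.stabilizer Y z) : Subgroup Y) :=
    IsPGroup.to_sup_of_normal_right' T.2 (ZN.ChoiceSit.isPGroup_o2 _)
      (hT.trans (ZN.ChoiceSit.le_normalizer_o2 _))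
  have h2 := T.3 h1 le_sup_left
  rw [← h2]
  exact le_sup_right

/-- (Soc5) in coordinates -/
theorem soc_pc [Finite Y] [Finite V] (ha : 4 ≤ E.index)
    (h5 : ∃ x : V, x ∉ F ∧ ∀ y : V, y ∉ E → ∃ s ∈ A.map L.subtype, s ∈ ZN.o2 (MulAction.stabilizer Y z) ∧
      s • y + y + x ∈ F) :
    ∃ a₀ b₀ c₀ e₀ : k, (b₀ ≠ 0 ∨ c₀ ≠ 0 ∨ e₀ ≠ 0) ∧ ∀ m : k, m ≠ 0 → ∃ β α f : k,
      t * ps φ (u β) * t⁻¹ * ps φ (u α) ∈ ZN.o2 (MulAction.stabilizer Y z) ∧
      (t * ps φ (u β) * t⁻¹ * ps φ (u α)) • ps φ (w k) • t • pc e 0 m + ps φ (w k) • t • pc e 0 m +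
        (t • pc e a₀ b₀ + ps φ (w k) • t • pc e c₀ e₀) = t • pc e f 0 := by
  have h := o.nin ok ez ha
  obtain ⟨x, hxF, hx⟩ := h5
  obtain ⟨a₀, b₀, c₀, e₀, rfl⟩ := h.P_surj x
  refine ⟨a₀, b₀, c₀, e₀, ?_, fun m hm => ?_⟩
  · by_contra hcon
    push Not at hcon
    obtain ⟨rfl, rfl, rfl⟩ := hcon
    apply hxF
    rw [o.mem_F_pc ok ez ha]
    exact ⟨a₀, by rw [h.p0, smul_zero, smul_zero, add_zero]⟩
  · obtain ⟨s, hsA, hsO, hs⟩ := hx (ps φ (w k) • t • pc e 0 m) (by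
      intro h1
      obtain ⟨a, b, c, h2⟩ := o.E_pc ok ez ha _ h1
      have h3 : t • pc e 0 0 + ps φ (w k) • t • pc e 0 m = t • pc e a b + ps φ (w k) • t • pc e c 0 := by
        rw [h.p0, smul_zero, zero_add]
        exact h2
      exact hm (h.P_inj h3).2.2.2)
    obtain ⟨s₁, hs₁, α, rfl⟩ := (o.memA_pc ok ez ha s).1 hsA
    obtain ⟨β, rfl⟩ := h.t_u_surj hs₁
    obtain ⟨f, hf⟩ := (o.mem_F_pc ok ez ha _).1 hs
    exact ⟨β, α, f, hsO, hf⟩

/-- **`NinT`** -/
theorem ninT [Finite Y] [Finite V] (ha : 4 ≤ E.index)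
    (h5 : ∃ x : V, x ∉ F ∧ ∀ y : V, y ∉ E → ∃ s ∈ A.map L.subtype, s ∈ ZN.o2 (MulAction.stabilizer Y z) ∧
      s • y + y + x ∈ F) :
    NinT (Q.map L.subtype) (ps φ) (pc e) t (A.map L.subtype) (T : Subgroup Y)
      (ZN.o2 (MulAction.stabilizer Y z)) E F := by
  have h := o.nin ok ez ha
  obtain ⟨h1, h2⟩ := h.le_o2 (ZN.o2 (MulAction.stabilizer Y z)) (fun g hg x hx => o.o2_conj ok ez hg hx)
    (o.soc_pc ok ez ha h5)
  exact
    { m := mem_map_of o.hyp.loc.mem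
      memA := o.memA_pc ok ez ha
      E_le := o.E_pc ok ez ha
      memF := o.mem_F_pc ok ez ha
      T2 := by
        intro x hx
        obtain ⟨n, hn⟩ := T.2 ⟨x, hx⟩
        exact ⟨n, congrArg Subtype.val hn⟩
      TA := by
        intro x hx a ha'
        have h3 := o.TA ha hx
        rw [← h3]
        exact conj_mem_conj ha'
      CTA := by
        intro x hx hc
        obtain ⟨b, hb, h3⟩ := o.CTA x hx fun b hb => hc _ ⟨b, hb, rfl⟩
        exact ⟨b, hb, h3⟩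
      CTX := by
        intro x hx hc
        obtain ⟨b, hb, h3⟩ := o.CTX x hx fun v hv => by
          obtain ⟨a, b, rfl⟩ := (mem_pc e).1 hv
          exact hc a b
        exact ⟨b, hb, h3⟩
      Tz := by
        intro x hx
        rw [o.pc_z ok ez]
        exact o.hyp.zT x hx
      TX := by
        intro x hx
        rw [Pr_iff, Pr_iff]
        exact o.T_cases ha hx
      cj := by
        intro x hx hP
        rw [Pr_iff] at hP ⊢
        exact o.tk.cj' x hx hP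
      tT := o.tk.tT
      Oc := fun g hg x hx => o.o2_conj ok ez hg hx
      OT := o.o2_le_T
      AO := by
        intro x hx
        obtain ⟨s, hs, α, rfl⟩ := (o.memA_pc ok ez ha x).1 hx
        obtain ⟨β, rfl⟩ := h.t_u_surj hs
        exact mul_mem (h2 β) (h1 α) }

end K

end Out

end Cfsg.Agent.Omega.NO1.B0
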