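import Cfsg.Agent.Omega.NO1.AB.Beta
import Cfsg.Agent.Omega.NO1.HE.Frame

/-!
# (PF) for a member (bb OMEGA 18835, helper970)

`Mem A E F` : `|V/E|² ≤ |A|` (`A ≠ 1`); in case of equality `[E, s] = [E, A]` for every `s ∈ A#`.
-/

set_option autoImplicit false
set_option linter.unusedSectionVars false
set_option linter.style.haveILetI false

namespace Cfsg.Agent.Omega.NO1.B0

open Subgroup Cfsg.Agent.Omega.NO1.AB
open Cfsg.Agent.Omega.NO1.HE (dl dl_apply dl_one dl_eq_zero dl_comm dl_mul dl_self smul_eq add_eq_zero')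
open scoped Pointwise

universe u

variable {Y : Type u} [Group Y] {V : Type u} [AddCommGroup V] [DistribMulAction Y V]

section

variable {B : Subgroup Y} {E F : AddSubgroup V} (h : Mem B E F)
include h

theorem dlE {b : Y} (hb : b ∈ B) (v : V) : dl b v ∈ E := h.VB b hb v

theorem dlF {b : Y} (hb : b ∈ B) {e : V} (he : e ∈ E) : dl b e ∈ F := h.EB b hb e he

theorem dl0 (h2 : ∀ v : V, v + v = 0) {b : Y} (hb : b ∈ B) {f : V} (hf : f ∈ F) :
    dl b f = 0 := (dl_eq_zero h2).2 (h.FB b hb f hf)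

/-- `[v, s, t]` -/
noncomputable def Lam (h2 : ∀ v : V, v + v = 0) :
    V →+ HE.AB B h.comm →+ HE.AB B h.comm →+ V :=
  AddMonoidHom.mk' (fun v =>
    AddMonoidHom.mk' (fun s =>
      AddMonoidHom.mk' (fun t => dl t.v (dl s.v v)) (by
        intro t t'
        rw [HE.AB.v_add, dl_mul h2, dl0 h h2 t.v_mem (dlF h t'.v_mem (dlE h s.v_mem v)), add_zero]))
      (by
        intro s s'
        ext t
        change dl t.v (dl (s + s').v v) = dl t.v (dl s.v v) + dl t.v (dl s'.v v)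
        rw [HE.AB.v_add, dl_mul h2, map_add, map_add, dl0 h h2 t.v_mem (dlF h s.v_mem (dlE h s'.v_mem v)),
          add_zero]))
    (by
      intro v w
      ext s t
      change dl t.v (dl s.v (v + w)) = dl t.v (dl s.v v) + dl t.v (dl s.v w)
      rw [map_add, map_add])

theorem Lam_apply (h2 : ∀ v : V, v + v = 0) (v : V) (s t : HE.AB B h.comm) :
    Lam h h2 v s t = dl t.v (dl s.v v) := rfl

theorem Lam_symm (h2 : ∀ v : V, v + v = 0) (v : V) (s t : HE.AB B h.comm) :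
    Lam h h2 v s t = Lam h h2 v t s :=
  dl_comm (h.comm _ t.v_mem _ s.v_mem) v

theorem Lam_self (h2 : ∀ v : V, v + v = 0) (v : V) (s : HE.AB B h.comm) :
    Lam h h2 v s s = 0 :=
  dl_self h2 (h.sq _ s.v_mem) v

theorem Lam_E (h2 : ∀ v : V, v + v = 0) {e : V} (he : e ∈ E) (s t : HE.AB B h.comm) :
    Lam h h2 e s t = 0 :=
  dl0 h h2 t.v_mem (dlF h s.v_mem he)

theorem rad_iff (h2 : ∀ v : V, v + v = 0) (φ : V →+ ZMod 2) {w : V} (hw : w ∉ E)
    (s : HE.AB B h.comm) : (∀ t, φ (Lam h h2 w s t) = 0) ↔ ∀ e ∈ E, φ (dl s.v e) = 0 := by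
  constructor
  · intro h1 e he
    obtain ⟨t, ht, hf⟩ := h.surj w hw e he
    have h3 := h1 (HE.AB.mk t ht)
    rw [Lam_symm, Lam_apply, HE.AB.v_mk] at h3
    have h4 : dl s.v (dl t w) = dl s.v e := by
      rw [← add_eq_zero' h2, ← map_add]
      exact dl0 h h2 s.v_mem hf
    rwa [h4] at h3
  · intro h1 t
    rw [Lam_symm, Lam_apply]
    exact h1 _ (dlE h t.v_mem w)

/-- the radical of `φ` -/
def Rad (h2 : ∀ v : V, v + v = 0) (φ : V →+ ZMod 2) (w : V) :
    AddSubgroup (HE.AB B h.comm) where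
  carrier := {s | ∀ t, φ (Lam h h2 w s t) = 0}
  zero_mem' := fun t => by rw [map_zero, AddMonoidHom.zero_apply, map_zero]
  add_mem' := fun {s s'} hs hs' t => by
    rw [map_add, AddMonoidHom.add_apply, map_add, hs t, hs' t, add_zero]
  neg_mem' := fun {s} hs t => by
    rw [map_neg, AddMonoidHom.neg_apply, map_neg, hs t, neg_zero]

/-- **(PF)** -/
theorem pf [Finite Y] [Finite V] (h2 : ∀ v : V, v + v = 0) (φ : V →+ ZMod 2)
    (h0 : ¬ ∀ b ∈ B, ∀ e ∈ E, φ (dl b e) = 0) {w : V} (hw : w ∉ E) : E.index ^ 2 ≤ (Rad h h2 φ w).index := by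
  let γ : V →+ HE.AB B h.comm →+ HE.AB B h.comm →+ ZMod 2 :=
    AddMonoidHom.mk' (fun v => AddMonoidHom.mk' (fun s => φ.comp (Lam h h2 v s)) (by
      intro s s'
      ext t
      change φ (Lam h h2 v (s + s') t) = φ (Lam h h2 v s t) + φ (Lam h h2 v s' t)
      rw [map_add, AddMonoidHom.add_apply, map_add])) (by
      intro v w
      ext s t
      change φ (Lam h h2 (v + w) s t) = φ (Lam h h2 v s t) + φ (Lam h h2 w s t)
      rw [map_add, AddMonoidHom.add_apply, AddMonoidHom.add_apply, map_add])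
  let β : (V ⧸ E) →+ HE.AB B h.comm →+ HE.AB B h.comm →+ ZMod 2 := QuotientAddGroup.lift E γ (by
    intro e he
    ext s t
    change φ (Lam h h2 e s t) = 0
    rw [Lam_E h h2 he, map_zero])
  have hβ : ∀ (v : V) (s t : HE.AB B h.comm), β (v : V ⧸ E) s t = φ (Lam h h2 v s t) := fun _ _ _ => rfl
  have h3 : ∀ q : V ⧸ E, q + q = 0 := by
    intro q
    induction q using QuotientAddGroup.induction_on with
    | _ v => rw [← QuotientAddGroup.mk_add, h2, QuotientAddGroup.mk_zero]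
  have h4 := NearFF.Pfaff.card_sq_le_index h3 (HE.AB.two h.sq) β (by
    intro q s
    induction q using QuotientAddGroup.induction_on with
    | _ v => rw [hβ, Lam_self h h2, map_zero]) (Rad h h2 φ w) (by
    intro q hq s
    induction q using QuotientAddGroup.induction_on with
    | _ v =>
      have hv : v ∉ E := fun h5 => hq ((QuotientAddGroup.eq_zero_iff v).2 h5)
      change _ ↔ ∀ t, φ (Lam h h2 w s t) = 0
      rw [rad_iff h h2 φ hw, ← rad_iff h h2 φ hv]
      constructor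
      · intro h5 t
        rw [Lam_symm]
        exact h5 t
      · intro h5 t
        rw [hβ, Lam_symm]
        exact h5 t) (by
    intro hT
    apply h0
    intro b hb e he
    have h5 : (HE.AB.mk b hb : HE.AB B h.comm) ∈ Rad h h2 φ w := by rw [hT]; trivial
    have h6 := (rad_iff h h2 φ hw _).1 h5
    exact h6 e he)
  exact h4

theorem exists_functional [Finite V] (h2 : ∀ v : V, v + v = 0) (W : AddSubgroup V) {v : V} (hv : v ∉ W) :
    ∃ φ : V →+ ZMod 2, (∀ w ∈ W, φ w = 0) ∧ φ v ≠ 0 := by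
  letI : Module (ZMod 2) V := AddCommGroup.zmodModule (n := 2) fun v => by rw [two_nsmul]; exact h2 v
  let W' : Submodule (ZMod 2) V := AddSubgroup.toZModSubmodule 2 W
  have hv' : v ∉ W' := hv
  obtain ⟨f, hf1, hf2⟩ := Submodule.exists_le_ker_of_notMem hv'
  exact ⟨f.toAddMonoidHom, fun w hw => hf2 hw, hf1⟩

/-- **(PF)** `|V/E|² ≤ |A|` -/
theorem pf_le [Finite Y] [Finite V] (h2 : ∀ v : V, v + v = 0) (hB : B ≠ ⊥) : E.index ^ 2 ≤ Nat.card B := by
  obtain ⟨w, hw⟩ := h.ne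
  -- `[E, B] ≠ 0`
  have h1 : ∃ b ∈ B, ∃ e ∈ E, dl b e ≠ 0 := by
    by_contra hc
    push Not at hc
    apply hB
    rw [eq_bot_iff]
    intro b hb
    have h3 : dl b w ∈ F := h.CB _ fun c hc' => (dl_eq_zero h2).1 (hc c hc' _ (dlE h hb w))
    rw [h.inj w hw b hb h3]
    exact one_mem _
  obtain ⟨b, hb, e, he, hne⟩ := h1
  obtain ⟨φ, -, hφ⟩ := exists_functional h h2 ⊥ (v := dl b e) (by rwa [AddSubgroup.mem_bot])
  have h3 := pf h h2 φ (fun hc => hφ (hc b hb e he)) hw
  exact h3.trans (Nat.le_of_dvd Nat.card_pos (AddSubgroup.index_dvd_card _))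

/-- equality in (PF): `[E, s] = [E, A]` -/
theorem pf_eq [Finite Y] [Finite V] (h2 : ∀ v : V, v + v = 0) (hB : Nat.card B = E.index ^ 2) {s : Y}
    (hs : s ∈ B) (hs1 : s ≠ 1) {b : Y} (hb : b ∈ B) {e : V} (he : e ∈ E) :
    ∃ e' ∈ E, b • e + e = s • e' + e' := by
  obtain ⟨w, hw⟩ := h.ne
  by_contra hc
  push Not at hc
  have h1 : dl b e ∉ E.map (dl s) := by
    rintro ⟨e', he', h3⟩
    exact hc e' he' h3.symm
  obtain ⟨φ, hφ1, hφ2⟩ := exists_functional h h2 _ h1
  have h3 := pf h h2 φ (fun hc' => hφ2 (hc' b hb e he)) hw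
  rw [← hB] at h3
  have h4 : (Rad h h2 φ w) = ⊥ := by
    have h5 := AddSubgroup.card_mul_index (Rad h h2 φ w)
    rw [HE.AB.card] at h5
    have h6 : Nat.card (Rad h h2 φ w) ≤ 1 := by
      by_contra h7
      push Not at h7
      have h8 : 2 * (Rad h h2 φ w).index ≤ Nat.card (Rad h h2 φ w) * (Rad h h2 φ w).index :=
        Nat.mul_le_mul_right _ h7
      have h9 : 0 < Nat.card B := Nat.card_pos
      omega
    have h7 : 0 < Nat.card (Rad h h2 φ w) := Nat.card_pos
    exact AddSubgroup.eq_bot_of_card_le _ h6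
  have h5 : (HE.AB.mk s hs : HE.AB B h.comm) ∈ Rad h h2 φ w :=
    (rad_iff h h2 φ hw _).2 fun e he => hφ1 _ ⟨e, he, rfl⟩
  rw [h4, AddSubgroup.mem_bot] at h5
  exact hs1 (congrArg HE.AB.v h5)

end

end Cfsg.Agent.Omega.NO1.B0
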