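import Cfsg.Agent.Omega.NO1.B0.Out
import Cfsg.Agent.Omega.NO1.B0.PF

/-!
# THEOREM B0 (bb OMEGA 18835, helper970): (1)-(4)

`X = C_V(Q)`, `X₁ = X ∩ F`, `X' = t X`.  `t X₁ = X₁`, `X' ≤ E`, `[X', Q] ≤ X₁`, `|A ∩ Q| = |X₁| = |V/E|`, `|A| = |V/E|²`,
`V = X' + l E`, `X' ∩ l E = X₁` for `l ∉ L₁`.
-/

set_option autoImplicit false
set_option linter.unusedSectionVars false
set_option linter.style.haveILetI false

namespace Cfsg.Agent.Omega.NO1.B0

open Subgroup Cfsg.Agent.Omega.NO1.AB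
open scoped Pointwise

universe u

variable {Y : Type u} [Group Y] {V : Type u} [AddCommGroup V] [DistribMulAction Y V]

theorem card_mono_as [Finite V] {W₁ W₂ : AddSubgroup V} (h : W₁ ≤ W₂) : Nat.card W₁ ≤ Nat.card W₂ :=
  Nat.card_le_card_of_injective _ (AddSubgroup.inclusion_injective h)

/-- `|C_A(p)| ≥ |V/E|` for `p ∈ E - F` -/
theorem card_CA [Finite Y] [Finite V] {B : Subgroup Y} {E F : AddSubgroup V} (h2 : ∀ v : V, v + v = 0)
    (h : Mem B E F) {p : V} (hp : p ∈ E) (hpF : p ∉ F) :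
    E.index ≤ Nat.card ↥(B ⊓ MulAction.stabilizer Y p) := by
  classical
  have hex : ∀ w : V, w ∉ E → ∃ b : ↥(B ⊓ MulAction.stabilizer Y p), (b : Y) • w + w + p ∈ F := by
    intro w hw
    obtain ⟨b, hb, h1⟩ := h.surj w hw p hp
    refine ⟨⟨b, hb, ?_⟩, h1⟩
    change b • p = p
    have h3 := h.FB b hb _ h1
    rw [smul_add, smul_add, ← mul_smul, h.sq b hb, one_smul, add_comm w (b • w)] at h3
    exact add_left_cancel h3
  choose f hf using hex
  let g : V ⧸ E → ↥(B ⊓ MulAction.stabilizer Y p) := fun q =>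
    if hq : q.out ∈ E then 1 else f q.out hq
  have hne1 : ∀ w hw, f w hw ≠ 1 := by
    intro w hw h1
    have h3 := hf w hw
    rw [h1, coe_one, one_smul, h2, zero_add] at h3
    exact hpF h3
  have hg : Function.Injective g := by
    intro q q' hqq
    have hout : ∀ q : V ⧸ E, q.out ∈ E → q = 0 := by
      intro q hq
      rw [← QuotientAddGroup.out_eq' q]
      exact (QuotientAddGroup.eq_zero_iff _).2 hq
    by_cases h1 : q.out ∈ E <;> by_cases h3 : q'.out ∈ E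
    · rw [hout q h1, hout q' h3]
    · exfalso
      have h4 : g q = 1 := dif_pos h1
      have h5 : g q' = f q'.out h3 := dif_neg h3
      exact hne1 _ h3 (by rw [← h5, ← hqq, h4])
    · exfalso
      have h4 : g q' = 1 := dif_pos h3
      have h5 : g q = f q.out h1 := dif_neg h1
      exact hne1 _ h1 (by rw [← h5, hqq, h4])
    · have h4 : g q = f q.out h1 := dif_neg h1
      have h5 : g q' = f q'.out h3 := dif_neg h3
      have h6 : q.out + q'.out ∈ E := by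
        by_contra h7
        have h8 := hf _ h1
        have h9 := hf _ h3
        rw [← h5, ← hqq, h4] at h9
        have h10 := h.inj _ h7 _ (f q.out h1).2.1 (by
          have h11 := F.add_mem h8 h9
          rw [smul_add]
          have e : ((f q.out h1 : ↥(B ⊓ MulAction.stabilizer Y p)) : Y) • q.out + q.out + p +
              (((f q.out h1 : ↥(B ⊓ MulAction.stabilizer Y p)) : Y) • q'.out + q'.out + p) =
              ((f q.out h1 : ↥(B ⊓ MulAction.stabilizer Y p)) : Y) • q.out +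
              ((f q.out h1 : ↥(B ⊓ MulAction.stabilizer Y p)) : Y) • q'.out + (q.out + q'.out) + (p + p) := by abel
          rwa [e, h2 p, add_zero] at h11)
        exact hne1 _ h1 (Subtype.ext h10)
      rw [← QuotientAddGroup.out_eq' q, ← QuotientAddGroup.out_eq' q', QuotientAddGroup.eq]
      have h7 : -q.out = q.out := neg_eq_of_add_eq_zero_left (h2 _)
      rwa [h7]
  exact Nat.card_le_card_of_injective g hg

namespace Hyp0

variable {T : Sylow 2 Y} {M L : Subgroup Y} {A Q L₁ : Subgroup L} {R : Sylow 2 L} {E F : AddSubgroup V}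
  {z : V} (h : Hyp0 T M L A Q L₁ R E F z)
include h

theorem AT {a : L} (ha : a ∈ A) : (a : Y) ∈ T := h.RT a (h.loc.AR ha)

theorem AN [Finite V] (a : L) : (a : Y) ∈ NX L V Q := h.L_le_NX a.2

theorem QT [Finite Y] {q : L} (hq : q ∈ Q) : (q : Y) ∈ T := h.RT q (h.loc.Q_le_R hq)

theorem two_le_c [Finite Y] [Finite V] : 1 < Nat.card ↥(fx V Q ⊓ F) := by
  have : Nontrivial ↥(fx V Q ⊓ F) :=
    ⟨⟨⟨z, h.loc.z_mem⟩, 0, fun h2 => h.z_ne (congrArg Subtype.val h2)⟩⟩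
  exact Finite.one_lt_card

theorem cX [Finite Y] [Finite V] : Nat.card ↥(fx V Q) = Nat.card ↥(fx V Q ⊓ F) ^ 2 := card_X h.loc h.beta h.C0

theorem cA [Finite Y] [Finite V] : Nat.card ↥(fx V Q ⊓ F) * Nat.card ↥(A ⊓ Q) = Nat.card A :=
  X1_card_mul h.loc h.beta h.C0

/-- `c ≤ |A ∩ Q|` -/
theorem c_le_B [Finite Y] [Finite V] : Nat.card ↥(fx V Q ⊓ F) ≤ Nat.card ↥(A ⊓ Q) := by
  obtain ⟨w, hw⟩ := h.loc.mem.ne
  have hex : ∀ v : ↥(fx V Q ⊔ F), ∃ b : ↥(A ⊓ Q), (b : L) • w + w + (v : V) ∈ F := by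
    intro v
    have hvE : (v : V) ∈ E := (sup_le h.beta.XE h.loc.mem.FE) v.2
    obtain ⟨b, hb, h1⟩ := h.loc.mem.surj w hw _ hvE
    refine ⟨⟨b, hb, ?_⟩, h1⟩
    apply h.beta.perp_mem h.loc.mem le_rfl hw hb
    have e : b • w + w = (v : V) + (b • w + w + v) := by
      rw [add_comm (b • w + w) (v : V), ← add_assoc, h.two, zero_add]
    rw [e]
    exact AddSubgroup.add_mem _ v.2 (AddSubgroup.mem_sup_right h1)
  choose f hf using hex
  let g : ↥(fx V Q ⊔ F) → ↥(A ⊓ Q) × F := fun v => (f v, ⟨_, hf v⟩)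
  have hg : Function.Injective g := by
    intro v v' hvv
    have h1 : f v = f v' := congrArg Prod.fst hvv
    have h2 : (f v : L) • w + w + (v : V) = (f v' : L) • w + w + (v' : V) :=
      congrArg (fun q : ↥(A ⊓ Q) × F => (q.2 : V)) hvv
    rw [h1] at h2
    exact Subtype.ext (add_left_cancel h2)
  have h1 := Nat.card_le_card_of_injective g hg
  rw [Nat.card_prod] at h1
  have h2 := card_sup_as (fx V Q) F
  rw [h.cX] at h2
  have hF0 : 0 < Nat.card F := Nat.card_pos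
  have hc0 : 0 < Nat.card ↥(fx V Q ⊓ F) := Nat.card_pos
  apply Nat.le_of_mul_le_mul_right _ hF0
  apply Nat.le_of_mul_le_mul_left _ hc0
  calc Nat.card ↥(fx V Q ⊓ F) * (Nat.card ↥(fx V Q ⊓ F) * Nat.card F)
      = Nat.card ↥(fx V Q ⊓ F) ^ 2 * Nat.card F := by ring
    _ = Nat.card ↥(fx V Q ⊓ F) * Nat.card ↥(fx V Q ⊔ F) := by rw [← h2]; ring
    _ ≤ _ := Nat.mul_le_mul_left _ h1

theorem cX_le [Finite Y] [Finite V] : Nat.card ↥(fx V Q) ≤ Nat.card A := by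
  rw [h.cX, ← h.cA, pow_two]
  exact Nat.mul_le_mul_left _ h.c_le_B

/-- `A` in `Y` -/
theorem memU [Finite V] : MemU (A.map L.subtype) E F where
  comm := by
    rintro _ ⟨b, hb, rfl⟩ _ ⟨c, hc, rfl⟩
    exact congrArg Subtype.val (h.loc.mem.comm b hb c hc)
  sq := by
    rintro _ ⟨b, hb, rfl⟩
    exact congrArg Subtype.val (h.loc.mem.sq b hb)
  FE := h.loc.mem.FE
  VB := by
    rintro _ ⟨b, hb, rfl⟩ v
    exact h.loc.mem.VB b hb v
  EB := by
    rintro _ ⟨b, hb, rfl⟩ v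
    exact h.loc.mem.EB b hb v
  FB := by
    rintro _ ⟨b, hb, rfl⟩ v
    exact h.loc.mem.FB b hb v
  CB := fun v hv => h.loc.mem.CB v fun b hb => hv _ ⟨b, hb, rfl⟩
  inj := by
    rintro w hw _ ⟨b, hb, rfl⟩ h1
    exact congrArg Subtype.val (h.loc.mem.inj w hw b hb h1)
  surj := by
    intro w hw e he
    obtain ⟨b, hb, h1⟩ := h.loc.mem.surj w hw e he
    exact ⟨_, ⟨b, hb, rfl⟩, h1⟩
  ne := h.loc.mem.ne
  mu := by
    intro B₀ hB₀
    have hB₀L : B₀ ≤ L := hB₀.trans (map_subtype_le A)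
    have h1 := h.loc.mu (B₀.subgroupOf L) (by
      intro b hb
      obtain ⟨a, ha, h2⟩ := hB₀ (mem_subgroupOf.1 hb)
      have : a = b := Subtype.ext h2
      rwa [← this])
    have h2 : Nat.card ↥(B₀.subgroupOf L) = Nat.card B₀ := Nat.card_congr (subgroupOfEquivOfLe hB₀L).toEquiv
    have h3 : fx V (B₀.subgroupOf L) = fx V B₀ := by
      ext v
      constructor
      · intro hv b hb
        exact hv ⟨b, hB₀L hb⟩ (mem_subgroupOf.2 hb)
      · intro hv b hb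
        exact hv b (mem_subgroupOf.1 hb)
    rw [h2, h3] at h1
    exact h1

/-- `v ∈ F`, `l⁻¹ v ∈ X + F` ⟹ `v ∈ X₁` (`l ∉ L₁`) -/
theorem F_inf [Finite Y] [Finite V] {l : L} (hl : l ∉ L₁) {x : V} (hx : x ∈ F) (hlx : l⁻¹ • x ∈ fx V Q ⊔ F) :
    x ∈ fx V Q ⊓ F := by
  rw [AddSubgroup.mem_sup] at hlx
  obtain ⟨y, hy, f, hf, he⟩ := hlx
  have h1 : l • y ∈ fx V Q := h.loc.smul_X l hy
  have h2 := h1
  rw [h.beta.sup l hl, AddSubgroup.mem_sup] at h2
  obtain ⟨u, hu, v, hv, huv⟩ := h2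
  have hx' : x = u + (v + l • f) := by
    rw [← add_assoc, huv, ← smul_add, he, smul_inv_smul]
  have h3 : x + u = v + l • f := by
    rw [hx', add_comm u, add_assoc, h.two, add_zero]
  have h4 : v + l • f ∈ fx V (⊤ : Subgroup L) := by
    apply h.loc.fix_all (x := 1) (y := l) (by simpa using hl)
    · rw [inv_one, one_smul, ← h3]
      exact F.add_mem hx hu.2
    · rw [smul_add, inv_smul_smul]
      exact F.add_mem (mem_smul_as.1 hv).2 hf
  rw [h.C0, AddSubgroup.mem_bot] at h4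
  rw [hx', h4, add_zero]
  exact hu

theorem FF [Finite Y] [Finite V] {l : L} (hl : l ∉ L₁) {x : V} (hx : x ∈ F) (hlx : l⁻¹ • x ∈ F) : x = 0 := by
  have h4 : x ∈ fx V (⊤ : Subgroup L) :=
    h.loc.fix_all (x := 1) (y := l) (by simpa using hl) (by rwa [inv_one, one_smul]) hlx
  rwa [h.C0, AddSubgroup.mem_bot] at h4

theorem inv_nmem {l : L} (hl : l ∉ L₁) : l⁻¹ ∉ L₁ := fun h1 => hl (by simpa using inv_mem h1)

theorem Xmem {l : L} {x : V} (hx : x ∈ fx V Q) : l • x ∈ fx V Q := h.loc.smul_X l hx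

section t

variable {t : Y} (k : Tk T L V Q t)
include k

theorem tz : t⁻¹ • z = z := by rw [inv_smul_eq_iff, h.zT t k.tT]

theorem zt [Finite Y] : z ∈ t • (fx V Q ⊓ F) := by
  rw [mem_smul_as, h.tz k]
  exact h.loc.z_mem

theorem cjT {p : Y} (hp : p ∈ T) : t⁻¹ * p * t ∈ T := mul_mem (mul_mem (inv_mem k.tT) hp) k.tT

/-- the action of `T ∩ N_Y(X)` on `X' = t X` -/
theorem actX' {p : Y} (hp : p ∈ T) (hpX : p ∈ NX L V Q) {x : V} (hx : x ∈ t • (fx V Q : AddSubgroup V)) :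
    p • x ∈ t • (fx V Q : AddSubgroup V) := by
  rw [mem_smul_as] at hx ⊢
  have h1 := NX_smul (k.cj' p hp hpX) hx
  rw [mul_smul, mul_smul, smul_inv_smul] at h1
  exact h1

theorem actX1' [Finite Y] [Finite V] {p : Y} (hp : p ∈ T) (hpX : p ∈ NX L V Q) {x : V}
    (hx : x ∈ t • (fx V Q ⊓ F)) : p • x ∈ t • (fx V Q ⊓ F) := by
  rw [mem_smul_as] at hx ⊢
  have h1 := h.comp_z (k.cj' p hp hpX) (h.zT _ (h.cjT k hp)) hx
  rw [mul_smul, mul_smul, smul_inv_smul] at h1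
  exact h1

/-- **(S2)** for `X' = t X` -/
theorem s2' [Finite Y] [Finite V] {p : Y} (hp : p ∈ T) (hpX : p ∈ NX L V Q)
    (hp1 : ∀ x ∈ t • (fx V Q ⊓ F), p • x = x) :
    (∀ x ∈ t • (fx V Q : AddSubgroup V), p • x + x ∈ t • (fx V Q ⊓ F)) ∧
      ∀ v ∈ t • (fx V Q : AddSubgroup V), v ∉ t • (fx V Q ⊓ F) → p • v = v →
        ∀ x ∈ t • (fx V Q : AddSubgroup V), p • x = x := by
  have hs : ∀ x : V, (t⁻¹ * p * t) • (t⁻¹ • x) = t⁻¹ • (p • x) := by
    intro x
    rw [mul_smul, mul_smul, smul_inv_smul]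
  obtain ⟨h1, h2⟩ := h.s2 (h.cjT k hp) (k.cj' p hp hpX) (by
    intro x hx
    have h1 := hs (t • x)
    rw [inv_smul_smul, hp1 _ (smul_mem_smul_as hx), inv_smul_smul] at h1
    exact h1)
  constructor
  · intro x hx
    rw [mem_smul_as] at hx ⊢
    have h3 := h1 _ hx
    rw [hs, ← smul_add] at h3
    exact h3
  · intro v hv hv1 hpv x hx
    rw [mem_smul_as] at hv hv1 hx
    have h3 := h2 _ hv (fun h4 => hv1 ⟨hv, h4⟩) (by rw [hs, hpv]) _ hx
    rw [hs] at h3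
    exact smul_left_cancel _ h3

/-- **(1)** `A` centralises `t X₁` -/
theorem one_A [Finite Y] [Finite V] {a : L} (ha : a ∈ A) {x : V} (hx : x ∈ t • (fx V Q ⊓ F)) : a • x = x := by
  have hU := (h.memU).conj t⁻¹
  have h1 := h.s1 hU (by
    intro p hp
    rw [mem_conj, inv_inv] at hp
    obtain ⟨b, hb, hbp⟩ := hp
    have hbp' : (b : Y) = t * p * t⁻¹ := hbp
    have e : p = t⁻¹ * (b : Y) * t := by rw [hbp']; group
    rw [e]
    exact ⟨k.cj' _ (h.AT hb) (h.AN b), h.zT _ (h.cjT k (h.AT hb))⟩) (by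
    have h2 : Nat.card (MulAut.conj t⁻¹ • A.map L.subtype : Subgroup Y) = Nat.card A := by
      rw [← Nat.card_congr (Subgroup.equivSMul (MulAut.conj t⁻¹) (A.map L.subtype)).toEquiv]
      exact (Nat.card_congr (A.equivMapOfInjective _ L.subtype_injective).toEquiv).symm
    rw [h2]
    exact h.cX_le) (t⁻¹ * (a : Y) * t) (by
      rw [mem_conj, inv_inv]
      exact ⟨a, ha, by
        change (a : Y) = _
        group⟩) _ (mem_smul_as.1 hx)
  rw [mul_smul, mul_smul, smul_inv_smul] at h1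
  exact smul_left_cancel _ h1

theorem tX1_le_F [Finite Y] [Finite V] {x : V} (hx : x ∈ t • (fx V Q ⊓ F)) : x ∈ F :=
  h.loc.mem.CB x fun _ ha => h.one_A k ha hx

theorem A_ne [Finite Y] [Finite V] : ∃ a ∈ A ⊓ Q, a ≠ 1 := by
  by_contra hc
  push Not at hc
  apply h.beta.ne
  rw [eq_bot_iff]
  intro b hb
  exact hc b hb

theorem X'_le_E [Finite Y] [Finite V] {x : V} (hx : x ∈ t • (fx V Q : AddSubgroup V)) : x ∈ E := by
  by_contra hxE
  obtain ⟨a, ha, ha1⟩ := h.A_ne k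
  apply ha1
  apply h.loc.mem.inj x hxE a ha.1
  exact h.tX1_le_F k ((h.s2' k (h.AT ha.1) (h.AN a) fun x hx => h.one_A k ha.1 hx).1 x hx)

theorem card_tX1 [Finite V] : Nat.card ↥(t • (fx V Q ⊓ F)) = Nat.card ↥(fx V Q ⊓ F) := card_smul_as t _

/-- conjugates of `A ∩ Q` -/
theorem conjB {l b : L} (hb : b ∈ A ⊓ Q) : l * b * l⁻¹ ∈ Q := h.loc.Qn.conj_mem b hb.2 l

theorem conj_smul_add {l b : L} (x : V) : l⁻¹ • ((l * b * l⁻¹) • x + x) = b • (l⁻¹ • x) + l⁻¹ • x := by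
  rw [smul_add, mul_smul, mul_smul, inv_smul_smul]

/-- **(2a)** `t X₁ ≤ l E` -/
theorem two_a [Finite Y] [Finite V] (l : L) {x : V} (hx : x ∈ t • (fx V Q ⊓ F)) : l⁻¹ • x ∈ E := by
  by_contra hxE
  -- the elements `(l b l⁻¹) x + x`
  have hmem : ∀ b : ↥(A ⊓ Q), (l * (b : L) * l⁻¹) • x + x ∈ t • (fx V Q ⊓ F) := by
    intro b
    have hq := h.conjB k (l := l) b.2
    exact (t • (fx V Q ⊓ F)).add_mem (h.actX1' k (h.QT hq) (h.AN _) hx) hx
  let f : Option ↥(A ⊓ Q) → ↥(t • (fx V Q ⊓ F)) := fun b => b.elim ⟨x, hx⟩ fun b => ⟨_, hmem b⟩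
  have hf : Function.Injective f := by
    have hE : ∀ b : ↥(A ⊓ Q), l⁻¹ • ((l * (b : L) * l⁻¹) • x + x) ∈ E := by
      intro b
      rw [h.conj_smul_add k]
      exact h.loc.mem.VB b b.2.1 _
    rintro (_ | b) (_ | b') hbb
    · rfl
    · exfalso
      have h1 : x = (l * (b' : L) * l⁻¹) • x + x := congrArg Subtype.val hbb
      apply hxE
      rw [h1]
      exact hE b'
    · exfalso
      have h1 : (l * (b : L) * l⁻¹) • x + x = x := congrArg Subtype.val hbb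
      apply hxE
      rw [← h1]
      exact hE b
    · have h1 : (l * (b : L) * l⁻¹) • x + x = (l * (b' : L) * l⁻¹) • x + x := congrArg Subtype.val hbb
      have h2 : (b : L) • (l⁻¹ • x) + l⁻¹ • x = (b' : L) • (l⁻¹ • x) + l⁻¹ • x := by
        rw [← h.conj_smul_add k, h1, h.conj_smul_add k]
      have h3 : (b : L) • (l⁻¹ • x) = (b' : L) • (l⁻¹ • x) := add_right_cancel h2
      have h4 := h.loc.mem.inj _ hxE ((b' : L)⁻¹ * b) (mul_mem (inv_mem b'.2.1) b.2.1) (by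
        rw [mul_smul, h3, inv_smul_smul, h.two]
        exact F.zero_mem)
      rw [inv_mul_eq_one] at h4
      congr 1
      exact Subtype.ext h4.symm
  have h1 := Nat.card_le_card_of_injective f hf
  rw [Finite.card_option, h.card_tX1 k] at h1
  have h2 := h.c_le_B
  omega

/-- `[y, B_l] = 0` for `y ∈ l E`, `[y, B_l] ≤ F` (`l ∉ L₁`) -/
theorem fix_of [Finite Y] [Finite V] {l : L} (hl : l ∉ L₁) {y : V} (hy : l⁻¹ • y ∈ E)
    (hyF : ∀ b ∈ A ⊓ Q, (l * b * l⁻¹) • y + y ∈ F) : l⁻¹ • y ∈ fx V Q ⊔ F := by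
  rw [← h.beta.CVB]
  intro b hb
  have h1 : (l * b * l⁻¹) • y + y = 0 := by
    apply h.FF hl (hyF b hb)
    rw [h.conj_smul_add k]
    exact h.loc.mem.EB b hb.1 _ hy
  have h2 : b • (l⁻¹ • y) + l⁻¹ • y = 0 := by
    rw [← h.conj_smul_add k, h1, smul_zero]
  exact h.eq_of_add h2

/-- **(2)** `t X₁ = X₁` -/
theorem tX1 [Finite Y] [Finite V] : t • (fx V Q ⊓ F) = fx V Q ⊓ F := by
  obtain ⟨l, hl⟩ := exists_out h.loc h.beta
  apply eq_of_le_as
  · intro x hx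
    apply h.F_inf hl (h.tX1_le_F k hx)
    apply h.fix_of k hl (h.two_a k l hx)
    intro b hb
    have hq := h.conjB k (l := l) hb
    exact h.tX1_le_F k ((t • (fx V Q ⊓ F)).add_mem (h.actX1' k (h.QT hq) (h.AN _) hx) hx)
  · exact (h.card_tX1 k).ge

theorem X1_le_X' [Finite Y] [Finite V] {x : V} (hx : x ∈ fx V Q ⊓ F) : x ∈ t • (fx V Q : AddSubgroup V) := by
  rw [← h.tX1 k] at hx
  rw [mem_smul_as] at hx ⊢
  exact hx.1

/-- (S2) for the elements which centralise `X₁ = t X₁` -/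
theorem s3 [Finite Y] [Finite V] {p : Y} (hp : p ∈ T) (hpX : p ∈ NX L V Q)
    (hp1 : ∀ x ∈ fx V Q ⊓ F, p • x = x) :
    (∀ x ∈ t • (fx V Q : AddSubgroup V), p • x + x ∈ fx V Q ⊓ F) ∧
      ∀ v ∈ t • (fx V Q : AddSubgroup V), v ∉ fx V Q ⊓ F → p • v = v →
        ∀ x ∈ t • (fx V Q : AddSubgroup V), p • x = x := by
  have h1 := h.s2' k hp hpX (by rw [h.tX1 k]; exact hp1)
  rwa [h.tX1 k] at h1

theorem s3Q [Finite Y] [Finite V] {q : L} (hq : q ∈ Q) :
    (∀ x ∈ t • (fx V Q : AddSubgroup V), q • x + x ∈ fx V Q ⊓ F) ∧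
      ∀ v ∈ t • (fx V Q : AddSubgroup V), v ∉ fx V Q ⊓ F → q • v = v →
        ∀ x ∈ t • (fx V Q : AddSubgroup V), q • x = x :=
  h.s3 k (h.QT hq) (h.AN q) fun _ hx => hx.1 q hq

theorem s3A [Finite Y] [Finite V] {q : L} (hq : q ∈ A) :
    (∀ x ∈ t • (fx V Q : AddSubgroup V), q • x + x ∈ fx V Q ⊓ F) ∧
      ∀ v ∈ t • (fx V Q : AddSubgroup V), v ∉ fx V Q ⊓ F → q • v = v →
        ∀ x ∈ t • (fx V Q : AddSubgroup V), q • x = x :=
  h.s3 k (h.AT hq) (h.AN q) fun x hx => h.loc.mem.FB q hq x hx.2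

theorem X'_not_le [Finite Y] [Finite V] : ∃ x ∈ t • (fx V Q : AddSubgroup V), x ∉ fx V Q := by
  by_contra hc
  push Not at hc
  apply k.tX
  rw [mem_NX]
  exact eq_of_le_as hc (card_smul_as t _).ge

theorem tX_card [Finite Y] [Finite V] : Nat.card ↥(t • (fx V Q : AddSubgroup V)) =
    Nat.card ↥(fx V Q ⊓ F) ^ 2 := by
  rw [card_smul_as, h.cX]

/-- there is a second point `a l` over `A` -/
theorem second [Finite Y] [Finite V] {l : L} (hl : l ∉ L₁) : ∃ a ∈ A, a * l ∉ L₁ ∧ l⁻¹ * (a * l) ∉ L₁ := by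
  obtain ⟨a, ha, haQ⟩ := Set.not_subset.1 h.loc.not_A_le
  refine ⟨a, ha, ?_, ?_⟩
  · intro h1
    apply hl
    have := mul_mem (inv_mem (h.loc.A_le ha)) h1
    rwa [inv_mul_cancel_left] at this
  · intro h1
    apply haQ
    apply h.beta.cap l hl a ha
    rw [mem_conj, mul_assoc]
    exact h1

/-- **(3)** `X' ≰ l E` -/
theorem three [Finite Y] [Finite V] {l : L} (hl : l ∉ L₁) :
    ∃ x ∈ t • (fx V Q : AddSubgroup V), l⁻¹ • x ∉ E := by
  by_contra hc
  push Not at hc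
  obtain ⟨x, hx, hxX⟩ := h.X'_not_le k
  apply hxX
  -- `X' ≤ X + l F`
  have key : ∀ y ∈ t • (fx V Q : AddSubgroup V), l⁻¹ • y ∈ fx V Q ⊔ F := by
    intro y hy
    apply h.fix_of k hl (hc y hy)
    intro b hb
    exact ((h.s3Q k (h.conjB k (l := l) hb)).1 y hy).2
  obtain ⟨a, ha, -, hal⟩ := h.second k hl
  have h1 := key x hx
  have h2 := key (a⁻¹ • x) (h.actX' k (h.AT (inv_mem ha)) (h.AN a⁻¹) hx)
  rw [AddSubgroup.mem_sup] at h1 h2
  obtain ⟨y, hy, f, hf, h1⟩ := h1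
  obtain ⟨y', hy', f', hf', h2⟩ := h2
  have hx1 : x = l • y + l • f := by rw [← smul_add, h1, smul_inv_smul]
  have hx2 : x = (a * l) • y' + (a * l) • f' := by
    rw [← smul_add, h2, mul_smul, smul_inv_smul, smul_inv_smul]
  have h3 : f ∈ fx V Q ⊓ F := by
    apply h.F_inf hal hf
    have e : (l⁻¹ * (a * l))⁻¹ • f = (a * l)⁻¹ • (l • f) := by
      rw [← mul_smul]; congr 1; group
    rw [e]
    have e2 : l • f = (l • y + (a * l) • y') + (a * l) • f' := by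
      have h4 : l • y + l • f = (a * l) • y' + (a * l) • f' := by rw [← hx1, ← hx2]
      have h5 : l • f = l • y + (l • y + l • f) := by rw [← add_assoc, h.two, zero_add]
      rw [h5, h4, add_assoc]
    rw [e2, smul_add, inv_smul_smul]
    exact AddSubgroup.add_mem _ (AddSubgroup.mem_sup_left (h.Xmem ((fx V Q).add_mem (h.Xmem hy) (h.Xmem hy'))))
      (AddSubgroup.mem_sup_right hf')
  rw [hx1]
  exact (fx V Q).add_mem (h.Xmem hy) (h.Xmem h3.1)

/-- `|A ∩ Q| = c` -/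
theorem cB [Finite Y] [Finite V] : Nat.card ↥(A ⊓ Q) = Nat.card ↥(fx V Q ⊓ F) := by
  apply le_antisymm _ h.c_le_B
  obtain ⟨l, hl⟩ := exists_out h.loc h.beta
  obtain ⟨x, hx, hxE⟩ := h.three k hl
  let f : ↥(A ⊓ Q) → ↥(fx V Q ⊓ F) := fun b => ⟨_, (h.s3Q k (h.conjB k (l := l) b.2)).1 x hx⟩
  apply Nat.card_le_card_of_injective f
  intro b b' hbb
  have h1 : (l * (b : L) * l⁻¹) • x + x = (l * (b' : L) * l⁻¹) • x + x := congrArg Subtype.val hbb
  have h2 : (b : L) • (l⁻¹ • x) + l⁻¹ • x = (b' : L) • (l⁻¹ • x) + l⁻¹ • x := by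
    rw [← h.conj_smul_add k, h1, h.conj_smul_add k]
  have h3 : (b : L) • (l⁻¹ • x) = (b' : L) • (l⁻¹ • x) := add_right_cancel h2
  have h4 := h.loc.mem.inj _ hxE ((b' : L)⁻¹ * b) (mul_mem (inv_mem b'.2.1) b.2.1) (by
    rw [mul_smul, h3, inv_smul_smul, h.two]
    exact F.zero_mem)
  rw [inv_mul_eq_one] at h4
  exact Subtype.ext h4.symm

theorem cA2 [Finite Y] [Finite V] : Nat.card A = Nat.card ↥(fx V Q ⊓ F) ^ 2 := by
  rw [← h.cA, h.cB k, pow_two]

/-- a subgroup of `T ∩ N_Y(X)` which centralises `X₁`: `|P| ≤ c |C_P(X')|` -/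
theorem count_X' [Finite Y] [Finite V] {P : Subgroup Y} (hP : ∀ p ∈ P, p ∈ T ∧ p ∈ NX L V Q)
    (hP1 : ∀ p ∈ P, ∀ x ∈ fx V Q ⊓ F, p • x = x) :
    ∃ P₀ : Subgroup Y, (∀ p, p ∈ P₀ ↔ p ∈ P ∧ ∀ x ∈ t • (fx V Q : AddSubgroup V), p • x = x) ∧
      Nat.card P ≤ Nat.card ↥(fx V Q ⊓ F) * Nat.card P₀ := by
  obtain ⟨v, hv, hvX⟩ := h.X'_not_le k
  have hv1 : v ∉ fx V Q ⊓ F := fun h1 => hvX h1.1
  have hs := fun p (hp : p ∈ P) => h.s3 k (hP p hp).1 (hP p hp).2 (hP1 p hp)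
  let φ : P →* Multiplicative ↥(fx V Q ⊓ F) :=
    { toFun := fun p => Multiplicative.ofAdd ⟨(p : Y) • v + v, (hs p p.2).1 v hv⟩
      map_one' := by
        apply congrArg Multiplicative.ofAdd
        apply Subtype.ext
        change (1 : Y) • v + v = 0
        rw [one_smul, h.two]
      map_mul' := fun p p' => by
        apply congrArg Multiplicative.ofAdd
        apply Subtype.ext
        change ((p : Y) * p') • v + v = ((p : Y) • v + v) + ((p' : Y) • v + v)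
        have h1 : (p : Y) • ((p' : Y) • v + v) = (p' : Y) • v + v := hP1 p p.2 _ ((hs p' p'.2).1 v hv)
        rw [mul_smul]
        have h2 : (p : Y) • (p' : Y) • v = (p' : Y) • v + v + (p : Y) • v := by
          rw [smul_add] at h1
          rw [← h1, add_assoc, h.two, add_zero]
        rw [h2]
        abel }
  refine ⟨φ.ker.map P.subtype, ?_, ?_⟩
  · intro p
    constructor
    · rintro ⟨p', hp', rfl⟩
      refine ⟨p'.2, ?_⟩
      have h1 : (p' : Y) • v + v = 0 := congrArg (fun u : Multiplicative ↥(fx V Q ⊓ F) => ((u.toAdd : ↥(fx V Q ⊓ F)) : V)) hp'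
      exact (hs p' p'.2).2 v hv hv1 (h.eq_of_add h1)
    · rintro ⟨hp, hp1⟩
      refine ⟨⟨p, hp⟩, ?_, rfl⟩
      apply congrArg Multiplicative.ofAdd
      apply Subtype.ext
      change p • v + v = 0
      rw [hp1 v hv, h.two]
  · have h1 := Subgroup.card_mul_index φ.ker
    rw [Subgroup.index_ker] at h1
    have h2 : Nat.card φ.range ≤ Nat.card ↥(fx V Q ⊓ F) :=
      Nat.card_le_card_of_injective (fun u : φ.range => (u.1.toAdd : ↥(fx V Q ⊓ F))) fun u u' huu => Subtype.ext huu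
    have h3 : Nat.card (φ.ker.map P.subtype) = Nat.card φ.ker :=
      Nat.card_congr (φ.ker.equivMapOfInjective _ P.subtype_injective).symm.toEquiv
    rw [h3, ← h1, mul_comm]
    exact Nat.mul_le_mul_right _ h2

/-- **(4)** `X' ∩ l E = X₁` -/
theorem four [Finite Y] [Finite V] {l : L} (hl : l ∉ L₁) {y : V} (hy : y ∈ t • (fx V Q : AddSubgroup V))
    (hyE : l⁻¹ • y ∈ E) : y ∈ fx V Q ⊓ F := by
  have h1 := h.fix_of k hl hyE fun b hb => ((h.s3Q k (h.conjB k (l := l) hb)).1 y hy).2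
  rw [AddSubgroup.mem_sup] at h1
  obtain ⟨w, hw, f, hf, h1⟩ := h1
  have hlw : l • w ∈ fx V Q := h.Xmem hw
  rw [h.beta.sup l hl, AddSubgroup.mem_sup] at hlw
  obtain ⟨u, hu, v, hv, huv⟩ := hlw
  -- `y = u + g`, `g = v + l f ∈ X' ∩ l F`
  set g := v + l • f with hg
  have hyu : y = u + g := by
    rw [hg, ← add_assoc, huv, ← smul_add, h1, smul_inv_smul]
  have hgF : l⁻¹ • g ∈ F := by
    rw [hg, smul_add, inv_smul_smul]
    exact F.add_mem (mem_smul_as.1 hv).2 hf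
  have hgX : g ∈ t • (fx V Q : AddSubgroup V) := by
    have : g = y + u := by rw [hyu, add_comm u g, add_assoc, h.two, add_zero]
    rw [this]
    exact AddSubgroup.add_mem _ hy (h.X1_le_X' k hu)
  by_cases hg0 : g = 0
  · rw [hyu, hg0, add_zero]; exact hu
  exfalso
  have hgC : g ∉ fx V (⊤ : Subgroup L) := by rwa [h.C0, AddSubgroup.mem_bot]
  have hst := h.loc.stab_le hgF hgC
  -- `C_A(X')`
  obtain ⟨P₀, hP₀, hcard⟩ := h.count_X' k (P := A.map L.subtype) (by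
    rintro _ ⟨a, ha, rfl⟩
    exact ⟨h.AT ha, h.AN a⟩) (by
    rintro _ ⟨a, ha, rfl⟩ x hx
    exact h.loc.mem.FB a ha x hx.2)
  have hA : Nat.card (A.map L.subtype) = Nat.card A :=
    Nat.card_congr (A.equivMapOfInjective _ L.subtype_injective).symm.toEquiv
  rw [hA, h.cA2 k, pow_two] at hcard
  have hc0 : 0 < Nat.card ↥(fx V Q ⊓ F) := Nat.card_pos
  have hcard' := Nat.le_of_mul_le_mul_left hcard hc0
  have hP₀B : P₀ ≤ (A ⊓ Q).map L.subtype := by
    intro p hp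
    obtain ⟨⟨a, ha, rfl⟩, hp1⟩ := (hP₀ p).1 hp
    refine ⟨a, ⟨ha, ?_⟩, rfl⟩
    exact h.beta.cap l hl a ha (hst (hp1 g hgX))
  have hB : Nat.card ((A ⊓ Q).map L.subtype) = Nat.card ↥(A ⊓ Q) :=
    Nat.card_congr ((A ⊓ Q).equivMapOfInjective _ L.subtype_injective).symm.toEquiv
  have heq : P₀ = (A ⊓ Q).map L.subtype := by
    apply eq_of_le_of_card_ge hP₀B
    rw [hB, h.cB k]
    exact hcard'
  have h2 : g ∈ fx V Q ⊔ F := by
    rw [← h.beta.CVB]
    intro b hb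
    have h3 : (b : Y) ∈ P₀ := by rw [heq]; exact ⟨b, hb, rfl⟩
    exact ((hP₀ _).1 h3).2 g hgX
  have h3 : l⁻¹ • g ∈ fx V Q ⊓ F := by
    apply h.F_inf (h.inv_nmem hl) hgF
    rw [inv_inv, smul_inv_smul]
    exact h2
  have h4 : g ∈ fx V Q := by
    have := h.Xmem (l := l) h3.1
    rwa [smul_inv_smul] at this
  have h5 : g ∉ fx V Q ⊓ F := fun h6 => hg0 (h.FF hl h6.2 hgF)
  obtain ⟨x, hx, hxX⟩ := h.X'_not_le k
  apply hxX
  intro q hq
  exact (h.s3Q k hq).2 g hgX h5 (h4 q hq) x hx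

/-- `c = |V/E|` -/
theorem ca [Finite Y] [Finite V] : Nat.card ↥(fx V Q ⊓ F) = E.index := by
  obtain ⟨l, hl⟩ := exists_out h.loc h.beta
  have hEi : 0 < E.index := Nat.pos_of_ne_zero AddSubgroup.index_ne_zero_of_finite
  apply le_antisymm
  · -- `X' / X₁` embeds in `V / l E`
    set X' := t • (fx V Q : AddSubgroup V) with hX'
    have h1 : X' ⊓ (l : Y) • E = fx V Q ⊓ F := by
      apply le_antisymm
      · rintro y ⟨hy, hyE⟩
        exact h.four k hl hy (mem_smul_as.1 hyE)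
      · intro y hy
        have hy' := hy
        rw [← h.tX1 k] at hy'
        exact ⟨h.X1_le_X' k hy, mem_smul_as.2 (h.two_a k l hy')⟩
    have h2 := card_sup_as X' ((l : Y) • E)
    rw [h1, h.tX_card k, card_smul_as] at h2
    have h3 := AddSubgroup.card_mul_index E
    have h4 : Nat.card ↥(X' ⊔ (l : Y) • E) ≤ Nat.card V := Nat.card_le_card_of_injective _ Subtype.val_injective
    have hc0 : 0 < Nat.card ↥(fx V Q ⊓ F) := Nat.card_pos
    have hE0 : 0 < Nat.card E := Nat.card_pos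
    apply Nat.le_of_mul_le_mul_left _ (Nat.mul_pos hE0 hc0)
    calc Nat.card E * Nat.card ↥(fx V Q ⊓ F) * Nat.card ↥(fx V Q ⊓ F)
        = Nat.card ↥(fx V Q ⊓ F) ^ 2 * Nat.card E := by ring
      _ = Nat.card ↥(X' ⊔ (l : Y) • E) * Nat.card ↥(fx V Q ⊓ F) := h2.symm
      _ ≤ Nat.card V * Nat.card ↥(fx V Q ⊓ F) := Nat.mul_le_mul_right _ h4
      _ = Nat.card E * Nat.card ↥(fx V Q ⊓ F) * E.index := by rw [← h3]; ring
  · have h1 := pf_le h.loc.mem h.two (by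
      intro h2
      apply h.beta.ne
      rw [h2, bot_inf_eq])
    rw [h.cA2 k] at h1
    exact (Nat.pow_le_pow_iff_left two_ne_zero).1 h1

/-- `V = X' + l E` -/
theorem sup_top [Finite Y] [Finite V] {l : L} (hl : l ∉ L₁) (v : V) :
    ∃ x ∈ t • (fx V Q : AddSubgroup V), l⁻¹ • (v + x) ∈ E := by
  set X' := t • (fx V Q : AddSubgroup V) with hX'
  have h1 : X' ⊓ (l : Y) • E = fx V Q ⊓ F := by
    apply le_antisymm
    · rintro y ⟨hy, hyE⟩
      exact h.four k hl hy (mem_smul_as.1 hyE)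
    · intro y hy
      have hy' := hy
      rw [← h.tX1 k] at hy'
      exact ⟨h.X1_le_X' k hy, mem_smul_as.2 (h.two_a k l hy')⟩
  have h2 := card_sup_as X' ((l : Y) • E)
  rw [h1, h.tX_card k, card_smul_as] at h2
  have h3 := AddSubgroup.card_mul_index E
  have hc0 : 0 < Nat.card ↥(fx V Q ⊓ F) := Nat.card_pos
  have h5 : Nat.card ↥(X' ⊔ (l : Y) • E) = Nat.card V := by
    apply Nat.eq_of_mul_eq_mul_right hc0
    rw [h2, ← h3, ← h.ca k]
    ring
  have h6 : X' ⊔ (l : Y) • E = ⊤ := by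
    apply AddSubgroup.eq_top_of_card_eq
    exact h5
  have h7 : v ∈ X' ⊔ (l : Y) • E := by rw [h6]; trivial
  rw [AddSubgroup.mem_sup] at h7
  obtain ⟨x, hx, e, he, rfl⟩ := h7
  refine ⟨x, hx, ?_⟩
  have e1 : x + e + x = e := by
    rw [add_comm x e, add_assoc, h.two, add_zero]
  rw [e1]
  exact mem_smul_as.1 he

end t

end Hyp0

end Cfsg.Agent.Omega.NO1.B0
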