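import Cfsg.Agent.Omega.NO1.B0.Semi

/-!
# THEOREM B0 (bb OMEGA 18835, helper970): the conclusions of (1)-(7)

`X = C_V(Q)`, `S = Q`, `a = |V/E|`.
-/

set_option autoImplicit false
set_option linter.unusedSectionVars false
set_option linter.style.haveILetI false

namespace Cfsg.Agent.Omega.NO1.B0

open Subgroup Cfsg.Agent.Omega.NO1.AB
open scoped Pointwise

universe u

variable {Y : Type u} [Group Y] {V : Type u} [AddCommGroup V] [DistribMulAction Y V]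

/-- The conclusions of (1)-(7) (`S = Q = B₁ = B₂ = D`, `K` = `SL₂(a)`). -/
structure Out (T : Sylow 2 Y) (M L : Subgroup Y) (A Q L₁ : Subgroup L) (R : Sylow 2 L) (E F : AddSubgroup V)
    (z : V) (t : Y) : Prop where
  hyp : Hyp T M L A Q L₁ R E F z
  tk : Tk T L V Q t
  QA : Q ≤ A
  cQ : Nat.card Q = E.index
  cA : Nat.card A = E.index ^ 2
  cF : Nat.card F = E.index
  cX : Nat.card ↥(fx V Q) = E.index ^ 2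
  cV : Nat.card V = E.index ^ 4
  FX : F ≤ fx V Q
  supE : E = fx V Q ⊔ t • fx V Q
  infF : fx V Q ⊓ t • fx V Q = F
  tF : t • F = F
  tE : t • E = E
  Qz : ∀ q ∈ Q, ∀ l : L, q * l = l * q
  /-- `C_V(q) = X` -/
  Qfix : ∀ q ∈ Q, q ≠ 1 → ∀ v : V, q • v = v → v ∈ fx V Q
  /-- `[V,q] = X` -/
  QV : ∀ q ∈ Q, ∀ v : V, q • v + v ∈ fx V Q
  Qsurj : ∀ q ∈ Q, q ≠ 1 → ∀ x ∈ fx V Q, ∃ v : V, q • v + v = x
  /-- `A = S × S^t = A^t` -/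
  QtA : ∀ q ∈ Q, ∃ b ∈ A, (b : Y) = t * q * t⁻¹
  tA : ∀ b ∈ A, ∃ c ∈ A, (c : Y) = t * b * t⁻¹
  prod : ∀ b ∈ A, ∃ q ∈ Q, ∃ q' ∈ Q, (b : Y) = q * (t * q' * t⁻¹)
  inf1 : ∀ q ∈ Q, ∀ q' ∈ Q, (q : Y) = t * q' * t⁻¹ → q = 1
  /-- `C_A(X') = S^t` -/
  CAX' : ∀ b ∈ A, (∀ x ∈ t • fx V Q, b • x = x) → ∃ q ∈ Q, (b : Y) = t * q * t⁻¹
  /-- `C_Y(X) ∩ C_Y(V/X) = S` -/
  DD : ∀ y : Y, (∀ x ∈ fx V Q, y • x = x) → (∀ v : V, y • v + v ∈ fx V Q) → ∃ q ∈ Q, (q : Y) = y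
  /-- `C_L(X) = S` -/
  CL : ∀ l : L, (∀ x ∈ fx V Q, l • x = x) → l ∈ Q
  /-- `C_T(X) = S`, `C_T(A) = A` -/
  CTX : ∀ y ∈ T, (∀ x ∈ fx V Q, y • x = x) → ∃ q ∈ Q, (q : Y) = y
  CTA : ∀ y ∈ T, (∀ b ∈ A, y * (b : Y) = b * y) → ∃ b ∈ A, (b : Y) = y

/-- Gaschütz: `L = S × K` -/
structure OutK {T : Sylow 2 Y} {M L : Subgroup Y} {A Q L₁ : Subgroup L} {R : Sylow 2 L} {E F : AddSubgroup V}
    {z : V} {t : Y} (_ : Out T M L A Q L₁ R E F z t) (K : Subgroup L) (𝕂 : Type) [Field 𝕂]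
    (e : ↥(fx V Q) ≃+ (Fin 2 → 𝕂)) (φ : K ≃* Matrix.SpecialLinearGroup (Fin 2) 𝕂) : Prop where
  inf : K ⊓ Q = ⊥
  sup : K ⊔ Q = ⊤
  normal : K.Normal
  card : Nat.card 𝕂 = E.index
  act : ∀ (k : K) (v w : ↥(fx V Q)), (w : V) = (k : L) • (v : V) → e w = (φ k).1.mulVec (e v)
  memF : ∀ v : ↥(fx V Q), (v : V) ∈ F ↔ e v 1 = 0

end Cfsg.Agent.Omega.NO1.B0
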