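import Cfsg.Agent.Omega.NO1.B0.OfFin
import Cfsg.Agent.Omega.NO1.TH.EndTwo

/-!
# FIN-BETA for `|V : E| = 2` (FrTwo): contradiction (helper817)

`Out.false_two` : THEOREM B0's output with `|V : E| = 2` : a transvection or a four-group offender
(`V = ⟨z, n, tn, v⟩`, `TH/EndTwo.lean`, `last`).
-/

set_option autoImplicit false
set_option linter.unusedSectionVars false

namespace Cfsg.Agent.Omega.NO1.B0

open Subgroup Cfsg.Agent.Omega.NO1.AB
open Cfsg.Agent.Omega.NO1.TH.ET (tw card_tw last add_swap)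
open scoped Pointwise

universe u

variable {Y : Type u} [Group Y] {V : Type u} [AddCommGroup V] [DistribMulAction Y V]

/-- a subgroup of order two -/
theorem two_elts {W : AddSubgroup V} (hc : Nat.card W = 2) {z : V} (hz : z ∈ W) (hz0 : z ≠ 0) {x : V} (hx : x ∈ W) :
    x = 0 ∨ x = z := by
  have h1 : ({0, z} : Set V).ncard = 2 := Set.ncard_pair (Ne.symm hz0)
  have hfin : (W : Set V).Finite := by
    apply Set.finite_of_ncard_ne_zero
    change Nat.card W ≠ 0
    omega
  have h2 : ({0, z} : Set V) = W := by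
    apply Set.eq_of_subset_of_ncard_le _ _ hfin
    · rintro y (rfl | rfl)
      · exact zero_mem _
      · exact hz
    · rw [h1]; exact hc.le
  have h3 : x ∈ (W : Set V) := hx
  rw [← h2] at h3
  exact h3

theorem Out.false_two [Finite Y] [Finite V] {T : Sylow 2 Y} {M L : Subgroup Y} {A Q L₁ : Subgroup L} {R : Sylow 2 L}
    {E F : AddSubgroup V} {z : V} {t : Y} (o : Out T M L A Q L₁ R E F z t) (hE : E.index = 2) : False := by
  have H := o.hyp.toHyp0
  have h2 : ∀ v : V, v + v = 0 := H.two
  have hm := H.loc.mem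
  -- elements of `A`
  have hQ2 : Nat.card Q = 2 := by rw [o.cQ, hE]
  have hne : Q ≠ ⊥ := by
    intro h1
    rw [h1, Subgroup.card_bot] at hQ2
    omega
  obtain ⟨⟨b, hb⟩, hb1⟩ := Subgroup.ne_bot_iff_exists_ne_one.1 hne
  have hb1' : b ≠ 1 := fun h3 => hb1 (Subtype.ext h3)
  have hQe : ∀ q ∈ Q, q = 1 ∨ q = b := by
    intro q hq
    have h1 : ({1, b} : Set L).ncard = 2 := Set.ncard_pair (Ne.symm hb1')
    have h3 : ({1, b} : Set L) = Q := by
      apply Set.eq_of_subset_of_ncard_le _ _ (Set.toFinite _)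
      · rintro y (rfl | rfl)
        · exact one_mem _
        · exact hb
      · rw [h1]; exact hQ2.le
    have h4 : q ∈ (Q : Set L) := hq
    rw [← h3] at h4
    exact h4
  have hbA := o.QA hb
  obtain ⟨c, hc, hct⟩ := o.QtA b hb
  have hbb := hm.sq b hbA
  have hcc := hm.sq c hc
  have hbc := hm.comm b hbA c hc
  have hA : ∀ s ∈ A, s = 1 ∨ s = b ∨ s = c ∨ s = b * c := by
    intro s hs
    obtain ⟨q, hq, q', hq', h3⟩ := o.prod s hs
    have h4 : (s : Y) = 1 ∨ (s : Y) = b ∨ (s : Y) = c ∨ (s : Y) = b * c := by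
      rw [h3]
      rcases hQe q hq with rfl | rfl <;> rcases hQe q' hq' with rfl | rfl
      · left; simp
      · right; right; left; rw [hct]; simp
      · right; left; simp
      · right; right; right; rw [hct]
    rcases h4 with h4 | h4 | h4 | h4
    · left; exact Subtype.ext h4
    · right; left; exact Subtype.ext h4
    · right; right; left; exact Subtype.ext h4
    · right; right; right; exact Subtype.ext h4
  have hcb : c ≠ b := by
    intro h3
    apply hb1'
    apply o.inf1 b hb b hb
    rw [← hct, h3]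
  have hc1 : c ≠ 1 := by
    intro h3
    apply hb1'
    rw [h3, coe_one] at hct
    have h4 : (b : Y) = t⁻¹ * (t * b * t⁻¹) * t := by group
    rw [← hct] at h4
    exact Subtype.ext (by rw [h4]; simp)
  -- vectors
  have hF2 : Nat.card F = 2 := by rw [o.cF, hE]
  have hX4 : Nat.card ↥(fx V Q) = 4 := by rw [o.cX, hE]; norm_num
  have hz0 : z ≠ 0 := H.z_ne
  have hzF : z ∈ F := H.loc.z_mem.2
  have hFe : ∀ x ∈ F, x = 0 ∨ x = z := fun x hx => two_elts hF2 hzF hz0 hx
  have hn : ∃ n ∈ fx V Q, n ∉ F := by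
    by_contra hcon
    push Not at hcon
    have h3 : fx V Q = F := le_antisymm hcon o.FX
    rw [h3] at hX4
    omega
  obtain ⟨n, hnX, hnF⟩ := hn
  have hXe : ∀ x ∈ fx V Q, x ∈ F ∨ x + n ∈ F := by
    intro x hx
    by_cases hxF : x ∈ F
    · exact Or.inl hxF
    · right
      exact TH.ET.add_mem_of o.FX (by rw [hX4, hF2]) hx hnX hxF hnF
  have hXE : fx V Q ≤ E := by
    have h3 : fx V Q ≤ fx V Q ⊔ t • fx V Q := le_sup_left
    rwa [← o.supE] at h3
  have htz : t • z = z := by
    have h3 : t • z ∈ F := by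
      have h4 : t • z ∈ t • F := smul_mem_smul_as hzF
      rwa [o.tF] at h4
    rcases hFe _ h3 with h4 | h4
    · exfalso; apply hz0; rwa [smul_eq_zero_iff_eq] at h4
    · exact h4
  have bz : b • z = z := hm.FB b hbA z hzF
  have cz : c • z = z := hm.FB c hc z hzF
  have bn : b • n = n := hnX b hb
  -- `c` moves `n`
  have hcfix : ∀ v : V, c • v = v → v ∈ t • fx V Q := by
    intro v hv
    rw [mem_smul_as]
    apply o.Qfix b hb hb1'
    have h3 : (t * (b : Y) * t⁻¹) • v = v := by rw [← hct]; exact hv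
    rw [mul_smul, mul_smul] at h3
    have h4 : t⁻¹ • t • (b : Y) • t⁻¹ • v = t⁻¹ • v := by rw [h3]
    rw [inv_smul_smul] at h4
    exact h4
  have cn : c • n = n + z := by
    have h3 : c • n + n ∈ F := hm.EB c hc n (hXE hnX)
    rcases hFe _ h3 with h4 | h4
    · exfalso
      apply hnF
      rw [← o.infF]
      exact ⟨hnX, hcfix n ((HE.add_eq_zero' h2).1 h4)⟩
    · exact add_swap h2 h4
  -- `t² ∈ A`
  have htt : ∀ x ∈ fx V Q, (t * t) • x ∈ fx V Q := fun x hx => NX_smul o.tk.tt hx
  have htt' : ∀ x ∈ fx V Q, (t * t)⁻¹ • x ∈ fx V Q := fun x hx => NX_smul (inv_mem o.tk.tt) hx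
  obtain ⟨d, hd, hdt⟩ := o.tA c hc
  have hdb : d = b := by
    have h3 : (d : Y) = (t * t) * b * (t * t)⁻¹ := by rw [hdt, hct]; group
    have hdfix : d • n = n := by
      change (d : Y) • n = n
      have h4 : (b : Y) • (t * t)⁻¹ • n = (t * t)⁻¹ • n := (htt' n hnX) b hb
      rw [h3, mul_smul, mul_smul, h4, smul_inv_smul]
    have hd1 : d ≠ 1 := by
      intro h4
      rw [h4, coe_one] at h3
      apply hb1'
      apply Subtype.ext
      have h5 : (b : Y) = (t * t)⁻¹ * ((t * t) * b * (t * t)⁻¹) * (t * t) := by group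
      rw [h5, ← h3]; simp
    rcases hA d hd with h4 | h4 | h4 | h4
    · exact absurd h4 hd1
    · exact h4
    · exfalso
      rw [h4, cn] at hdfix
      apply hz0
      have : n + z = n + 0 := by rw [add_zero]; exact hdfix
      exact add_left_cancel this
    · exfalso
      rw [h4, mul_smul, cn, smul_add, bn, bz] at hdfix
      apply hz0
      have : n + z = n + 0 := by rw [add_zero]; exact hdfix
      exact add_left_cancel this
  have hct' : t * (c : Y) * t⁻¹ = b := by rw [← hdt, hdb]
  have httA : ∃ a ∈ A, (a : Y) = t * t := by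
    apply o.CTA _ (mul_mem o.tk.tT o.tk.tT)
    have kb : t * t * (b : Y) = b * (t * t) := by
      have h3 : t * t * (b : Y) = t * (t * b * t⁻¹) * t⁻¹ * (t * t) := by group
      rw [h3, ← hct, hct']
    have kc : t * t * (c : Y) = c * (t * t) := by
      have h3 : t * t * (c : Y) = t * (t * c * t⁻¹) * t⁻¹ * (t * t) := by group
      rw [h3, hct', ← hct]
    intro s hs
    rcases hA s hs with h4 | h4 | h4 | h4
    · rw [h4]; simp
    · rw [h4]; exact kb
    · rw [h4]; exact kc
    · rw [h4, coe_mul, ← mul_assoc, kb, mul_assoc, kc, mul_assoc]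
  have htA : ∀ s ∈ A, (s : Y) ≠ t := by
    intro s _ h3
    apply o.tk.tX
    rw [← h3]
    exact H.L_le_NX s.2
  -- `v ∉ E`, the right `t`
  obtain ⟨v, hv⟩ := hm.ne
  have htv : t • v ∉ E := by
    intro h3
    apply hv
    rw [← o.tE, mem_smul_as, inv_smul_smul] at h3
    exact h3
  have h3 : t • v + v ∈ E :=
    (AddSubgroup.add_mem_iff_of_index_two hE).2 ⟨fun h4 => absurd h4 htv, fun h4 => absurd h4 hv⟩
  obtain ⟨r, hr, h4⟩ := hm.surj v hv _ h3
  have hrr := hm.sq r hr
  have h5 : r • v + t • v ∈ F := by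
    have e1 : r • v + v + (t • v + v) = r • v + t • v + (v + v) := by abel
    rwa [e1, h2, add_zero] at h4
  have hf : ((r : Y) * t) • v + v ∈ F := by
    have h6 := hm.FB r hr _ h5
    rw [smul_add, ← mul_smul r r, hrr, one_smul] at h6
    have h7 : (r : Y) • t • v = ((r : Y) * t) • v := (mul_smul _ _ _).symm
    have h8 : r • t • v = ((r : Y) * t) • v := h7
    rw [h8] at h6
    have h9 : ((r : Y) * t) • v + v = v + ((r : Y) * t) • v := add_comm _ _
    rw [h9, h6]
    exact h5
  have hAt : ∀ s ∈ A, ∃ s' ∈ A, (s' : Y) = t * s * t⁻¹ := o.tA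
  -- the square of `r t`
  have hsq : ∃ s ∈ A, (s : Y) = r * t * (r * t) := by
    obtain ⟨r', hr', h6⟩ := hAt r hr
    obtain ⟨a, ha, h7⟩ := httA
    refine ⟨r * r' * a, mul_mem (mul_mem hr hr') ha, ?_⟩
    rw [coe_mul, coe_mul, h6, h7]
    simp only [mul_assoc, inv_mul_cancel_left]
  have hfz := hFe _ hf
  have htf : ∀ f ∈ F, ((r : Y) * t) • f = f := by
    intro f hf
    rcases hFe f hf with rfl | rfl
    · exact smul_zero _
    · rw [mul_smul, htz]
      exact hm.FB r hr _ hzF
  have hrt : ((r : Y) * t) • v = v + (((r : Y) * t) • v + v) := by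
    have e1 : v + (((r : Y) * t) • v + v) = ((r : Y) * t) • v + (v + v) := by abel
    rw [e1, h2, add_zero]
  have hsqv : ((r : Y) * t * (r * t)) • v = v := by
    rw [mul_smul]
    obtain ⟨f, hfe⟩ : ∃ f, f = ((r : Y) * t) • v + v := ⟨_, rfl⟩
    rw [← hfe] at hrt hf
    rw [hrt, smul_add, hrt, htf f hf, add_assoc, h2, add_zero]
  have h1 : (r : Y) * t * (r * t) = 1 := by
    obtain ⟨s, hs, h6⟩ := hsq
    have h7 : s = 1 := by
      apply hm.inj v hv s hs
      have h8 : s • v = v := by
        change (s : Y) • v = v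
        rw [h6]; exact hsqv
      rw [h8, h2]; exact zero_mem _
    rw [← h6, h7, coe_one]
  have noff : ∀ A : Subgroup Y, (∀ x ∈ A, ∀ y ∈ A, x * y = y * x) → (∀ x ∈ A, x * x = 1) → A ≠ ⊥ →
      Nat.card A < (fx V A).index := by
    intro A' _ hsq' hne'
    have h6 := H.off A' hsq' hne'
    have h7 := (fx V A').card_mul_index
    have h8 : 0 < Nat.card ↥(fx V A') := Nat.card_pos
    rw [← h7, mul_comm] at h6
    exact Nat.lt_of_mul_lt_mul_left h6
  -- `n' = t₁ n`
  have htn : t • n ∈ t • fx V Q := smul_mem_smul_as hnX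
  have htnE : t • n ∈ E := by
    have h6 : t • fx V Q ≤ fx V Q ⊔ t • fx V Q := le_sup_right
    rw [← o.supE] at h6
    exact h6 htn
  have hrn : ((r : Y) * t) • n = t • n ∨ ((r : Y) * t) • n = t • n + z := by
    rw [mul_smul]
    have h6 : r • (t • n) + t • n ∈ F := hm.EB r hr _ htnE
    rcases hFe _ h6 with h7 | h7
    · left; exact (HE.add_eq_zero' h2).1 h7
    · right; exact add_swap h2 h7
  have bY : ∀ x : V, (b : Y) • x = b • x := fun _ => rfl
  have cY : ∀ x : V, (c : Y) • x = c • x := fun _ => rfl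
  have rcb : (r : Y) * b = b * r := congrArg Subtype.val (hm.comm r hr b hbA)
  have rcc : (r : Y) * c = c * r := congrArg Subtype.val (hm.comm r hr c hc)
  have htb : t * (b : Y) = c * t := by rw [hct]; group
  have htc : t * (c : Y) = b * t := by rw [← hct']; group
  have hrtb : (r : Y) * t * b = c * (r * t) := by rw [mul_assoc, htb, ← mul_assoc, rcc, mul_assoc]
  have hrtc : (r : Y) * t * c = b * (r * t) := by rw [mul_assoc, htc, ← mul_assoc, rcb, mul_assoc]
  have tz : ((r : Y) * t) • z = z := htf z hzF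
  have bn' : (b : Y) • ((r : Y) * t) • n = ((r : Y) * t) • n + z := by
    rw [← mul_smul, ← hrtc, mul_smul, cY, cn, smul_add, tz]
  have cn' : (c : Y) • ((r : Y) * t) • n = ((r : Y) * t) • n := by
    rw [← mul_smul, ← hrtb, mul_smul, bY, bn]
  have bv : (b : Y) • v + v = n ∨ (b : Y) • v + v = n + z := by
    have h6 : b • v + v ∈ fx V Q := o.QV b hb v
    have h7 : b • v + v ∉ F := fun h8 => hb1' (hm.inj v hv b hbA h8)
    rcases hXe _ h6 with h8 | h8
    · exact absurd h8 h7
    · rcases hFe _ h8 with h9 | h9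
      · left; exact (HE.add_eq_zero' h2).1 h9
      · right
        have := add_swap h2 h9
        exact this
  have cv : (c : Y) • v + v = ((r : Y) * t) • n ∨ (c : Y) • v + v = ((r : Y) * t) • n + z := by
    have h6 : (c : Y) • v + v = t • (b • t⁻¹ • v + t⁻¹ • v) := by
      rw [smul_add, smul_inv_smul, ← bY, hct, mul_smul, mul_smul]
    have h7 : c • v + v ∉ F := fun h8 => hc1 (hm.inj v hv c hc h8)
    have h8 : b • t⁻¹ • v + t⁻¹ • v ∈ fx V Q := o.QV b hb _
    have h9 : (c : Y) • v + v = t • n ∨ (c : Y) • v + v = t • n + z := by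
      rcases hXe _ h8 with h9 | h9
      · exfalso
        apply h7
        change (c : Y) • v + v ∈ F
        rw [h6, ← o.tF]
        exact smul_mem_smul_as h9
      · rcases hFe _ h9 with h10 | h10
        · left
          rw [h6, (HE.add_eq_zero' h2).1 h10]
        · right
          rw [h6, add_swap h2 h10, smul_add, htz]
    rcases h9 with h9 | h9 <;> rcases hrn with h10 | h10
    · left; rw [h9, h10]
    · right; rw [h9, h10, add_assoc, h2, add_zero]
    · right; rw [h9, h10]
    · left; rw [h9, h10]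
  have tvv : ((r : Y) * t) • v = v ∨ ((r : Y) * t) • v = v + z := by
    rcases hfz with h6 | h6
    · left; exact (HE.add_eq_zero' h2).1 h6
    · right; exact add_swap h2 h6
  have hrtA : ∀ s ∈ A, (s : Y) ≠ r * t := by
    intro s hs h6
    apply htA (r⁻¹ * s) (mul_mem (inv_mem hr) hs)
    rw [coe_mul, coe_inv, h6, inv_mul_cancel_left]
  refine last h2 H.faith noff (b := (b : Y)) (c := (c : Y)) (t := (r : Y) * t) (z := z) (n := n)
    (n' := ((r : Y) * t) • n) (v := v) (congrArg Subtype.val hbb) (congrArg Subtype.val hcc)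
    (congrArg Subtype.val hbc) h1 hrtb hrtc ?_ ?_ ?_ bz cz tz bn cn rfl bn' cn' bv cv tvv hz0 ?_ ?_ ?_
  · intro h6
    exact hrtA 1 (one_mem _) (by rw [h6]; rfl)
  · intro h6
    apply hcb
    have h7 : b * c = 1 := Subtype.ext h6
    have : b * (b * c) = b * 1 := by rw [h7]
    rwa [← mul_assoc, hbb, one_mul, mul_one] at this
  · intro h6
    exact hrtA (b * c) (mul_mem hbA hc) h6
  · intro h6
    have h7 := (HE.add_eq_zero' h2).1 h6
    rw [← h7, cY, cn] at cn'
    apply hz0
    have : n + z = n + 0 := by rw [add_zero]; exact cn'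
    exact add_left_cancel this
  · intro h6
    have h7 : ((r : Y) * t) • n = n + z := by
      have : n + (n + ((r : Y) * t) • n) = n + z := by rw [h6]
      rwa [← add_assoc, h2, zero_add] at this
    rw [h7, cY, smul_add, cn, cz, add_assoc, h2, add_zero] at cn'
    apply hz0
    have : n + z = n + 0 := by rw [add_zero]; exact cn'.symm
    exact add_left_cancel this
  · obtain ⟨n', hn'⟩ : ∃ n', n' = ((r : Y) * t) • n := ⟨_, rfl⟩
    rw [← hn'] at hrn ⊢
    set S := tw h2 z ⊔ tw h2 n ⊔ tw h2 n' ⊔ tw h2 v with hS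
    have hzS : z ∈ S := (le_sup_left.trans (le_sup_left.trans le_sup_left) : tw h2 z ≤ S) (Or.inr rfl)
    have hnS : n ∈ S := (le_sup_right.trans (le_sup_left.trans le_sup_left) : tw h2 n ≤ S) (Or.inr rfl)
    have hn'S : n' ∈ S := (le_sup_right.trans le_sup_left : tw h2 n' ≤ S) (Or.inr rfl)
    have hvS : v ∈ S := (le_sup_right : tw h2 v ≤ S) (Or.inr rfl)
    have hFS : ∀ x ∈ F, x ∈ S := by
      intro x hx
      rcases hFe x hx with rfl | rfl
      · exact zero_mem _
      · exact hzS
    have hXS : ∀ x ∈ fx V Q, x ∈ S := by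
      intro x hx
      rcases hXe x hx with h6 | h6
      · exact hFS x h6
      · have h7 := add_mem (hFS _ h6) hnS
        rwa [add_assoc, h2, add_zero] at h7
    have htnS : t • n ∈ S := by
      rcases hrn with h6 | h6
      · rw [← h6]; exact hn'S
      · have h7 := add_mem hn'S hzS
        rwa [h6, add_assoc, h2, add_zero] at h7
    have htXS : ∀ x ∈ t • fx V Q, x ∈ S := by
      intro x hx
      rw [mem_smul_as] at hx
      rcases hXe _ hx with h6 | h6
      · apply hFS
        rw [← o.tF, mem_smul_as]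
        exact h6
      · have h7 : x + t • n ∈ F := by
          have h8 := smul_mem_smul_as (g := t) h6
          rw [o.tF, smul_add, smul_inv_smul] at h8
          exact h8
        have h8 := add_mem (hFS _ h7) htnS
        rwa [add_assoc, h2, add_zero] at h8
    have hES : ∀ x ∈ E, x ∈ S := by
      intro x hx
      rw [o.supE] at hx
      obtain ⟨y, hy, w, hw, rfl⟩ := AddSubgroup.mem_sup.1 hx
      exact add_mem (hXS y hy) (htXS w hw)
    intro x
    by_cases hx : x ∈ E
    · exact hES x hx
    · have h6 : x + v ∈ E :=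
        (AddSubgroup.add_mem_iff_of_index_two hE).2 ⟨fun h4 => absurd h4 hx, fun h4 => absurd h4 hv⟩
      have h7 := add_mem (hES _ h6) hvS
      rwa [add_assoc, h2, add_zero] at h7

end Cfsg.Agent.Omega.NO1.B0
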