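import Cfsg.Agent.Omega.NO1.B0.NinF

/-!
# THEOREM B0 (bb OMEGA 18835, helper970), the end: `[K₁, K₂] = 1`; `Y` permutes `{K₁, K₂}`

`K₂ = (ps φ).range`, `K₁ = conj t • K₂`.
-/

set_option autoImplicit false
set_option linter.unusedSectionVars false
set_option linter.style.haveILetI false

namespace Cfsg.Agent.Omega.NO1.B0

open Subgroup Cfsg.Agent.Omega.NO1.AB
open Cfsg.Agent.ClassTwo.Sp4Defs (u v d w)
open scoped Pointwise

universe u₁

variable {Y : Type u₁} [Group Y] {V : Type u₁} [AddCommGroup V] [DistribMulAction Y V]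

namespace Out

variable {T : Sylow 2 Y} {M L : Subgroup Y} {A Q L₁ : Subgroup L} {R : Sylow 2 L} {E F : AddSubgroup V}
  {z : V} {t : Y} (o : Out T M L A Q L₁ R E F z t)
  {K : Subgroup L} {k : Type} [Field k] [Finite k] [CharP k 2] {e : ↥(fx V Q) ≃+ (Fin 2 → k)}
  {φ : K ≃* Matrix.SpecialLinearGroup (Fin 2) k} (ok : OutK o K k e φ)
  (ez : ∀ v : ↥(fx V Q), (v : V) = z → e v = ![1, 0])
include ok ez

/-- **`[K₁, K₂] = 1`** -/
theorem comm_ps [Finite Y] [Finite V] (ha : 4 ≤ E.index)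
    (h5 : ∃ x : V, x ∉ F ∧ ∀ y : V, y ∉ E → ∃ s ∈ A.map L.subtype, s ∈ ZN.o2 (MulAction.stabilizer Y z) ∧
      s • y + y + x ∈ F) (g g' : Matrix.SpecialLinearGroup (Fin 2) k) :
    t * ps φ g * t⁻¹ * ps φ g' = ps φ g' * (t * ps φ g * t⁻¹) :=
  (o.nin ok ez ha).comm_K' (o.ninT ok ez ha h5) g g'

theorem norm_K [Finite Y] [Finite V] (ha : 4 ≤ E.index) {y : Y} (hy : y ∈ T) (hyX : y ∈ NX L V Q) :
    MulAut.conj y • (ps φ).range = (ps φ).range := by
  apply conj_eq_self_of_le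
  intro x hx
  rw [mem_conj] at hx
  obtain ⟨m, hm⟩ := hx
  obtain ⟨m', hm'⟩ := (o.nin ok ez ha).nrm ((Pr_iff e).2 hyX) (by
    rw [o.pc_z ok ez]
    exact o.hyp.zT y hy) m
  refine ⟨m', ?_⟩
  rw [← hm', hm]; group

theorem norm_K₁ [Finite Y] [Finite V] (ha : 4 ≤ E.index) {y : Y} (hy : y ∈ T) (hyX : y ∈ NX L V Q) :
    MulAut.conj y • MulAut.conj t • (ps φ).range = MulAut.conj t • (ps φ).range := by
  have h1 := o.norm_K ok ez ha (mul_mem (mul_mem (inv_mem o.tk.tT) hy) o.tk.tT) (o.tk.cj' y hy hyX)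
  rw [conj_smul_smul]
  have e1 : y * t = t * (t⁻¹ * y * t) := by group
  rw [e1, ← conj_smul_smul, h1]

theorem tt_K [Finite Y] [Finite V] (ha : 4 ≤ E.index) :
    MulAut.conj t • MulAut.conj t • (ps φ).range = (ps φ).range := by
  rw [conj_smul_smul]
  exact o.norm_K ok ez ha (mul_mem o.tk.tT o.tk.tT) o.tk.tt

/-- **`Y` permutes `{K₁, K₂}`** -/
theorem perm_K [Finite Y] [Finite V] (ha : 4 ≤ E.index)
    (hc : ∀ g g' : Matrix.SpecialLinearGroup (Fin 2) k, t * ps φ g * t⁻¹ * ps φ g' = ps φ g' * (t * ps φ g * t⁻¹))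
    (y : Y) :
    (MulAut.conj y • (ps φ).range = (ps φ).range ∧
      MulAut.conj y • MulAut.conj t • (ps φ).range = MulAut.conj t • (ps φ).range) ∨
    (MulAut.conj y • (ps φ).range = MulAut.conj t • (ps φ).range ∧
      MulAut.conj y • MulAut.conj t • (ps φ).range = (ps φ).range) := by
  have h := o.nin ok ez ha
  set K₂ : Subgroup Y := (ps φ).range with hK₂
  set K₁ : Subgroup Y := MulAut.conj t • K₂ with hK₁
  let N : Subgroup Y :=
    { carrier := {y | (MulAut.conj y • K₂ = K₂ ∧ MulAut.conj y • K₁ = K₁) ∨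
        (MulAut.conj y • K₂ = K₁ ∧ MulAut.conj y • K₁ = K₂)}
      mul_mem' := by
        intro a b ha hb
        rcases ha with ⟨h1, h2⟩ | ⟨h1, h2⟩ <;> rcases hb with ⟨h3, h4⟩ | ⟨h3, h4⟩
        · left; rw [← conj_smul_smul, ← conj_smul_smul, h3, h4]; exact ⟨h1, h2⟩
        · right; rw [← conj_smul_smul, ← conj_smul_smul, h3, h4]; exact ⟨h2, h1⟩
        · right; rw [← conj_smul_smul, ← conj_smul_smul, h3, h4]; exact ⟨h1, h2⟩
        · left; rw [← conj_smul_smul, ← conj_smul_smul, h3, h4]; exact ⟨h2, h1⟩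
      one_mem' := by
        left
        rw [map_one, one_smul, one_smul]
        exact ⟨rfl, rfl⟩
      inv_mem' := by
        intro a ha
        have hi : ∀ P : Subgroup Y, MulAut.conj a⁻¹ • MulAut.conj a • P = P := by
          intro P
          rw [conj_smul_smul, inv_mul_cancel, map_one, one_smul]
        rcases ha with ⟨h1, h2⟩ | ⟨h1, h2⟩
        · left
          constructor
          · nth_rw 1 [← h1]; exact hi _
          · nth_rw 1 [← h2]; exact hi _
        · right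
          constructor
          · nth_rw 1 [← h2]; exact hi _
          · nth_rw 1 [← h1]; exact hi _ }
  have hT : (T : Subgroup Y) ≤ N := by
    intro x hx
    rcases o.T_cases ha hx with h1 | h1
    · exact Or.inl ⟨o.norm_K ok ez ha hx h1, o.norm_K₁ ok ez ha hx h1⟩
    · right
      have hx' : t⁻¹ * x ∈ T := mul_mem (inv_mem o.tk.tT) hx
      obtain ⟨x', rfl⟩ : ∃ x', x = t * x' := ⟨t⁻¹ * x, by group⟩
      rw [inv_mul_cancel_left] at h1 hx'
      have n1 := o.norm_K ok ez ha hx' h1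
      have n2 := o.norm_K₁ ok ez ha hx' h1
      constructor
      · rw [← conj_smul_smul, n1]
      · rw [← conj_smul_smul, n2, o.tt_K ok ez ha]
  have hL : L ≤ N := by
    intro x hx
    left
    constructor
    · apply conj_eq_self_of_le
      intro y hy
      rw [mem_conj] at hy
      obtain ⟨m, hm⟩ := hy
      rw [ps_apply] at hm
      have h1 := ok.normal.conj_mem (φ.symm m : L) (φ.symm m).2 (⟨x, hx⟩ : L)
      refine ⟨φ ⟨_, h1⟩, ?_⟩
      rw [ps_apply, φ.symm_apply_apply]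
      change x * ((φ.symm m : L) : Y) * x⁻¹ = y
      rw [hm]; group
    · apply conj_eq_self_of_le
      intro y hy
      rw [mem_conj, hK₁, mem_conj] at hy
      obtain ⟨m, hm⟩ := hy
      have e0 : y = x * (t * ps φ m * t⁻¹) * x⁻¹ := by rw [hm]; group
      haveI := o.hyp.loc.Qn
      have h1 : (⟨x, hx⟩ : L) ∈ K ⊔ Q := by rw [ok.sup]; exact mem_top _
      obtain ⟨κ, hκ, q, hq, hκq⟩ := mem_sup_of_normal_right.1 h1
      have e1 : x = (κ : Y) * (q : Y) := (congrArg Subtype.val hκq).symm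
      obtain ⟨β, hβ⟩ := h.t_u_surj (s := (q : Y)) ⟨q, hq, rfl⟩
      have e2 : (κ : Y) = ps φ (φ ⟨κ, hκ⟩) := by rw [ps_apply, φ.symm_apply_apply]
      have e3 : (q : Y) * (t * ps φ m * t⁻¹) * (q : Y)⁻¹ = t * ps φ (u β * m * (u β)⁻¹) * t⁻¹ := by
        rw [hβ, map_mul, map_mul, map_inv]; group
      have e4 : y = t * ps φ (u β * m * (u β)⁻¹) * t⁻¹ := by
        have e5 : y = (κ : Y) * ((q : Y) * (t * ps φ m * t⁻¹) * (q : Y)⁻¹) * (κ : Y)⁻¹ := by
          rw [e0, e1]; group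
        rw [e5, e3, e2, ← hc]; group
      rw [hK₁, mem_conj]
      refine ⟨u β * m * (u β)⁻¹, ?_⟩
      rw [e4]; group
  have hN : N = ⊤ := by
    by_contra hN
    exact o.hyp.LM (hL.trans (o.hyp.uniqM N hT hN))
  have hy : y ∈ N := by rw [hN]; exact mem_top y
  exact hy

end Out

end Cfsg.Agent.Omega.NO1.B0
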