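import Cfsg.Agent.Omega.NO1.B0.Tool

/-!
# THEOREM B0 (bb OMEGA 18835, helper970): (S1), (S2), the 2-element `t`

`N_Y(X)` acts semilinearly on `X`; a member in `T_X = N_T(X)` centralises `X₁` (`s1`); a 2-element of `T_X` which
centralises `X₁` is a transvection (or 1) on `X` (`s2`, `s2'`).
-/

set_option autoImplicit false
set_option linter.unusedSectionVars false
set_option linter.style.haveILetI false

namespace Cfsg.Agent.Omega.NO1.B0

open Subgroup Cfsg.Agent.Omega.NO1.AB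
open scoped Pointwise MatrixGroups

universe u

/-- a proper subgroup of a 2-group -/
theorem exists_sq {P : Type*} [Group P] [Finite P] (hP : IsPGroup 2 P) (H : Subgroup P) (hH : H ≠ ⊤) :
    ∃ t, t ∉ H ∧ t * t ∈ H ∧ ∀ x, x ∈ H ↔ t * x * t⁻¹ ∈ H := by
  have : Fact (Nat.Prime 2) := ⟨Nat.prime_two⟩
  have : Group.IsNilpotent P := hP.isNilpotent
  have h1 := Group.normalizerCondition_of_isNilpotent H (lt_top_iff_ne_top.2 hH)
  obtain ⟨t, ht1, ht2⟩ := Set.exists_of_ssubset h1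
  have hex : ∃ n : ℕ, t ^ 2 ^ n ∈ H := by
    obtain ⟨n, hn⟩ := hP t
    exact ⟨n, by rw [hn]; exact one_mem _⟩
  classical
  set n := Nat.find hex with hn
  have h2 : t ^ 2 ^ n ∈ H := Nat.find_spec hex
  have h3 : n ≠ 0 := by
    intro h4
    rw [h4, pow_zero, pow_one] at h2
    exact ht2 h2
  obtain ⟨m, hm⟩ := Nat.exists_eq_succ_of_ne_zero h3
  refine ⟨t ^ 2 ^ m, ?_, ?_, ?_⟩
  · exact Nat.find_min hex (by rw [← hn, hm]; exact Nat.lt_succ_self m)
  · rw [← pow_add]
    have e : 2 ^ m + 2 ^ m = 2 ^ n := by rw [hm, pow_succ]; ring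
    rw [e]
    exact h2
  · have h4 : t ^ 2 ^ m ∈ normalizer (H : Set P) := pow_mem ht1 _
    exact mem_normalizer_iff.1 h4

variable {Y : Type u} [Group Y] {V : Type u} [AddCommGroup V] [DistribMulAction Y V]

/-- a member with (MU) -/
structure MemU (B : Subgroup Y) (E F : AddSubgroup V) : Prop extends Mem B E F where
  mu : ∀ B₀ ≤ B, Nat.card B₀ * Nat.card ↥(fx V B₀ ⊓ E) ≤ Nat.card E

theorem MemU.conj {B : Subgroup Y} {E F : AddSubgroup V} (h : MemU B E F) (y : Y) :
    MemU (MulAut.conj y • B) (y • E) (y • F) := by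
  have key : ∀ {b : Y}, b ∈ MulAut.conj y • B → ∃ c ∈ B, b = y * c * y⁻¹ := by
    intro b hb
    rw [mem_conj] at hb
    exact ⟨_, hb, by group⟩
  have hs : ∀ (c : Y) (v : V), y⁻¹ • (y * c * y⁻¹) • v = c • y⁻¹ • v := by
    intro c v
    rw [← mul_smul, ← mul_smul]
    congr 1
    group
  exact
    { comm := by
        intro b hb b' hb'
        obtain ⟨c, hc, rfl⟩ := key hb
        obtain ⟨c', hc', rfl⟩ := key hb'
        have e1 : y * c * y⁻¹ * (y * c' * y⁻¹) = y * (c * c') * y⁻¹ := by group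
        rw [e1, h.comm c hc c' hc']
        group
      sq := by
        intro b hb
        obtain ⟨c, hc, rfl⟩ := key hb
        have e1 : y * c * y⁻¹ * (y * c * y⁻¹) = y * (c * c) * y⁻¹ := by group
        rw [e1, h.sq c hc]
        group
      FE := by
        intro v hv
        rw [mem_smul_as] at hv ⊢
        exact h.FE hv
      VB := by
        intro b hb v
        obtain ⟨c, hc, rfl⟩ := key hb
        rw [mem_smul_as, smul_add, hs]
        exact h.VB c hc _
      EB := by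
        intro b hb e he
        obtain ⟨c, hc, rfl⟩ := key hb
        rw [mem_smul_as] at he ⊢
        rw [smul_add, hs]
        exact h.EB c hc _ he
      FB := by
        intro b hb f hf
        obtain ⟨c, hc, rfl⟩ := key hb
        rw [mem_smul_as] at hf
        have h1 := h.FB c hc _ hf
        rw [← hs, smul_left_cancel_iff] at h1
        exact h1
      CB := by
        intro v hv
        rw [mem_smul_as]
        apply h.CB
        intro c hc
        rw [← hs, hv _ (conj_mem_conj hc)]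
      inj := by
        intro w hw b hb hbw
        obtain ⟨c, hc, rfl⟩ := key hb
        rw [mem_smul_as] at hw hbw
        rw [smul_add, hs] at hbw
        rw [h.inj _ hw c hc hbw]
        group
      surj := by
        intro w hw e he
        rw [mem_smul_as] at hw he
        obtain ⟨c, hc, h1⟩ := h.surj _ hw _ he
        refine ⟨_, conj_mem_conj hc, ?_⟩
        rw [mem_smul_as, smul_add, smul_add, hs]
        exact h1
      ne := by
        obtain ⟨v, hv⟩ := h.ne
        refine ⟨y • v, ?_⟩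
        rwa [mem_smul_as, inv_smul_smul]
      mu := by
        intro B₀ hB₀
        have h1 := h.mu (MulAut.conj y⁻¹ • B₀) (by
          rw [conj_le_iff, inv_inv]
          exact hB₀)
        have h2 : Nat.card (MulAut.conj y⁻¹ • B₀ : Subgroup Y) = Nat.card B₀ :=
          (Nat.card_congr (Subgroup.equivSMul (MulAut.conj y⁻¹) B₀).toEquiv).symm
        have h3 : Nat.card ↥(fx V (MulAut.conj y⁻¹ • B₀) ⊓ E) = Nat.card ↥(fx V B₀ ⊓ y • E) := by
          rw [← card_smul_as y (fx V (MulAut.conj y⁻¹ • B₀) ⊓ E)]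
          congr 2
          ext v
          rw [mem_smul_as, AddSubgroup.mem_inf, AddSubgroup.mem_inf, mem_smul_as]
          refine and_congr_left fun _ => ?_
          constructor
          · intro hv b hb
            have h4 := hv (y⁻¹ * b * y⁻¹⁻¹) (conj_mem_conj hb)
            rw [inv_inv, mul_smul, mul_smul, smul_inv_smul, smul_left_cancel_iff] at h4
            exact h4
          · intro hv b hb
            rw [mem_conj, inv_inv] at hb
            have h4 := hv _ hb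
            rw [mul_smul, mul_smul] at h4
            rw [eq_inv_smul_iff]
            exact h4
        rw [h2, h3] at h1
        rwa [card_smul_as] }

/-- coordinates -/
structure Co {L : Subgroup Y} (Q : Subgroup L) (F : AddSubgroup V) (z : V) (K : Type) [Field K]
    (e : ↥(fx V Q) ≃+ (Fin 2 → K)) : Prop where
  card : Nat.card K = Nat.card ↥(fx V Q ⊓ F)
  memF : ∀ v : ↥(fx V Q), (v : V) ∈ F ↔ e v 1 = 0
  act : ∀ l : L, ∃ s : Matrix (Fin 2) (Fin 2) K, ∀ v w : ↥(fx V Q), (w : V) = l • (v : V) → e w = s.mulVec (e v)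
  ez : ∀ v : ↥(fx V Q), (v : V) = z → e v = ![1, 0]

/-- the action of `y ∈ N_Y(X)` on `X` -/
def gy {L : Subgroup Y} {Q : Subgroup L} {y : Y} (hy : y ∈ NX L V Q) : ↥(fx V Q) →+ ↥(fx V Q) where
  toFun v := ⟨y • (v : V), NX_smul hy v.2⟩
  map_zero' := Subtype.ext (smul_zero y)
  map_add' v w := Subtype.ext (smul_add y (v : V) (w : V))

theorem gy_apply {L : Subgroup Y} {Q : Subgroup L} {y : Y} (hy : y ∈ NX L V Q) (v : ↥(fx V Q)) :
    (gy hy v : V) = y • (v : V) := rfl

/-- ... in coordinates -/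
def ge {L : Subgroup Y} {Q : Subgroup L} {K : Type} [Field K] (e : ↥(fx V Q) ≃+ (Fin 2 → K)) {y : Y}
    (hy : y ∈ NX L V Q) : (Fin 2 → K) →+ (Fin 2 → K) :=
  (e.toAddMonoidHom.comp (gy hy)).comp e.symm.toAddMonoidHom

theorem ge_apply {L : Subgroup Y} {Q : Subgroup L} {K : Type} [Field K] (e : ↥(fx V Q) ≃+ (Fin 2 → K)) {y : Y}
    (hy : y ∈ NX L V Q) (v : Fin 2 → K) : ge e hy v = e (gy hy (e.symm v)) := rfl

theorem ge_e {L : Subgroup Y} {Q : Subgroup L} {K : Type} [Field K] (e : ↥(fx V Q) ≃+ (Fin 2 → K)) {y : Y}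
    (hy : y ∈ NX L V Q) (v : ↥(fx V Q)) : ge e hy (e v) = e (gy hy v) := by
  rw [ge_apply, AddEquiv.symm_apply_apply]

/-- `y` is trivial on `X` -/
theorem ge_triv {L : Subgroup Y} {Q : Subgroup L} {K : Type} [Field K] (e : ↥(fx V Q) ≃+ (Fin 2 → K)) {y : Y}
    (hy : y ∈ NX L V Q) : (∀ v, ge e hy v = v) ↔ ∀ x ∈ fx V Q, y • x = x := by
  constructor
  · intro h1 x hx
    have h2 := h1 (e ⟨x, hx⟩)
    rw [ge_e] at h2
    exact congrArg Subtype.val (e.injective h2)
  · intro h1 v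
    rw [ge_apply]
    have : gy hy (e.symm v) = e.symm v := Subtype.ext (h1 _ (e.symm v).2)
    rw [this, AddEquiv.apply_symm_apply]

namespace Hyp0

variable {T : Sylow 2 Y} {M L : Subgroup Y} {A Q L₁ : Subgroup L} {R : Sylow 2 L} {E F : AddSubgroup V}
  {z : V} (h : Hyp0 T M L A Q L₁ R E F z)
include h

theorem exists_co [Finite Y] [Finite V] :
    ∃ (K : Type) (_ : Field K) (_ : Fintype K) (_ : CharP K 2) (e : ↥(fx V Q) ≃+ (Fin 2 → K)), Co Q F z K e := by
  obtain ⟨K, i1, i2, i3, e, h1, h2, h3, h4, h5⟩ := exists_coord' h.loc h.beta h.C0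
  refine ⟨K, i1, i2, i3, e, h1, h2, fun l => ?_, fun v hv => ?_⟩
  · obtain ⟨s, hs⟩ := h3 l
    refine ⟨s.1, fun v w hw => ?_⟩
    rw [← hs v]
    congr 1
    exact Subtype.ext hw
  · rw [← h5]
    congr 1
    exact Subtype.ext hv

theorem line [Finite Y] [Finite V] {K : Type} [Field K] {e : ↥(fx V Q) ≃+ (Fin 2 → K)} (hc : Co Q F z K e)
    {y : Y} (hy : y ∈ NX L V Q) (v : Fin 2 → K) (k : K) : ∃ k' : K, ge e hy (k • v) = k' • ge e hy v := by
  by_cases hv : v = 0
  · exact ⟨0, by rw [hv, smul_zero, zero_smul, map_zero]⟩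
  set x := e.symm v with hx
  have hev : e x = v := e.apply_symm_apply v
  set x' := e.symm (k • v) with hx'
  have hev' : e x' = k • v := e.apply_symm_apply _
  have hx0 : (x : V) ≠ 0 := by
    intro h1
    apply hv
    have : x = 0 := Subtype.ext h1
    rw [← hev, this, map_zero]
  obtain ⟨l, hl⟩ := h.trans x.2 hx0
  obtain ⟨s, hs⟩ := hc.act l⁻¹
  have hlx : l⁻¹ • (x : V) = z := by rw [← hl, inv_smul_smul]
  -- `l⁻¹ x' ∈ X₁`
  have h1 : e ⟨l⁻¹ • (x' : V), h.loc.smul_X _ x'.2⟩ = ![k, 0] := by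
    rw [hs x' _ rfl, hev', Matrix.mulVec_smul, ← hev, ← hs x ⟨l⁻¹ • (x : V), h.loc.smul_X _ x.2⟩ rfl,
      hc.ez _ hlx, smul_vec, mul_one, mul_zero]
  have h2 : l⁻¹ • (x' : V) ∈ fx V Q ⊓ F :=
    ⟨h.loc.smul_X _ x'.2, (hc.memF ⟨l⁻¹ • (x' : V), h.loc.smul_X _ x'.2⟩).2 (by rw [h1]; rfl)⟩
  have h3 : l⁻¹ • (x : V) ∈ fx V Q ⊓ F := by rw [hlx]; exact h.loc.z_mem
  obtain ⟨m, hm⟩ := h.comp hy l
  have h4 := hm _ h2
  have h5 := hm _ h3
  obtain ⟨sm, hsm⟩ := hc.act m
  set u : ↥(fx V Q) := ⟨m⁻¹ • (y • (x : V)), h5.1⟩ with hu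
  set u' : ↥(fx V Q) := ⟨m⁻¹ • (y • (x' : V)), h4.1⟩ with hu'
  have h6 : e (gy hy x) = sm.mulVec (e u) := hsm u _ (by rw [gy_apply, hu, smul_inv_smul])
  have h7 : e (gy hy x') = sm.mulVec (e u') := hsm u' _ (by rw [gy_apply, hu', smul_inv_smul])
  have hu1 : e u 1 = 0 := (hc.memF u).1 h5.2
  have hu'1 : e u' 1 = 0 := (hc.memF u').1 h4.2
  have hu0 : e u 0 ≠ 0 := by
    intro h8
    have h9 : e u = 0 := by
      ext i
      fin_cases i
      · exact h8
      · exact hu1
    rw [map_eq_zero_iff e e.injective] at h9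
    have h10 : m⁻¹ • (y • (x : V)) = 0 := congrArg Subtype.val h9
    rw [smul_eq_zero_iff_eq, smul_eq_zero_iff_eq] at h10
    exact hx0 h10
  refine ⟨e u' 0 / e u 0, ?_⟩
  have h8 : e u' = (e u' 0 / e u 0) • e u := by
    ext i
    fin_cases i
    · change e u' 0 = e u' 0 / e u 0 * e u 0
      rw [div_mul_cancel₀ _ hu0]
    · change e u' 1 = e u' 0 / e u 0 * e u 1
      rw [hu1, hu'1, mul_zero]
  rw [ge_apply, ge_apply, ← hx, ← hx', h6, h7, h8, Matrix.mulVec_smul, ← h8]

theorem semi [Finite Y] [Finite V] {K : Type} [Field K] {e : ↥(fx V Q) ≃+ (Fin 2 → K)} (hc : Co Q F z K e)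
    {y : Y} (hy : y ∈ NX L V Q) (hyz : y • z = z) :
    ∃ (α : K →+* K) (β δ : K), β ≠ 0 ∧ ∀ x y', ge e hy ![x, y'] = ![α x + δ * α y', β * α y'] := by
  haveI : Finite K := by
    have : Finite (Fin 2 → K) := Finite.of_equiv _ e.toEquiv
    exact Finite.of_injective (fun k : K => (fun _ : Fin 2 => k)) fun a b hab => congrFun hab 0
  apply B0.semi (ge e hy) _ (h.line hc hy)
  · have h1 : ![1, 0] = e ⟨z, h.loc.z_mem.1⟩ := (hc.ez _ rfl).symm
    rw [h1, ge_e]
    congr 1
    exact Subtype.ext hyz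
  · intro v w hvw
    rw [ge_apply, ge_apply] at hvw
    have h1 := congrArg Subtype.val (e.injective hvw)
    rw [gy_apply, gy_apply, smul_left_cancel_iff] at h1
    exact e.symm.injective (Subtype.ext h1)

theorem fin_K [Finite V] {K : Type} [Field K] (e : ↥(fx V Q) ≃+ (Fin 2 → K)) : Finite K := by
  have : Finite (Fin 2 → K) := Finite.of_equiv _ e.toEquiv
  exact Finite.of_injective (fun k : K => (fun _ : Fin 2 => k)) fun a b hab => congrFun hab 0

/-- **(S1)** -/
theorem s1 [Finite Y] [Finite V] {P : Subgroup Y} {E' F' : AddSubgroup V} (hm : MemU P E' F')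
    (hP : ∀ p ∈ P, p ∈ NX L V Q ∧ p • z = z) (hcard : Nat.card ↥(fx V Q) ≤ Nat.card P) :
    ∀ p ∈ P, ∀ x ∈ fx V Q ⊓ F, p • x = x := by
  classical
  obtain ⟨K, i1, i2, i3, e, hc⟩ := h.exists_co
  haveI : Finite K := h.fin_K e
  -- `X ≤ E'`
  have hXE : fx V Q ≤ E' := by
    intro x hx
    by_contra hxE
    let f : Option P → ↥(fx V Q) := fun p => p.elim 0 fun p => ⟨(p : Y) • x, NX_smul (hP p p.2).1 hx⟩
    have hx0 : x ≠ 0 := fun h1 => hxE (h1 ▸ E'.zero_mem)
    have hf : Function.Injective f := by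
      rintro (_ | p) (_ | p') hpp
      · rfl
      · exfalso
        have h1 : (0 : V) = (p' : Y) • x := congrArg Subtype.val hpp
        rw [eq_comm, smul_eq_zero_iff_eq] at h1
        exact hx0 h1
      · exfalso
        have h1 : (p : Y) • x = 0 := congrArg Subtype.val hpp
        rw [smul_eq_zero_iff_eq] at h1
        exact hx0 h1
      · have h1 : (p : Y) • x = (p' : Y) • x := congrArg Subtype.val hpp
        have h2 := hm.inj x hxE ((p' : Y)⁻¹ * p) (mul_mem (inv_mem p'.2) p.2) (by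
          rw [mul_smul, h1, inv_smul_smul, h.two]
          exact F'.zero_mem)
        congr 1
        apply Subtype.ext
        rw [inv_mul_eq_one] at h2
        exact h2.symm
    have h1 := Nat.card_le_card_of_injective f hf
    rw [Finite.card_option] at h1
    omega
  let g : P → ((Fin 2 → K) →+ (Fin 2 → K)) := fun p => ge e (hP p p.2).1
  have hg1 : ∀ v, g 1 v = v := by
    rw [ge_triv]
    intro x _
    exact one_smul Y x
  have hgm : ∀ p q v, g (p * q) v = g p (g q v) := by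
    intro p q v
    change e (gy _ (e.symm v)) = e (gy _ (e.symm (e (gy _ (e.symm v)))))
    rw [e.symm_apply_apply]
    congr 1
    exact Subtype.ext (mul_smul (p : Y) (q : Y) _)
  have key := triv_of_mu g hg1 hgm (fun p => Subtype.ext (hm.sq p p.2))
    (fun p => h.semi hc (hP p p.2).1 (hP p p.2).2) (by
      -- (MU)
      let P₀ : Subgroup Y :=
        { carrier := {p | p ∈ P ∧ ∀ x ∈ fx V Q, p • x = x}
          mul_mem' := fun {a b} ha hb => ⟨mul_mem ha.1 hb.1, fun x hx => by rw [mul_smul, hb.2 x hx, ha.2 x hx]⟩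
          one_mem' := ⟨one_mem _, fun x _ => one_smul Y x⟩
          inv_mem' := fun {a} ha => ⟨inv_mem ha.1, fun x hx => by rw [inv_smul_eq_iff, ha.2 x hx]⟩ }
      have h1 := hm.mu P₀ (fun p hp => hp.1)
      rw [hm.card_E h.two] at h1
      have h2 : fx V Q ⊔ F' ≤ fx V P₀ ⊓ E' := by
        refine sup_le (le_inf (fun x hx p hp => hp.2 x hx) hXE) (le_inf ?_ hm.FE)
        intro f hf p hp
        exact hm.FB p hp.1 f hf
      have h3 : Nat.card ↥(fx V Q ⊔ F') ≤ Nat.card ↥(fx V P₀ ⊓ E') :=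
        Nat.card_le_card_of_injective _ (AddSubgroup.inclusion_injective h2)
      have h4 := card_sup_as (fx V Q) F'
      have h5 : Nat.card {p : P | ∀ v, g p v = v} = Nat.card P₀ := by
        apply Nat.card_congr
        exact
          { toFun := fun p => ⟨p.1.1, p.1.2, (ge_triv e _).1 p.2⟩
            invFun := fun p => ⟨⟨p.1, p.2.1⟩, (ge_triv e _).2 p.2.2⟩
            left_inv := fun p => rfl
            right_inv := fun p => rfl }
      have h6 : Nat.card {v : Fin 2 → K | ∀ p, g p v = v} = Nat.card ↥(fx V Q ⊓ F') := by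
        apply Nat.card_congr
        exact
          { toFun := fun v => ⟨(e.symm v.1 : V), (e.symm v.1).2, hm.CB _ fun p hp => by
              have h7 := v.2 ⟨p, hp⟩
              have h8 : gy (hP p hp).1 (e.symm v.1) = e.symm v.1 := by
                apply e.injective
                rw [e.apply_symm_apply]
                exact h7
              exact congrArg Subtype.val h8⟩
            invFun := fun v => ⟨e ⟨v.1, v.2.1⟩, fun p => by
              change ge e _ _ = _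
              rw [ge_e]
              congr 1
              exact Subtype.ext (hm.FB p p.2 _ v.2.2)⟩
            left_inv := fun v => Subtype.ext (e.apply_symm_apply v.1)
            right_inv := fun v => Subtype.ext (by
              change ((e.symm (e ⟨v.1, v.2.1⟩) : ↥(fx V Q)) : V) = v.1
              rw [e.symm_apply_apply]) }
      have h7 : Nat.card K ^ 2 = Nat.card ↥(fx V Q) := by
        rw [Nat.card_congr e.toEquiv, Nat.card_fun, Nat.card_fin]
      rw [h5, h6, h7]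
      have hF0 : 0 < Nat.card F' := Nat.card_pos
      apply Nat.le_of_mul_le_mul_left _ hF0
      calc Nat.card F' * (Nat.card P₀ * Nat.card ↥(fx V Q))
          = Nat.card P₀ * (Nat.card ↥(fx V Q ⊔ F') * Nat.card ↥(fx V Q ⊓ F')) := by rw [h4]; ring
        _ ≤ Nat.card P₀ * (Nat.card ↥(fx V P₀ ⊓ E') * Nat.card ↥(fx V Q ⊓ F')) :=
          Nat.mul_le_mul_left _ (Nat.mul_le_mul_right _ h3)
        _ = Nat.card P₀ * Nat.card ↥(fx V P₀ ⊓ E') * Nat.card ↥(fx V Q ⊓ F') := by ring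
        _ ≤ Nat.card F' * Nat.card P * Nat.card ↥(fx V Q ⊓ F') := Nat.mul_le_mul_right _ h1
        _ = _ := by ring)
  intro p hp x hx
  have h1 := key ⟨p, hp⟩ (e ⟨x, hx.1⟩ 0)
  have h2 : e ⟨x, hx.1⟩ = ![e ⟨x, hx.1⟩ 0, 0] := by
    have h3 := vec_eq (e ⟨x, hx.1⟩)
    rw [(hc.memF ⟨x, hx.1⟩).1 hx.2] at h3
    exact h3
  rw [← h2] at h1
  change ge e _ (e ⟨x, hx.1⟩) = _ at h1
  rw [ge_e] at h1
  exact congrArg Subtype.val (e.injective h1)

/-- **(S2)** -/
theorem s2 [Finite Y] [Finite V] {p : Y} (hp : p ∈ T) (hpX : p ∈ NX L V Q)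
    (hp1 : ∀ x ∈ fx V Q ⊓ F, p • x = x) :
    (∀ x ∈ fx V Q, p • x + x ∈ fx V Q ⊓ F) ∧
      ∀ v ∈ fx V Q, v ∉ F → p • v = v → ∀ x ∈ fx V Q, p • x = x := by
  obtain ⟨K, i1, i2, i3, e, hc⟩ := h.exists_co
  haveI : Finite K := h.fin_K e
  obtain ⟨α, β, δ, hβ, hg⟩ := h.semi hc hpX (h.zT p hp)
  have hα : ∀ x, α x = x := by
    intro x
    have h1 : (e.symm ![x, 0] : V) ∈ F := (hc.memF _).2 (by rw [e.apply_symm_apply]; rfl)
    have h2 : gy hpX (e.symm ![x, 0]) = e.symm ![x, 0] := Subtype.ext (hp1 _ ⟨(e.symm ![x, 0]).2, h1⟩)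
    have h3 := hg x 0
    rw [ge_apply, h2, e.apply_symm_apply] at h3
    have h4 := (vec_inj h3).1
    rw [map_zero, mul_zero, add_zero] at h4
    exact h4.symm
  -- `β = 1`
  have hβ1 : β = 1 := by
    obtain ⟨n, hn⟩ := T.2 ⟨p, hp⟩
    have hn' : p ^ 2 ^ n = 1 := congrArg Subtype.val hn
    have hk : ∀ (k : ℕ) (w : ↥(fx V Q)), (w : V) = p ^ k • (e.symm ![0, 1] : V) → e w 1 = β ^ k := by
      intro k
      induction k with
      | zero =>
        intro w hw
        have : w = e.symm ![0, 1] := Subtype.ext (by rw [hw, pow_zero, one_smul])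
        rw [this, e.apply_symm_apply, pow_zero]; rfl
      | succ k ih =>
        intro w hw
        have hw' : p ^ k • (e.symm ![0, 1] : V) ∈ fx V Q := NX_smul (pow_mem hpX k) (e.symm ![0, 1]).2
        have h1 : w = gy hpX ⟨_, hw'⟩ := Subtype.ext (by rw [gy_apply, hw, pow_succ', mul_smul])
        rw [h1, ← ge_e, vec_eq (e ⟨_, hw'⟩), hg, pow_succ', hα, hα]
        change β * e ⟨_, hw'⟩ 1 = _
        rw [ih _ rfl]
    have h1 := hk (2 ^ n) (e.symm ![0, 1]) (by rw [hn', one_smul])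
    rw [e.apply_symm_apply] at h1
    have h3 : β ^ 2 ^ n = 1 := h1.symm
    have h4 : (β - 1) ^ 2 ^ n = 0 := by
      rw [sub_pow_char_pow, one_pow, h3, sub_self]
    exact sub_eq_zero.1 (pow_eq_zero_iff (pow_ne_zero n two_ne_zero) |>.1 h4)
  have hg' : ∀ x y, ge e hpX ![x, y] = ![x + δ * y, y] := by
    intro x y
    rw [hg, hα, hα, hβ1, one_mul]
  constructor
  · intro x hx
    refine ⟨(fx V Q).add_mem (NX_smul hpX hx) hx, ?_⟩
    have h1 := (hc.memF (gy hpX ⟨x, hx⟩ + ⟨x, hx⟩)).2 (by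
      rw [map_add, ← ge_e, vec_eq (e ⟨x, hx⟩), hg', add_vec]
      change e ⟨x, hx⟩ 1 + e ⟨x, hx⟩ 1 = 0
      exact CharTwo.add_self_eq_zero _)
    exact h1
  · intro v hv hvF hpv
    have h1 : e ⟨v, hv⟩ 1 ≠ 0 := fun h2 => hvF ((hc.memF ⟨v, hv⟩).2 h2)
    have h2 : gy hpX ⟨v, hv⟩ = ⟨v, hv⟩ := Subtype.ext hpv
    have h3 : ge e hpX (e ⟨v, hv⟩) = e ⟨v, hv⟩ := by rw [ge_e, h2]
    rw [vec_eq (e ⟨v, hv⟩), hg'] at h3
    have h4 := (vec_inj h3).1
    have h5 : δ = 0 := by
      have h6 : δ * e ⟨v, hv⟩ 1 = 0 := by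
        have := h4
        rwa [add_eq_left] at this
      exact (mul_eq_zero.1 h6).resolve_right h1
    rw [← ge_triv e hpX]
    intro w
    rw [vec_eq w, hg', h5, zero_mul, add_zero]

end Hyp0

/-- the 2-element `t` -/
structure Tk (T : Sylow 2 Y) (L : Subgroup Y) (V : Type u) [AddCommGroup V] [DistribMulAction Y V]
    (Q : Subgroup L) (t : Y) : Prop where
  tT : t ∈ T
  tX : t ∉ NX L V Q
  tt : t * t ∈ NX L V Q
  cj : ∀ p ∈ T, p ∈ NX L V Q → t * p * t⁻¹ ∈ NX L V Q
  cj' : ∀ p ∈ T, p ∈ NX L V Q → t⁻¹ * p * t ∈ NX L V Q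

namespace Hyp0

variable {T : Sylow 2 Y} {M L : Subgroup Y} {A Q L₁ : Subgroup L} {R : Sylow 2 L} {E F : AddSubgroup V}
  {z : V} (h : Hyp0 T M L A Q L₁ R E F z)
include h

theorem not_T_le [Finite Y] [Finite V] : ¬ (T : Subgroup Y) ≤ NX L V Q := by
  intro h1
  by_cases h2 : NX L V Q = ⊤
  · have h3 := h.irr (fx V Q) (fun y w hw => NX_smul (by rw [h2]; exact mem_top y) hw) h.beta.XE
    have h4 : z ∈ fx V Q := h.loc.z_mem.1
    rw [h3, AddSubgroup.mem_bot] at h4
    exact h.z_ne h4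
  · exact h.LM (h.L_le_NX.trans (h.uniqM _ h1 h2))

theorem exists_t [Finite Y] [Finite V] : ∃ t, Tk T L V Q t := by
  obtain ⟨⟨t, ht⟩, h1, h2, h3⟩ := exists_sq T.2 ((NX L V Q).subgroupOf T) (by
    rw [Ne, subgroupOf_eq_top]
    exact h.not_T_le)
  refine ⟨t, ht, fun h4 => h1 (mem_subgroupOf.2 h4), mem_subgroupOf.1 h2, ?_, ?_⟩
  · intro p hp hpX
    exact mem_subgroupOf.1 ((h3 ⟨p, hp⟩).1 (mem_subgroupOf.2 hpX))
  · intro p hp hpX
    have h5 : (⟨t, ht⟩ : (T : Subgroup Y)) * ⟨t⁻¹ * p * t, mul_mem (mul_mem (inv_mem ht) hp) ht⟩ * (⟨t, ht⟩)⁻¹ ∈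
        (NX L V Q).subgroupOf T := by
      rw [mem_subgroupOf]
      change t * (t⁻¹ * p * t) * t⁻¹ ∈ _
      have e : t * (t⁻¹ * p * t) * t⁻¹ = p := by group
      rwa [e]
    exact mem_subgroupOf.1 ((h3 _).2 h5)

end Hyp0

end Cfsg.Agent.Omega.NO1.B0
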