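import Cfsg.Agent.Omega.NO1.B0.Six

/-!
# THEOREM B0 (bb OMEGA 18835, helper970): (7)
-/

set_option autoImplicit false
set_option linter.unusedSectionVars false
set_option linter.style.haveILetI false

namespace Cfsg.Agent.Omega.NO1.B0

open Subgroup Cfsg.Agent.Omega.NO1.AB
open scoped Pointwise

universe u

variable {Y : Type u} [Group Y] {V : Type u} [AddCommGroup V] [DistribMulAction Y V]

namespace Hyp

variable {T : Sylow 2 Y} {M L : Subgroup Y} {A Q L₁ : Subgroup L} {R : Sylow 2 L} {E F : AddSubgroup V}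
  {z : V} (h : Hyp T M L A Q L₁ R E F z)
include h

section t

variable {t : Y} (k : Tk T L V Q t)
include k

theorem X1 [Finite Y] [Finite V] : (fx V Q : AddSubgroup V) ⊓ F = F := inf_eq_right.2 (h.six k)

theorem cF' [Finite Y] [Finite V] : Nat.card F = E.index := by
  rw [← h.ca k, h.X1 k]

theorem tF' [Finite Y] [Finite V] : t • F = F := by
  have := h.tX1 k
  rwa [h.X1 k] at this

theorem cE' [Finite Y] [Finite V] : Nat.card E = E.index ^ 3 := by
  rw [h.cE k, h.cF' k, h.ca k]; ring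

theorem cV' [Finite Y] [Finite V] : Nat.card V = E.index ^ 4 := by
  rw [h.cV k, h.cF' k, h.ca k]; ring

theorem supE' [Finite Y] [Finite V] : E = (fx V Q : AddSubgroup V) ⊔ t • (fx V Q : AddSubgroup V) := by
  symm
  apply eq_of_le_as
  · exact sup_le h.beta.XE fun x hx => h.X'_le_E k hx
  · rw [h.cU k, h.cE' k, h.ca k]

theorem tE' [Finite Y] [Finite V] : t • E = E := by
  apply eq_of_le_as
  · intro x hx
    rw [mem_smul_as, h.supE' k, AddSubgroup.mem_sup] at hx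
    obtain ⟨y, hy, w, hw, he⟩ := hx
    have hx' : x = t • y + t • w := by rw [← smul_add, he, smul_inv_smul]
    rw [hx', h.supE' k]
    refine AddSubgroup.add_mem _ (AddSubgroup.mem_sup_right (smul_mem_smul_as hy)) (AddSubgroup.mem_sup_left ?_)
    rw [mem_smul_as] at hw
    have h1 := NX_smul k.tt hw
    rwa [mul_smul, smul_inv_smul] at h1
  · exact (card_smul_as t E).ge

/-- `C_D(X') = 1` -/
theorem D0 [Finite Y] [Finite V] {d : Y} (hd : d ∈ Dx Y h.two (fx V Q : AddSubgroup V))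
    (hdX : ∀ x ∈ t • (fx V Q : AddSubgroup V), d • x = x) : d = 1 := by
  have hdE : ∀ x ∈ E, d • x = x := by
    intro x hx
    rw [h.supE' k, AddSubgroup.mem_sup] at hx
    obtain ⟨y, hy, w, hw, rfl⟩ := hx
    rw [smul_add, hd.1 y hy, hdX w hw]
  have key : ∀ l : L, l ∉ L₁ → ∀ v : V, l⁻¹ • (d • v + v) ∈ fx V Q ⊓ F := by
    intro l hl v
    -- `l⁻¹ v = x + e`, `x ∈ X'`, `l e ∈ E`
    obtain ⟨x, hx, he⟩ := h.sup_top k (h.inv_nmem hl) (l⁻¹ • v)
    rw [inv_inv, smul_add, smul_inv_smul] at he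
    have h1 : d • v + v = d • (l • x) + l • x := by
      have h2 := hdE _ he
      rw [smul_add] at h2
      have h3 : d • v + v + (d • (l • x) + l • x) = (d • v + d • (l • x)) + (v + l • x) := by abel
      rw [h2, h.two] at h3
      exact h.eq_of_add h3
    have hc : (l : Y)⁻¹ * d * (l : Y) ∈ Dx Y h.two (fx V Q : AddSubgroup V) := by
      have := h.D_conj (n := (l : Y)⁻¹) (inv_mem (h.AN l)) hd
      rwa [inv_inv] at this
    have h4 := (h.s3 k (h.D_le_T hc) (h.D_le_NX hc) fun x hx => hc.1 x hx.1).1 x hx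
    have h5 : l⁻¹ • (d • (l • x) + l • x) = ((l : Y)⁻¹ * d * (l : Y)) • x + x := by
      rw [smul_add, inv_smul_smul, mul_smul, mul_smul]
      rfl
    rw [h1, h5]
    exact h4
  apply h.faith
  intro v
  obtain ⟨l, hl⟩ := exists_out h.loc h.beta
  obtain ⟨a, ha, hal, hal'⟩ := h.second k hl
  have h1 := key l hl v
  have h2 := key (a * l) hal v
  have h3 : d • v + v ∈ fx V (⊤ : Subgroup L) := h.loc.fix_all hal' h1.2 h2.2
  rw [h.C0, AddSubgroup.mem_bot] at h3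
  exact h.eq_of_add h3

theorem cardD [Finite Y] [Finite V] : Nat.card (Dx Y h.two (fx V Q : AddSubgroup V)) ≤ E.index := by
  obtain ⟨D₀, hD₀, hc⟩ := h.count_X' k (P := Dx Y h.two (fx V Q : AddSubgroup V))
    (fun p hp => ⟨h.D_le_T hp, h.D_le_NX hp⟩) (fun p hp x hx => hp.1 x hx.1)
  have h1 : D₀ = ⊥ := by
    rw [eq_bot_iff]
    intro d hd
    rw [mem_bot]
    exact h.D0 k ((hD₀ d).1 hd).1 ((hD₀ d).1 hd).2
  rwa [h1, Subgroup.card_bot, mul_one, h.ca k] at hc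

/-- `Q ≤ D` -/
theorem Q_le_D [Finite Y] [Finite V] {q : L} (hq : q ∈ Q) : (q : Y) ∈ Dx Y h.two (fx V Q : AddSubgroup V) := by
  refine ⟨fun x hx => hx q hq, fun v => ?_⟩
  obtain ⟨l, hl⟩ := exists_out h.loc h.beta
  have h1 : ∀ l : L, ∀ x ∈ t • (fx V Q : AddSubgroup V), q • (l • x) + l • x ∈ fx V Q := by
    intro l x hx
    have hq' : l⁻¹ * q * l ∈ Q := by simpa using h.loc.Qn.conj_mem q hq l⁻¹
    have h2 := ((h.s3Q k hq').1 x hx).1
    have h3 := h.Xmem (l := l) h2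
    rw [smul_add, ← mul_smul] at h3
    have e : l * (l⁻¹ * q * l) = q * l := by group
    rwa [e, mul_smul] at h3
  have hE : ∀ e ∈ E, q • e + e ∈ fx V Q := by
    intro e he
    rw [h.supE' k, AddSubgroup.mem_sup] at he
    obtain ⟨y, hy, w, hw, rfl⟩ := he
    have e1 : q • (y + w) + (y + w) = (q • y + y) + (q • w + w) := by rw [smul_add]; abel
    rw [e1, hy q hq, h.two, zero_add]
    have := h1 1 w hw
    rwa [one_smul] at this
  obtain ⟨x, hx, he⟩ := h.sup_top k (h.inv_nmem hl) (l⁻¹ • v)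
  rw [inv_inv, smul_add, smul_inv_smul] at he
  have h2 := hE _ he
  have h3 := h1 l x hx
  have e1 : q • v + v = (q • (v + l • x) + (v + l • x)) + (q • (l • x) + l • x) := by
    rw [smul_add]
    have : q • v + q • l • x + (v + l • x) + (q • l • x + l • x) =
      q • v + v + (q • l • x + q • l • x) + (l • x + l • x) := by abel
    rw [this, h.two, h.two, add_zero, add_zero]
  change q • v + v ∈ fx V Q
  rw [e1]
  exact (fx V Q).add_mem h2 h3

theorem Dcard_B [Finite Y] [Finite V] : (A ⊓ Q).map L.subtype = Dx Y h.two (fx V Q : AddSubgroup V) := by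
  apply eq_of_le_of_card_ge
  · rintro _ ⟨b, hb, rfl⟩
    exact h.Q_le_D k hb.2
  · have h1 : Nat.card ↥((A ⊓ Q).map L.subtype) = Nat.card ↥(A ⊓ Q) :=
      Nat.card_congr ((A ⊓ Q).equivMapOfInjective _ L.subtype_injective).symm.toEquiv
    rw [h1, h.cB k, h.ca k]
    exact h.cardD k

theorem DD' [Finite Y] [Finite V] {y : Y} (hy : y ∈ Dx Y h.two (fx V Q : AddSubgroup V)) :
    ∃ q ∈ A ⊓ Q, (q : Y) = y := by
  rw [← h.Dcard_B k] at hy
  obtain ⟨b, hb, h1⟩ := hy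
  exact ⟨b, hb, h1⟩

theorem QA' [Finite Y] [Finite V] : Q ≤ A := by
  intro q hq
  obtain ⟨b, hb, h1⟩ := h.DD' k (h.Q_le_D k hq)
  have : b = q := Subtype.ext h1
  rw [← this]
  exact hb.1

theorem AQ [Finite Y] [Finite V] : A ⊓ Q = Q := inf_eq_right.2 (h.QA' k)

theorem cQ' [Finite Y] [Finite V] : Nat.card Q = E.index := by
  rw [← h.AQ k, h.cB k, h.ca k]

theorem Qz' [Finite Y] [Finite V] {q : L} (hq : q ∈ Q) (l : L) : q * l = l * q := by
  obtain ⟨g, hg⟩ := exists_out h.loc h.beta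
  have h1 : (⊤ : Subgroup L) ≤ centralizer {q} := by
    rw [← h.loc.top_of hg]
    refine sup_le ?_ ?_
    · intro a ha
      rw [mem_centralizer_singleton_iff]
      exact h.loc.mem.comm a ha q (h.QA' k hq)
    · intro a ha
      rw [mem_conj] at ha
      rw [mem_centralizer_singleton_iff]
      have hq' : g⁻¹ * q * g ∈ A := h.QA' k (by simpa using h.loc.Qn.conj_mem q hq g⁻¹)
      have h2 := h.loc.mem.comm _ ha _ hq'
      have h3 : g * (g⁻¹ * a * g * (g⁻¹ * q * g)) * g⁻¹ = g * (g⁻¹ * q * g * (g⁻¹ * a * g)) * g⁻¹ := by rw [h2]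
      have e1 : g * (g⁻¹ * a * g * (g⁻¹ * q * g)) * g⁻¹ = a * q := by group
      have e2 : g * (g⁻¹ * q * g * (g⁻¹ * a * g)) * g⁻¹ = q * a := by group
      rwa [e1, e2] at h3
  have h2 := mem_centralizer_singleton_iff.1 (h1 (mem_top l))
  exact h2.symm

theorem Qfix' [Finite Y] [Finite V] {q : L} (hq : q ∈ Q) (hq1 : q ≠ 1) {v : V} (hv : q • v = v) :
    v ∈ fx V Q := by
  have hqA : q ∈ A ⊓ Q := ⟨h.QA' k hq, hq⟩
  have hvE : v ∈ E := by
    by_contra hvE
    exact hq1 (h.loc.mem.inj v hvE q hqA.1 (by rw [hv, h.two]; exact F.zero_mem))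
  have h1 := h.five_d k hqA hq1 hvE hv
  exact (sup_le le_rfl (h.six k)) h1

theorem QV' [Finite Y] [Finite V] {q : L} (hq : q ∈ Q) (v : V) : q • v + v ∈ fx V Q :=
  (h.Q_le_D k hq).2 v

/-- a subgroup and the image of `v ↦ [v, y]` -/
theorem surj_of [Finite V] {y : Y} {W : AddSubgroup V} (h1 : ∀ v : V, y • v = v → v ∈ W) (h2 : ∀ v : V, y • v + v ∈ W)
    (h3 : Nat.card W * Nat.card W ≤ Nat.card V) {x : V} (hx : x ∈ W) : ∃ v : V, y • v + v = x := by
  have h4 := AddSubgroup.card_mul_index (HE.dl (V := V) y).ker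
  rw [AddSubgroup.index_ker] at h4
  have h5 : (HE.dl (V := V) y).ker ≤ W := fun v hv => h1 v (h.eq_of_add hv)
  have h6 : (HE.dl (V := V) y).range ≤ W := by
    rintro _ ⟨v, rfl⟩
    exact h2 v
  have h7 := card_mono_as h5
  have h8 : (HE.dl (V := V) y).range = W := by
    apply eq_of_le_as h6
    have h9 : 0 < Nat.card W := Nat.card_pos
    apply Nat.le_of_mul_le_mul_left _ h9
    calc Nat.card W * Nat.card W ≤ Nat.card V := h3
      _ = Nat.card (HE.dl (V := V) y).ker * Nat.card (HE.dl (V := V) y).range := h4.symm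
      _ ≤ _ := Nat.mul_le_mul_right _ h7
  rw [← h8] at hx
  exact hx

theorem cX' [Finite Y] [Finite V] : Nat.card ↥(fx V Q : AddSubgroup V) = E.index ^ 2 := by
  rw [h.cX, h.ca k]

theorem Qsurj' [Finite Y] [Finite V] {q : L} (hq : q ∈ Q) (hq1 : q ≠ 1) {x : V} (hx : x ∈ fx V Q) :
    ∃ v : V, q • v + v = x := by
  apply h.surj_of k (y := (q : Y)) (fun v hv => h.Qfix' k hq hq1 hv) (fun v => h.QV' k hq v) _ hx
  rw [h.cX' k, h.cV' k]
  apply le_of_eq
  ring

theorem supXF [Finite Y] [Finite V] : (fx V Q : AddSubgroup V) ⊔ F = fx V Q := sup_eq_left.2 (h.six k)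

theorem exists_q [Finite Y] [Finite V] : ∃ q ∈ Q, q ≠ 1 := by
  obtain ⟨q, hq, hq1⟩ := h.A_ne k
  exact ⟨q, hq.2, hq1⟩

theorem exists_v [Finite Y] [Finite V] : ∃ v ∈ t • (fx V Q : AddSubgroup V), v ∈ E ∧ v ∉ fx V Q := by
  obtain ⟨v, hv, hvX⟩ := h.X'_not_le k
  exact ⟨v, hv, h.X'_le_E k hv, hvX⟩

/-- `[v, Q] = F` for `v ∈ E - X` -/
theorem onto' [Finite Y] [Finite V] {v : V} (hv : v ∈ E) (hvX : v ∉ fx V Q) {x : V} (hx : x ∈ F) :
    ∃ b ∈ Q, b • v + v = x := by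
  obtain ⟨b, hb, h1⟩ := h.onto k hv (by rwa [h.supXF k]) (x := x) (by rw [h.X1 k]; exact hx)
  exact ⟨b, hb.2, h1⟩

/-- `C_A(X') ≤ S^t` -/
theorem CAX [Finite Y] [Finite V] {s : L} (hs : s ∈ A) (hsX : ∀ x ∈ t • (fx V Q : AddSubgroup V), s • x = x) :
    ∃ q ∈ Q, (s : Y) = t * q * t⁻¹ := by
  by_cases hs1 : s = 1
  · exact ⟨1, one_mem _, by rw [hs1]; simp⟩
  -- `[E, s] = F`
  obtain ⟨v₀, -, hv₀E, hv₀X⟩ := h.exists_v k
  have h1 : ∀ x ∈ F, ∃ e ∈ E, s • e + e = x := by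
    intro x hx
    obtain ⟨b, hb, h2⟩ := h.onto' k hv₀E hv₀X hx
    obtain ⟨e', he', h3⟩ := pf_eq h.loc.mem h.two (by rw [h.cA2 k, h.ca k]) hs hs1 (h.QA' k hb) hv₀E
    exact ⟨e', he', by rw [← h3, h2]⟩
  -- `|C_E(s)| = a²`
  let ψ : E →+ V := (HE.dl (V := V) s).comp E.subtype
  have hψr : F ≤ ψ.range := by
    intro x hx
    obtain ⟨e, he, h2⟩ := h1 x hx
    exact ⟨⟨e, he⟩, h2⟩
  have h2 := AddSubgroup.card_mul_index ψ.ker
  rw [AddSubgroup.index_ker, h.cE' k] at h2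
  have h3 := card_mono_as hψr
  rw [h.cF' k] at h3
  have ha0 : 0 < E.index := Nat.pos_of_ne_zero AddSubgroup.index_ne_zero_of_finite
  have h4 : Nat.card ψ.ker ≤ E.index ^ 2 := by
    apply Nat.le_of_mul_le_mul_right _ ha0
    calc Nat.card ψ.ker * E.index ≤ Nat.card ψ.ker * Nat.card ψ.range := Nat.mul_le_mul_left _ h3
      _ = E.index ^ 3 := h2
      _ = E.index ^ 2 * E.index := by ring
  have h5 : t • (fx V Q : AddSubgroup V) = ψ.ker.map E.subtype := by
    apply eq_of_le_as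
    · intro x hx
      refine ⟨⟨x, h.X'_le_E k hx⟩, ?_, rfl⟩
      change s • x + x = 0
      rw [hsX x hx, h.two]
    · rw [card_smul_as, h.cX' k]
      have : Nat.card (ψ.ker.map E.subtype) = Nat.card ψ.ker :=
        Nat.card_congr (ψ.ker.equivMapOfInjective _ E.subtype_injective).symm.toEquiv
      rw [this]
      exact h4
  have h6 : ∀ v : V, s • v = v → v ∈ t • (fx V Q : AddSubgroup V) := by
    intro v hv
    have hvE : v ∈ E := by
      by_contra hvE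
      exact hs1 (h.loc.mem.inj v hvE s hs (by rw [hv, h.two]; exact F.zero_mem))
    rw [h5]
    refine ⟨⟨v, hvE⟩, ?_, rfl⟩
    change s • v + v = 0
    rw [hv, h.two]
  have h7 : t⁻¹ * (s : Y) * t ∈ Dx Y h.two (fx V Q : AddSubgroup V) := by
    have h8 : ∀ v : V, t • ((t⁻¹ * (s : Y) * t) • v) = s • (t • v) := by
      intro v
      rw [mul_smul, mul_smul, smul_inv_smul]
      rfl
    refine ⟨fun x hx => ?_, fun v => ?_⟩
    · have h9 := h8 x
      rw [hsX _ (smul_mem_smul_as hx)] at h9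
      exact smul_left_cancel _ h9
    · have h9 := h6 (s • (t • v) + t • v) (by
        rw [smul_add, ← mul_smul, h.loc.mem.sq s hs, one_smul, add_comm])
      rw [mem_smul_as, ← h8, ← smul_add, inv_smul_smul] at h9
      exact h9
  obtain ⟨q, hq, h8⟩ := h.DD' k h7
  refine ⟨q, hq.2, ?_⟩
  rw [h8]; group

/-- `S^t ≤ A` -/
theorem QtA' [Finite Y] [Finite V] {q : L} (hq : q ∈ Q) :
    ∃ b ∈ A, (b : Y) = t * q * t⁻¹ ∧ ∀ x ∈ t • (fx V Q : AddSubgroup V), b • x = x := by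
  obtain ⟨P₀, hP₀, hcard⟩ := h.count_X' k (P := A.map L.subtype) (by
    rintro _ ⟨a, ha, rfl⟩
    exact ⟨h.AT ha, h.AN a⟩) (by
    rintro _ ⟨a, ha, rfl⟩ x hx
    exact h.loc.mem.FB a ha x hx.2)
  have hA : Nat.card (A.map L.subtype) = Nat.card A :=
    Nat.card_congr (A.equivMapOfInjective _ L.subtype_injective).symm.toEquiv
  rw [hA, h.cA2 k, h.ca k, pow_two] at hcard
  have ha0 : 0 < E.index := Nat.pos_of_ne_zero AddSubgroup.index_ne_zero_of_finite
  have hcard' := Nat.le_of_mul_le_mul_left hcard ha0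
  have h1 : P₀ ≤ MulAut.conj t • Q.map L.subtype := by
    intro p hp
    obtain ⟨⟨a, ha, rfl⟩, hp1⟩ := (hP₀ p).1 hp
    obtain ⟨q, hq, h2⟩ := h.CAX k ha hp1
    change (a : Y) ∈ _
    rw [h2]
    exact conj_mem_conj ⟨q, hq, rfl⟩
  have h2 : P₀ = MulAut.conj t • Q.map L.subtype := by
    apply eq_of_le_of_card_ge h1
    have h3 : Nat.card (MulAut.conj t • Q.map L.subtype : Subgroup Y) = Nat.card Q := by
      rw [← Nat.card_congr (Subgroup.equivSMul (MulAut.conj t) (Q.map L.subtype)).toEquiv]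
      exact (Nat.card_congr (Q.equivMapOfInjective _ L.subtype_injective).toEquiv).symm
    rw [h3, h.cQ' k]
    exact hcard'
  have h3 : t * (q : Y) * t⁻¹ ∈ P₀ := by
    rw [h2]
    exact conj_mem_conj ⟨q, hq, rfl⟩
  obtain ⟨⟨b, hb, h4⟩, h5⟩ := (hP₀ _).1 h3
  refine ⟨b, hb, h4, fun x hx => ?_⟩
  have h6 := h5 x hx
  rw [← h4] at h6
  exact h6

theorem inf1' [Finite Y] [Finite V] {q q' : L} (hq : q ∈ Q) (hq' : q' ∈ Q) (he : (q : Y) = t * q' * t⁻¹) : q = 1 := by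
  by_contra hq1
  obtain ⟨v, hv, -, hvX⟩ := h.exists_v k
  apply hvX
  apply h.Qfix' k hq hq1
  obtain ⟨b, hb, h1, h2⟩ := h.QtA' k hq'
  have h3 : b = q := Subtype.ext (h1.trans he.symm)
  rw [← h3]
  exact h2 v hv

theorem prod' [Finite Y] [Finite V] {b : L} (hb : b ∈ A) : ∃ q ∈ Q, ∃ q' ∈ Q, (b : Y) = q * (t * q' * t⁻¹) := by
  have hex : ∀ q : Q, ∃ b ∈ A, (b : Y) = t * ((q : L) : Y) * t⁻¹ := by
    intro q
    obtain ⟨b, hb, h1, -⟩ := h.QtA' k q.2
    exact ⟨b, hb, h1⟩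
  choose g hg1 hg2 using hex
  let f : Q × Q → A := fun p => ⟨p.1 * g p.2, mul_mem (h.QA' k p.1.2) (hg1 p.2)⟩
  have hf : Function.Injective f := by
    rintro ⟨q₁, q₂⟩ ⟨q₃, q₄⟩ hqq
    have h1 : ((q₁ : L) : Y) * (t * ((q₂ : L) : Y) * t⁻¹) = ((q₃ : L) : Y) * (t * ((q₄ : L) : Y) * t⁻¹) := by
      have := congrArg (fun a : A => ((a : L) : Y)) hqq
      change ((q₁ : L) : Y) * (g q₂ : Y) = ((q₃ : L) : Y) * (g q₄ : Y) at this
      rwa [hg2, hg2] at this
    have h2 : (((q₃ : L)⁻¹ * q₁ : L) : Y) = t * (((q₄ : L) * (q₂ : L)⁻¹ : L) : Y) * t⁻¹ := by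
      rw [coe_mul, coe_mul, coe_inv, coe_inv]
      have h3 : ((q₁ : L) : Y) = ((q₃ : L) : Y) * (t * ((q₄ : L) : Y) * t⁻¹) * (t * ((q₂ : L) : Y) * t⁻¹)⁻¹ := by
        rw [← h1]; group
      rw [h3]; group
    have h3 := h.inf1' k (mul_mem (inv_mem q₃.2) q₁.2) (mul_mem q₄.2 (inv_mem q₂.2)) h2
    have h4 : q₁ = q₃ := Subtype.ext (by rw [inv_mul_eq_one] at h3; exact h3.symm)
    subst h4
    have h5 := mul_left_cancel h1
    have h6 : ((q₂ : L) : Y) = ((q₄ : L) : Y) := mul_left_cancel (mul_right_cancel h5)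
    have h7 : q₂ = q₄ := Subtype.ext (Subtype.ext h6)
    rw [h7]
  have hs : Function.Surjective f := ((Nat.bijective_iff_injective_and_card f).2 ⟨hf, by
    rw [Nat.card_prod, h.cQ' k, h.cA2 k, h.ca k, pow_two]⟩).2
  obtain ⟨⟨q, q'⟩, h1⟩ := hs ⟨b, hb⟩
  refine ⟨q, q.2, q', q'.2, ?_⟩
  have h2 := congrArg (fun a : A => ((a : L) : Y)) h1
  change ((q : L) : Y) * (g q' : Y) = b at h2
  rw [← h2, hg2]

theorem tA' [Finite Y] [Finite V] {b : L} (hb : b ∈ A) : ∃ c ∈ A, (c : Y) = t * b * t⁻¹ := by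
  obtain ⟨q, hq, q', hq', h1⟩ := h.prod' k hb
  obtain ⟨c, hc, h2, -⟩ := h.QtA' k hq
  have h3 := h.D_conj k.tt (h.Q_le_D k hq')
  obtain ⟨q'', hq'', h4⟩ := h.DD' k h3
  refine ⟨c * q'', mul_mem hc hq''.1, ?_⟩
  rw [coe_mul, h2, h4, h1]
  group

/-- `C_Y(E) ∩ C_Y(V/E) = 1` -/
theorem N0 [Finite Y] [Finite V] {n : Y} (hn : n ∈ Dx Y h.two E) : n = 1 := by
  -- `n` commutes with `A`
  have hcomm : ∀ a ∈ A, (a : Y) * n = n * a := by
    intro a ha
    have hc : (a : Y) * n * (n * a)⁻¹ ∈ Dx Y h.two (fx V Q : AddSubgroup V) := by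
      have key : ∀ v : V, ((a : Y) * n * (n * a)⁻¹) • v + v ∈ F := by
        intro v
        obtain ⟨w, rfl⟩ : ∃ w : V, v = (n * (a : Y)) • w := ⟨(n * (a : Y))⁻¹ • v, by rw [smul_inv_smul]⟩
        have e1 : ((a : Y) * n * (n * a)⁻¹) • (n * (a : Y)) • w = ((a : Y) * n) • w := by
          rw [← mul_smul]; congr 1; group
        rw [e1, mul_smul, mul_smul]
        have h1 := hn.1 _ (h.loc.mem.VB a ha w)
        change n • ((a : Y) • w + w) = (a : Y) • w + w at h1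
        rw [smul_add] at h1
        have h2 : (a : Y) • n • w + n • (a : Y) • w = (a : Y) • (n • w + w) + (n • w + w) := by
          have h3 : n • (a : Y) • w = (a : Y) • w + w + n • w := by
            rw [← h1, add_assoc, h.two, add_zero]
          rw [h3, smul_add]
          abel
        rw [h2]
        exact h.loc.mem.EB a ha _ (hn.2 w)
      refine ⟨fun x hx => ?_, fun v => h.six k (key v)⟩
      have hx' : (a : Y)⁻¹ • x ∈ E := h.beta.XE (h.Xmem (l := a⁻¹) hx)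
      rw [mul_inv_rev, mul_smul, mul_smul, mul_smul]
      have hxE : n⁻¹ • x = x := by rw [inv_smul_eq_iff, hn.1 x (h.beta.XE hx)]
      rw [hxE, hn.1 _ hx', smul_inv_smul]
    have h1 := h.D0 k hc (by
      intro x hx
      have hxE := h.X'_le_E k hx
      have hx' : (a : Y)⁻¹ • x ∈ E := by
        have h2 := h.loc.mem.VB a⁻¹ (inv_mem ha) x
        exact (AddSubgroup.add_mem_cancel_right E hxE).1 h2
      rw [mul_inv_rev, mul_smul, mul_smul, mul_smul]
      have hxE' : n⁻¹ • x = x := by rw [inv_smul_eq_iff, hn.1 x hxE]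
      rw [hxE', hn.1 _ hx', smul_inv_smul])
    exact mul_inv_eq_one.1 h1
  apply h.D0 k
  · refine ⟨fun x hx => hn.1 x (h.beta.XE hx), fun v => h.six k ?_⟩
    apply h.loc.mem.CB
    intro a ha
    have h1 := hn.1 _ (h.loc.mem.VB a ha v)
    change n • ((a : Y) • v + v) = (a : Y) • v + v at h1
    change (a : Y) • (n • v + v) = n • v + v
    apply h.eq_of_add
    have h2 : (a : Y) • (n • v + v) + (n • v + v) = n • ((a : Y) • v + v) + ((a : Y) • v + v) := by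
      rw [smul_add, smul_add, ← mul_smul, ← mul_smul, hcomm a ha]
      abel
    rw [h2, h1, h.two]
  · intro x hx
    exact hn.1 x (h.X'_le_E k hx)

/-- `C_Y(E) = 1` -/
theorem CYE [Finite Y] [Finite V] {y : Y} (hy : ∀ x ∈ E, y • x = x) : y = 1 := by
  have hcomm : ∀ a ∈ A, (a : Y) * y = y * a := by
    intro a ha
    apply mul_inv_eq_one.1
    apply h.N0 k
    have hE : ∀ x ∈ E, (a : Y)⁻¹ • x ∈ E := by
      intro x hx
      have h2 := h.loc.mem.VB a⁻¹ (inv_mem ha) x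
      exact (AddSubgroup.add_mem_cancel_right E hx).1 h2
    refine ⟨fun x hx => ?_, fun v => ?_⟩
    · rw [mul_inv_rev, mul_smul, mul_smul, mul_smul]
      have hxE : y⁻¹ • x = x := by rw [inv_smul_eq_iff, hy x hx]
      rw [hxE, hy _ (hE x hx), smul_inv_smul]
    · obtain ⟨w, rfl⟩ : ∃ w : V, v = (y * (a : Y)) • w := ⟨(y * (a : Y))⁻¹ • v, by rw [smul_inv_smul]⟩
      have e1 : ((a : Y) * y * (y * a)⁻¹) • (y * (a : Y)) • w = ((a : Y) * y) • w := by
        rw [← mul_smul]; congr 1; group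
      rw [e1, mul_smul, mul_smul]
      have h1 := hy _ (h.loc.mem.VB a ha w)
      change y • ((a : Y) • w + w) = (a : Y) • w + w at h1
      rw [smul_add] at h1
      have h2 : (a : Y) • y • w + y • (a : Y) • w = ((a : Y) • (y • w) + y • w) + ((a : Y) • w + w) := by
        have h3 : y • (a : Y) • w = (a : Y) • w + w + y • w := by
          rw [← h1, add_assoc, h.two, add_zero]
        rw [h3]
        abel
      rw [h2]
      exact E.add_mem (h.loc.mem.VB a ha _) (h.loc.mem.VB a ha _)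
  apply h.D0 k
  · refine ⟨fun x hx => hy x (h.beta.XE hx), fun v => h.six k ?_⟩
    apply h.loc.mem.CB
    intro a ha
    have h1 := hy _ (h.loc.mem.VB a ha v)
    change y • ((a : Y) • v + v) = (a : Y) • v + v at h1
    change (a : Y) • (y • v + v) = y • v + v
    apply h.eq_of_add
    have h2 : (a : Y) • (y • v + v) + (y • v + v) = y • ((a : Y) • v + v) + ((a : Y) • v + v) := by
      rw [smul_add, smul_add, ← mul_smul, ← mul_smul, hcomm a ha]
      abel
    rw [h2, h1, h.two]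
  · intro x hx
    exact hy x (h.X'_le_E k hx)

/-- `C_T(X) = S` -/
theorem CTX' [Finite Y] [Finite V] {y : Y} (hyT : y ∈ T) (hy : ∀ x ∈ fx V Q, y • x = x) :
    ∃ q ∈ Q, (q : Y) = y := by
  have hyN : y ∈ NX L V Q := mem_NX_of fun x hx => by rw [hy x hx]; exact hx
  obtain ⟨v, hv, hvE, hvX⟩ := h.exists_v k
  have h1 := (h.s3 k hyT hyN fun x hx => hy x hx.1).1 v hv
  obtain ⟨q, hq, h2⟩ := h.onto' k hvE hvX h1.2
  have h3 : (q : Y) • v = y • v := add_right_cancel h2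
  refine ⟨q, hq, ?_⟩
  have h4 : (q : Y)⁻¹ * y = 1 := by
    apply h.CYE k
    have hqT : (q : Y) ∈ T := h.QT hq
    have h5 : (q : Y)⁻¹ * y ∈ T := mul_mem (inv_mem hqT) hyT
    have hqN : (q : Y) ∈ NX L V Q := h.AN q
    have h6 : ∀ x ∈ fx V Q, ((q : Y)⁻¹ * y) • x = x := by
      intro x hx
      rw [mul_smul, hy x hx, inv_smul_eq_iff]
      exact (hx q hq).symm
    have h7 := (h.s3 k h5 (mul_mem (inv_mem hqN) hyN) fun x hx => h6 x hx.1).2 v hv (fun h8 => hvX h8.1) (by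
      rw [mul_smul, ← h3, inv_smul_smul])
    intro x hx
    rw [h.supE' k, AddSubgroup.mem_sup] at hx
    obtain ⟨x₁, hx₁, x₂, hx₂, rfl⟩ := hx
    rw [smul_add, h6 x₁ hx₁, h7 x₂ hx₂]
  exact inv_mul_eq_one.1 h4

/-- `C_T(A) = A` -/
theorem CTA' [Finite Y] [Finite V] {y : Y} (hyT : y ∈ T) (hyA : ∀ b ∈ A, y * (b : Y) = b * y) :
    ∃ b ∈ A, (b : Y) = y := by
  let N : Subgroup Y := (T : Subgroup Y) ⊓ centralizer (A.map L.subtype : Set Y)
  have hN : ∀ {n : Y}, n ∈ N ↔ n ∈ T ∧ ∀ b ∈ A, n * (b : Y) = b * n := by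
    intro n
    constructor
    · rintro ⟨h1, h2⟩
      refine ⟨h1, fun b hb => ?_⟩
      exact ((mem_centralizer_iff.1 h2) _ ⟨b, hb, rfl⟩).symm
    · rintro ⟨h1, h2⟩
      refine ⟨h1, mem_centralizer_iff.2 ?_⟩
      rintro _ ⟨b, hb, rfl⟩
      exact (h2 b hb).symm
  have hcom : ∀ {n : Y}, n ∈ N → ∀ a ∈ A, ∀ v : V, a • (n • v) + n • v = n • (a • v + v) := by
    intro n hn a ha v
    have h1 := (hN.1 hn).2 a ha
    rw [smul_add]
    congr 1
    change (a : Y) • (n • v) = n • ((a : Y) • v)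
    rw [← mul_smul, ← mul_smul, h1]
  have hNF : ∀ {n : Y}, n ∈ N → ∀ f ∈ F, n • f ∈ F := by
    intro n hn f hf
    apply h.loc.mem.CB
    intro a ha
    apply h.eq_of_add
    rw [hcom hn a ha, h.loc.mem.FB a ha f hf, h.two, smul_zero]
  obtain ⟨q₀, hq₀, hq₀1⟩ := h.exists_q k
  have hq₀A := h.QA' k hq₀
  have hEof : ∀ v : V, q₀ • v + v ∈ F → v ∈ E := by
    intro v hv
    by_contra h1
    exact hq₀1 (h.loc.mem.inj v h1 q₀ hq₀A hv)
  have hNE : ∀ {n : Y}, n ∈ N → ∀ e ∈ E, n • e ∈ E := by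
    intro n hn e he
    apply hEof
    rw [hcom hn q₀ hq₀A]
    exact hNF hn _ (h.loc.mem.EB q₀ hq₀A e he)
  have hyN : y ∈ N := hN.2 ⟨hyT, hyA⟩
  -- a fixed point on `V/E`
  obtain ⟨v, -, hvE, hvfix⟩ := exists_fixed_mod h.two (R := N) (T.2.to_le inf_le_left) ⊤ E
    (fun _ _ _ _ => trivial) (fun r hr w hw => hNE hr w hw) (by
      obtain ⟨w, hw⟩ := h.loc.mem.ne
      exact ⟨w, trivial, hw⟩)
  have hu := hvfix y hyN
  -- trivial on `E/F`
  have h1 : ∀ e ∈ E, y • e + e ∈ F := by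
    intro e he
    obtain ⟨a, ha, hf⟩ := h.loc.mem.surj v hvE e he
    have h2 : y • (a • v + v) + (a • v + v) = a • (y • v + v) + (y • v + v) := by
      rw [← hcom hyN a ha, smul_add]
      abel
    have h3 : y • (a • v + v) + (a • v + v) ∈ F := by
      rw [h2]; exact h.loc.mem.EB a ha _ hu
    have h4 : y • e + e = (y • (a • v + v) + (a • v + v)) + (y • (a • v + v + e) + (a • v + v + e)) := by
      rw [smul_add y (a • v + v) e]
      have : y • (a • v + v) + (a • v + v) + (y • (a • v + v) + y • e + (a • v + v + e)) =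
        (y • (a • v + v) + y • (a • v + v)) + ((a • v + v) + (a • v + v)) + (y • e + e) := by abel
      rw [this, h.two, h.two, zero_add, zero_add]
    rw [h4]
    exact F.add_mem h3 (F.add_mem (hNF hyN _ hf) hf)
  -- trivial on `F`
  have h2 : ∀ f ∈ F, y • f = f := by
    intro f hf
    obtain ⟨v₀, -, hv₀E, hv₀X⟩ := h.exists_v k
    obtain ⟨b, hb, rfl⟩ := h.onto' k hv₀E hv₀X hf
    have hbA := h.QA' k hb
    rw [← hcom hyN b hbA]
    have h3 := h.loc.mem.FB b hbA _ (h1 v₀ hv₀E)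
    rw [smul_add] at h3
    have h4 : b • y • v₀ + y • v₀ = (b • y • v₀ + b • v₀) + (y • v₀ + b • v₀) := by
      have : b • y • v₀ + b • v₀ + (y • v₀ + b • v₀) = b • y • v₀ + y • v₀ + (b • v₀ + b • v₀) := by abel
      rw [this, h.two, add_zero]
    rw [h4, h3]
    have : y • v₀ + v₀ + (y • v₀ + b • v₀) = (y • v₀ + y • v₀) + (b • v₀ + v₀) := by abel
    rw [this, h.two, zero_add]
  have hyX : y ∈ NX L V Q := by
    apply mem_NX_of
    intro x hx
    exact (AddSubgroup.add_mem_cancel_right _ hx).1 (h.six k (h1 x (h.beta.XE hx)))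
  -- subtract an element of `A`
  obtain ⟨x, hx, hxF⟩ : ∃ x ∈ fx V Q, x ∉ F := by
    obtain ⟨l, hl⟩ := exists_out h.loc h.beta
    refine ⟨l • z, h.Xmem h.loc.z_mem.1, fun h3 => ?_⟩
    exact h.loc.z_not (by
      have h4 := h.loc.mem_C_of_F hl (smul_mem_smul_as h.loc.z_mem) h3
      rw [h.C0, AddSubgroup.mem_bot, smul_eq_zero_iff_eq] at h4
      exact absurd h4 h.z_ne)
  obtain ⟨a, ha, c, hc, h3⟩ := h.beta.full x hx hxF (y • x + x) ⟨h.six k (h1 x (h.beta.XE hx)), h1 x (h.beta.XE hx)⟩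
  rw [h.C0, AddSubgroup.mem_bot] at hc
  rw [hc, add_zero] at h3
  have h4 : (a : Y) • x = y • x := add_right_cancel h3
  have h5 : (a : Y)⁻¹ * y ∈ T := mul_mem (inv_mem (h.AT ha)) hyT
  have h6 : (a : Y)⁻¹ * y ∈ NX L V Q := mul_mem (inv_mem (h.AN a)) hyX
  have h7 := (h.s2 h5 h6 (by
    intro f hf
    rw [mul_smul, h2 f hf.2, inv_smul_eq_iff]
    exact (h.loc.mem.FB a ha f hf.2).symm)).2 x hx hxF (by rw [mul_smul, ← h4, inv_smul_smul])
  obtain ⟨q, hq, h8⟩ := h.CTX' k h5 h7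
  refine ⟨a * q, mul_mem ha (h.QA' k hq), ?_⟩
  rw [coe_mul, h8]
  group

theorem CL' [Finite Y] [Finite V] {l : L} (hl : ∀ x ∈ fx V Q, l • x = x) : l ∈ Q := by
  obtain ⟨q, hq, hq1⟩ := h.exists_q k
  have h1 : (l : Y) ∈ Dx Y h.two (fx V Q : AddSubgroup V) := by
    refine ⟨hl, fun v => ?_⟩
    apply h.Qfix' k hq hq1
    apply h.eq_of_add
    have h2 : q • (l • v + v) + (l • v + v) = l • (q • v + v) + (q • v + v) := by
      rw [smul_add, smul_add, ← mul_smul, ← mul_smul, h.Qz' k hq l]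
      abel
    have h3 := hl _ (h.QV' k hq v)
    rw [h3, h.two] at h2
    exact h2
  obtain ⟨b, hb, h2⟩ := h.DD' k h1
  have : b = l := Subtype.ext h2
  rw [← this]
  exact hb.2

/-- **THEOREM B0 (1)-(7)** -/
theorem out [Finite Y] [Finite V] : Out T M L A Q L₁ R E F z t where
  hyp := h
  tk := k
  QA := h.QA' k
  cQ := h.cQ' k
  cA := by rw [h.cA2 k, h.ca k]
  cF := h.cF' k
  cX := h.cX' k
  cV := h.cV' k
  FX := h.six k
  supE := h.supE' k
  infF := by
    apply le_antisymm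
    · rintro x ⟨hx, hx'⟩
      exact (h.inf_X' k hx hx').2
    · intro x hx
      exact ⟨h.six k hx, h.X1_le_X' k ⟨h.six k hx, hx⟩⟩
  tF := h.tF' k
  tE := h.tE' k
  Qz := fun _ hq l => h.Qz' k hq l
  Qfix := fun _ hq hq1 _ hv => h.Qfix' k hq hq1 hv
  QV := fun _ hq v => h.QV' k hq v
  Qsurj := fun _ hq hq1 _ hx => h.Qsurj' k hq hq1 hx
  QtA := fun _ hq => by
    obtain ⟨b, hb, h1, -⟩ := h.QtA' k hq
    exact ⟨b, hb, h1⟩
  tA := fun _ hb => h.tA' k hb
  prod := fun _ hb => h.prod' k hb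
  inf1 := fun _ hq _ hq' he => h.inf1' k hq hq' he
  CAX' := fun _ hb hbX => h.CAX k hb hbX
  DD := fun y h1 h2 => by
    obtain ⟨q, hq, h3⟩ := h.DD' k (y := y) ⟨h1, h2⟩
    exact ⟨q, hq.2, h3⟩
  CL := fun _ hl => h.CL' k hl
  CTX := fun _ hy h1 => h.CTX' k hy h1
  CTA := fun _ hy h1 => h.CTA' k hy h1

end t

end Hyp

end Cfsg.Agent.Omega.NO1.B0
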