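import Cfsg.Agent.Omega.NO1.B0.One

/-!
# THEOREM B0 (bb OMEGA 18835, helper970): (5), (6)

`[V, A ∩ Q] ≤ X`, `[E, A] = X₁`, `E ∩ l F ≤ X`; `F ≤ X`, `|V| = |V/E|⁴`.
-/

set_option autoImplicit false
set_option linter.unusedSectionVars false
set_option linter.style.haveILetI false

namespace Cfsg.Agent.Omega.NO1.B0

open Subgroup Cfsg.Agent.Omega.NO1.AB
open scoped Pointwise

universe u

variable {Y : Type u} [Group Y] {V : Type u} [AddCommGroup V] [DistribMulAction Y V]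

/-- `C_Y(W) ∩ C_Y(V/W)` -/
def Dx (Y : Type u) [Group Y] {V : Type u} [AddCommGroup V] [DistribMulAction Y V] (h2 : ∀ v : V, v + v = 0)
    (W : AddSubgroup V) : Subgroup Y where
  carrier := {y | (∀ x ∈ W, y • x = x) ∧ ∀ v : V, y • v + v ∈ W}
  mul_mem' := fun {a b} ha hb => by
    refine ⟨fun x hx => by rw [mul_smul, hb.1 x hx, ha.1 x hx], fun v => ?_⟩
    have h3 : a • (b • v) + v = (b • v + v) + (a • v + v) := by
      have h4 := ha.1 _ (hb.2 v)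
      rw [smul_add] at h4
      have h5 : a • b • v = b • v + v + a • v := by rw [← h4, add_assoc, h2, add_zero]
      rw [h5]
      abel
    rw [mul_smul, h3]
    exact W.add_mem (hb.2 v) (ha.2 v)
  one_mem' := ⟨fun x _ => one_smul Y x, fun v => by rw [one_smul, h2]; exact W.zero_mem⟩
  inv_mem' := fun {a} ha => by
    refine ⟨fun x hx => by rw [inv_smul_eq_iff, ha.1 x hx], fun v => ?_⟩
    have h4 := ha.1 _ (ha.2 (a⁻¹ • v))
    rw [smul_inv_smul] at h4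
    have h5 := ha.2 (a⁻¹ • v)
    rw [smul_inv_smul] at h5
    rwa [add_comm]

theorem mem_Dx {h2 : ∀ v : V, v + v = 0} {W : AddSubgroup V} {y : Y} :
    y ∈ Dx Y h2 W ↔ (∀ x ∈ W, y • x = x) ∧ ∀ v : V, y • v + v ∈ W := Iff.rfl

theorem Dx_sq (faith : ∀ y : Y, (∀ v : V, y • v = v) → y = 1) {h2 : ∀ v : V, v + v = 0} {W : AddSubgroup V} {y : Y}
    (hy : y ∈ Dx Y h2 W) : y * y = 1 := by
  apply faith
  intro v
  have h1 := hy.1 _ (hy.2 v)
  rw [smul_add, ← mul_smul, add_comm (y • v) v] at h1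
  exact add_right_cancel h1

theorem Dx_two (faith : ∀ y : Y, (∀ v : V, y • v = v) → y = 1) {h2 : ∀ v : V, v + v = 0} {W : AddSubgroup V} :
    IsPGroup 2 (Dx Y h2 W) := by
  rintro ⟨y, hy⟩
  refine ⟨1, Subtype.ext ?_⟩
  rw [pow_one]
  change y ^ 2 = 1
  rw [pow_two, Dx_sq faith hy]

theorem Dx_conj {h2 : ∀ v : V, v + v = 0} {W W' : AddSubgroup V} {y g : Y} (hy : y ∈ Dx Y h2 W)
    (hg : ∀ x, x ∈ W' ↔ g⁻¹ • x ∈ W) : g * y * g⁻¹ ∈ Dx Y h2 W' := by
  refine ⟨fun x hx => ?_, fun v => ?_⟩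
  · rw [mul_smul, mul_smul, hy.1 _ ((hg x).1 hx), smul_inv_smul]
  · rw [hg, smul_add, mul_smul, mul_smul, inv_smul_smul]
    exact hy.2 _

namespace Hyp0

variable {T : Sylow 2 Y} {M L : Subgroup Y} {A Q L₁ : Subgroup L} {R : Sylow 2 L} {E F : AddSubgroup V}
  {z : V} (h : Hyp0 T M L A Q L₁ R E F z)
include h

section t

variable {t : Y} (k : Tk T L V Q t)
include k

/-- **(5a)** `E ∩ l F ≤ X` -/
theorem five_a [Finite Y] [Finite V] {l : L} (hl : l ∉ L₁) {p : V} (hp : p ∈ E) (hlp : l⁻¹ • p ∈ F) :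
    l⁻¹ • p ∈ fx V Q ⊓ F := by
  by_cases hp0 : p = 0
  · rw [hp0, smul_zero]; exact AddSubgroup.zero_mem _
  have hpF : p ∉ F := fun h1 => hp0 (h.FF hl h1 hlp)
  have hst := h.loc.stab_le hlp (by rwa [h.C0, AddSubgroup.mem_bot])
  have h1 := card_CA h.two h.loc.mem hp hpF
  have h2 : A ⊓ MulAction.stabilizer L p ≤ A ⊓ Q := by
    rintro a ⟨ha, ha1⟩
    exact ⟨ha, h.beta.cap l hl a ha (hst ha1)⟩
  have h3 : A ⊓ MulAction.stabilizer L p = A ⊓ Q := by
    apply eq_of_le_of_card_ge h2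
    rw [h.cB k, h.ca k]
    exact h1
  have h4 : p ∈ fx V Q ⊔ F := by
    rw [← h.beta.CVB]
    intro b hb
    rw [← h3] at hb
    exact hb.2
  apply h.F_inf (h.inv_nmem hl) hlp
  rw [inv_inv, smul_inv_smul]
  exact h4

theorem five_a' [Finite Y] [Finite V] {l : L} (hl : l ∉ L₁) {p : V} (hp : p ∈ E) (hlp : l⁻¹ • p ∈ F) :
    p ∈ fx V Q := by
  have := h.Xmem (l := l) (h.five_a k hl hp hlp).1
  rwa [smul_inv_smul] at this

/-- `[[v, a], b] = [[v, b], a]` -/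
theorem comm_comm {a b : L} (ha : a ∈ A) (hb : b ∈ A) (v : V) :
    b • (a • v + v) + (a • v + v) = a • (b • v + v) + (b • v + v) := by
  simp only [smul_add]
  rw [← mul_smul, ← mul_smul, h.loc.mem.comm a ha b hb]
  abel

/-- **(5b)** `[E, A ∩ Q] ≤ X₁` -/
theorem five_b [Finite Y] [Finite V] {e : V} (he : e ∈ E) {b : L} (hb : b ∈ A ⊓ Q) : b • e + e ∈ fx V Q ⊓ F := by
  obtain ⟨l, hl⟩ := exists_out h.loc h.beta
  obtain ⟨x, hx, hxE⟩ := h.three k hl
  obtain ⟨s, hs, h1⟩ := h.loc.mem.surj _ hxE e he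
  -- `[e, b] = [[x₀, s], b]`
  set x₀ := l⁻¹ • x with hx₀
  have h2 : b • e + e = b • (s • x₀ + x₀) + (s • x₀ + x₀) := by
    have h3 := h.loc.mem.FB b hb.1 _ h1
    rw [smul_add] at h3
    have h4 : b • e = b • (s • x₀ + x₀) + (s • x₀ + x₀ + e) := by
      have h5 : b • (s • x₀ + x₀) + (b • (s • x₀ + x₀) + b • e) = b • e := by
        rw [← add_assoc, h.two, zero_add]
      rw [← h5, h3]
    rw [h4]
    have h5 : b • (s • x₀ + x₀) + (s • x₀ + x₀ + e) + e = b • (s • x₀ + x₀) + (s • x₀ + x₀) + (e + e) := by abel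
    rw [h5, h.two, add_zero]
  rw [h2, h.comm_comm k hs hb.1]
  have h3 : b • x₀ + x₀ ∈ fx V Q := by
    have h4 := h.conj_smul_add k (l := l) (b := b) x
    rw [← hx₀] at h4
    rw [← h4]
    exact h.Xmem ((h.s3Q k (h.conjB k (l := l) hb)).1 x hx).1
  exact ⟨(fx V Q).add_mem (h.Xmem h3) h3, h.loc.mem.EB s hs _ (h.beta.XE h3)⟩

/-- `[E, A] ≤ X₁` -/
theorem five_b' [Finite Y] [Finite V] {e : V} (he : e ∈ E) {a : L} (ha : a ∈ A) : a • e + e ∈ fx V Q ⊓ F := by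
  obtain ⟨s, hs, hs1⟩ := h.A_ne k
  obtain ⟨e', he', h1⟩ := pf_eq h.loc.mem h.two (by rw [h.cA2 k, h.ca k]) hs.1 hs1 ha he
  rw [h1]
  exact h.five_b k he' hs

/-- **(5c)** `[V, A ∩ Q] ≤ X` -/
theorem five_c [Finite Y] [Finite V] (v : V) {b : L} (hb : b ∈ A ⊓ Q) : b • v + v ∈ fx V Q := by
  obtain ⟨l, hl⟩ := exists_out h.loc h.beta
  -- `l v = x + e`
  obtain ⟨x, hx, he⟩ := h.sup_top k hl (l • v)
  have h1 : b • (l⁻¹ • x) + l⁻¹ • x ∈ fx V Q := by
    rw [← h.conj_smul_add k]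
    exact h.Xmem ((h.s3Q k (h.conjB k (l := l) hb)).1 x hx).1
  have h2 := (h.five_b k he hb).1
  have e1 : l⁻¹ • (l • v + x) = v + l⁻¹ • x := by rw [smul_add, inv_smul_smul]
  rw [e1] at h2
  have h3 : b • v + v = (b • (v + l⁻¹ • x) + (v + l⁻¹ • x)) + (b • (l⁻¹ • x) + l⁻¹ • x) := by
    rw [smul_add]
    have : b • v + b • l⁻¹ • x + (v + l⁻¹ • x) + (b • l⁻¹ • x + l⁻¹ • x) =
      b • v + v + (b • l⁻¹ • x + b • l⁻¹ • x) + (l⁻¹ • x + l⁻¹ • x) := by abel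
    rw [this, h.two, h.two, add_zero, add_zero]
  rw [h3]
  exact (fx V Q).add_mem h2 h1

/-- **(5d)** `C_E(b) ≤ X + F` for `b ∈ (A ∩ Q)#` -/
theorem five_d [Finite Y] [Finite V] {b : L} (hb : b ∈ A ⊓ Q) (hb1 : b ≠ 1) {e : V} (he : e ∈ E)
    (hbe : b • e = e) : e ∈ fx V Q ⊔ F := by
  obtain ⟨w, hw⟩ := h.loc.mem.ne
  obtain ⟨a, ha, h1⟩ := h.loc.mem.surj w hw e he
  have hbw := h.five_c k w hb
  have hbwF : b • w + w ∉ F := fun h2 => hb1 (h.loc.mem.inj w hw b hb.1 h2)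
  have h2 : a • (b • w + w) = b • w + w := by
    have h3 := h.loc.mem.FB b hb.1 _ h1
    rw [smul_add, hbe] at h3
    have h4 : b • (a • w + w) = a • w + w := add_right_cancel h3
    have h5 := h.comm_comm k ha hb.1 w
    rw [h4, h.two] at h5
    exact h.eq_of_add h5.symm
  have h3 := h.beta.cen _ hbw hbwF a ha h2
  have h4 := h.five_c k w ⟨ha, h3⟩
  have h5 : e = (a • w + w) + (a • w + w + e) := by rw [← add_assoc, h.two, zero_add]
  rw [h5]
  exact AddSubgroup.add_mem _ (AddSubgroup.mem_sup_left h4) (AddSubgroup.mem_sup_right h1)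

/-- `A ∩ Q ≤ D`, and its conjugates -/
theorem B_le_D [Finite Y] [Finite V] {b : L} (hb : b ∈ A ⊓ Q) (l : L) :
    ((l * b * l⁻¹ : L) : Y) ∈ Dx Y h.two (fx V Q : AddSubgroup V) := by
  refine ⟨fun x hx => hx _ (h.conjB k hb), fun v => ?_⟩
  have h1 := h.five_c k (l⁻¹ • v) hb
  rw [← h.conj_smul_add k] at h1
  have := h.Xmem (l := l) h1
  rwa [smul_inv_smul] at this

/-- `φ_v` is onto `X₁` on `A ∩ Q`, `v ∈ E - (X + F)` -/
theorem onto [Finite Y] [Finite V] {v : V} (hv : v ∈ E) (hvX : v ∉ fx V Q ⊔ F) {x : V} (hx : x ∈ fx V Q ⊓ F) :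
    ∃ b ∈ A ⊓ Q, b • v + v = x := by
  let f : ↥(A ⊓ Q) → ↥(fx V Q ⊓ F) := fun b => ⟨_, h.five_b k hv b.2⟩
  have hf : Function.Injective f := by
    intro b b' hbb
    have h1 : (b : L) • v + v = (b' : L) • v + v := congrArg Subtype.val hbb
    have h3 : (b : L) • v = (b' : L) • v := add_right_cancel h1
    by_contra hne
    apply hvX
    apply h.five_d k (b := (b' : L)⁻¹ * b) (mul_mem (inv_mem b'.2) b.2) _ hv
    · rw [mul_smul, h3, inv_smul_smul]
    · rw [Ne, inv_mul_eq_one]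
      exact fun h4 => hne (Subtype.ext h4.symm)
  have hs : Function.Surjective f := (Nat.bijective_iff_injective_and_card f).2 ⟨hf, h.cB k⟩ |>.2
  obtain ⟨b, hb⟩ := hs ⟨x, hx⟩
  exact ⟨b, b.2, congrArg Subtype.val hb⟩

end t

end Hyp0

theorem card_mul_le {G : Type*} [Group G] [Finite G] {H K W : Subgroup G} (hH : H ≤ W) (hK : K ≤ W) :
    Nat.card H * Nat.card K ≤ Nat.card W * Nat.card ↥(H ⊓ K) := by
  have h1 := relIndex_mul_relIndex ⊥ (H ⊓ K) H bot_le inf_le_left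
  have h2 := relIndex_mul_relIndex ⊥ K W bot_le hK
  rw [relIndex_bot_left, relIndex_bot_left, inf_comm, inf_relIndex_right] at h1
  rw [relIndex_bot_left, relIndex_bot_left] at h2
  have h3 : K.relIndex H ≤ K.relIndex W := relIndex_le_of_le_right hH index_ne_zero_of_finite
  rw [← h1, ← h2, inf_comm H K]
  calc Nat.card ↥(K ⊓ H) * K.relIndex H * Nat.card K
      ≤ Nat.card ↥(K ⊓ H) * K.relIndex W * Nat.card K := Nat.mul_le_mul_right _ (Nat.mul_le_mul_left _ h3)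
    _ = _ := by ring

/-- `φ_v : D → X` -/
def phi (h2 : ∀ v : V, v + v = 0) (W : AddSubgroup V) (v : V) : Dx Y h2 W →* Multiplicative W where
  toFun d := Multiplicative.ofAdd ⟨(d : Y) • v + v, d.2.2 v⟩
  map_one' := by
    apply congrArg Multiplicative.ofAdd
    apply Subtype.ext
    change (1 : Y) • v + v = 0
    rw [one_smul, h2]
  map_mul' d d' := by
    apply congrArg Multiplicative.ofAdd
    apply Subtype.ext
    change ((d : Y) * d') • v + v = ((d : Y) • v + v) + ((d' : Y) • v + v)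
    have h1 : (d : Y) • ((d' : Y) • v + v) = (d' : Y) • v + v := d.2.1 _ (d'.2.2 v)
    rw [mul_smul]
    have h3 : (d : Y) • (d' : Y) • v = (d' : Y) • v + v + (d : Y) • v := by
      rw [smul_add] at h1
      rw [← h1, add_assoc, h2, add_zero]
    rw [h3]
    abel

theorem phi_eq {h2 : ∀ v : V, v + v = 0} {W : AddSubgroup V} {v x : V} (hx : x ∈ W) (d : Dx Y h2 W) :
    phi h2 W v d = Multiplicative.ofAdd ⟨x, hx⟩ ↔ (d : Y) • v + v = x :=
  ⟨fun h => congrArg (fun u : Multiplicative W => ((u.toAdd : W) : V)) h, fun h =>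
    congrArg Multiplicative.ofAdd (Subtype.ext h)⟩

namespace Hyp

variable {T : Sylow 2 Y} {M L : Subgroup Y} {A Q L₁ : Subgroup L} {R : Sylow 2 L} {E F : AddSubgroup V}
  {z : V} (h : Hyp T M L A Q L₁ R E F z)
include h

theorem D_le_NX [Finite V] : Dx Y h.two (fx V Q : AddSubgroup V) ≤ NX L V Q := by
  intro d hd
  apply mem_NX_of
  intro x hx
  rw [hd.1 x hx]
  exact hx

theorem D_conj [Finite V] {n d : Y} (hn : n ∈ NX L V Q) (hd : d ∈ Dx Y h.two (fx V Q : AddSubgroup V)) :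
    n * d * n⁻¹ ∈ Dx Y h.two (fx V Q : AddSubgroup V) := by
  apply Dx_conj hd
  intro x
  constructor
  · exact fun hx => NX_smul (inv_mem hn) hx
  · intro hx
    have := NX_smul hn hx
    rwa [smul_inv_smul] at this

/-- `D ≤ T` -/
theorem D_le_T [Finite V] : Dx Y h.two (fx V Q : AddSubgroup V) ≤ T := by
  have h1 : IsPGroup 2 (((T : Subgroup Y) ⊓ NX L V Q) ⊔ Dx Y h.two (fx V Q : AddSubgroup V) : Subgroup Y) := by
    apply IsPGroup.to_sup_of_normal_right' (T.2.to_le inf_le_left) (Dx_two h.faith)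
    intro n hn
    rw [mem_normalizer_iff]
    intro y
    constructor
    · exact fun hy => h.D_conj hn.2 hy
    · intro hy
      have h2 := h.D_conj (inv_mem hn.2) hy
      have e : n⁻¹ * (n * y * n⁻¹) * n⁻¹⁻¹ = y := by group
      rwa [e] at h2
  exact le_sup_right.trans (h.max _ h1 (sup_le inf_le_right h.D_le_NX) le_sup_left)

theorem inf_X' [Finite Y] [Finite V] {t : Y} (k : Tk T L V Q t) {x : V} (hx : x ∈ fx V Q)
    (hx' : x ∈ t • (fx V Q : AddSubgroup V)) : x ∈ fx V Q ⊓ F := by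
  by_contra h1
  obtain ⟨y, hy, hyX⟩ := h.X'_not_le k
  apply hyX
  intro q hq
  exact (h.s3Q k hq).2 x hx' h1 (hx q hq) y hy

theorem cE [Finite Y] [Finite V] {t : Y} (k : Tk T L V Q t) :
    Nat.card E = Nat.card F * Nat.card ↥(fx V Q ⊓ F) ^ 2 := by
  rw [h.loc.mem.card_E h.two, h.cA2 k]

theorem cV [Finite Y] [Finite V] {t : Y} (k : Tk T L V Q t) :
    Nat.card V = Nat.card F * Nat.card ↥(fx V Q ⊓ F) ^ 3 := by
  rw [← AddSubgroup.card_mul_index E, h.cE k, ← h.ca k]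
  ring

/-- `|X + X'| = a³` -/
theorem cU [Finite Y] [Finite V] {t : Y} (k : Tk T L V Q t) :
    Nat.card ↥(fx V Q ⊔ t • (fx V Q : AddSubgroup V)) = Nat.card ↥(fx V Q ⊓ F) ^ 3 := by
  have h1 := card_sup_as (fx V Q : AddSubgroup V) (t • (fx V Q : AddSubgroup V))
  have h2 : (fx V Q : AddSubgroup V) ⊓ t • (fx V Q : AddSubgroup V) = fx V Q ⊓ F := by
    apply le_antisymm
    · rintro x ⟨hx, hx'⟩
      exact h.inf_X' k hx hx'
    · intro x hx
      exact ⟨hx.1, h.X1_le_X' k hx⟩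
  rw [h2, h.tX_card k, h.cX] at h1
  have hc0 : 0 < Nat.card ↥(fx V Q ⊓ F) := Nat.card_pos
  apply Nat.eq_of_mul_eq_mul_right hc0
  rw [h1]
  ring

theorem ttX [Finite V] {t : Y} (k : Tk T L V Q t) {x : V} (hx : x ∈ fx V Q) :
    t⁻¹ • x ∈ t • (fx V Q : AddSubgroup V) := by
  rw [mem_smul_as, ← mul_smul, ← mul_inv_rev]
  exact NX_smul (inv_mem k.tt) hx

/-- **(6)** `F ≤ X` -/
theorem six [Finite Y] [Finite V] {t : Y} (k : Tk T L V Q t) : F ≤ fx V Q := by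
  by_contra hF
  obtain ⟨l, hl⟩ := exists_out h.loc h.beta
  set c := Nat.card ↥(fx V Q ⊓ F) with hc
  have hc1 : 1 < c := h.two_le_c
  have hc0 : 0 < c := by omega
  -- `|F| > c`
  have hFc : c < Nat.card F := by
    by_contra h1
    push Not at h1
    apply hF
    have h2 := eq_of_le_as (W₁ := fx V Q ⊓ F) (W₂ := F) inf_le_right h1
    rw [← h2]
    exact inf_le_left
  set lE : AddSubgroup V := (l : Y) • E with hlE
  have hmE : ∀ {x : V}, x ∈ lE ↔ l⁻¹ • x ∈ E := fun {x} => mem_smul_as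
  have hcE := h.cE k
  have hcV := h.cV k
  have hclE : Nat.card lE = Nat.card E := card_smul_as _ _
  -- `V_E`
  have hVE : Nat.card ↥(E ⊓ lE) = Nat.card F * c := by
    have h1 := card_sup_as E lE
    have h2 : E ⊔ lE = ⊤ := by
      rw [eq_top_iff]
      intro v _
      obtain ⟨x, hx, he⟩ := h.sup_top k hl v
      have e : v = x + (v + x) := by
        rw [add_comm v x, ← add_assoc, h.two, zero_add]
      rw [e]
      exact AddSubgroup.add_mem _ (AddSubgroup.mem_sup_left (h.X'_le_E k hx))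
        (AddSubgroup.mem_sup_right (hmE.2 he))
    rw [h2, AddSubgroup.card_top, hclE, hcE, hcV] at h1
    have hp : 0 < Nat.card F * c ^ 3 := Nat.mul_pos Nat.card_pos (pow_pos hc0 3)
    apply Nat.eq_of_mul_eq_mul_left hp
    rw [h1]
    ring
  have hFE : F ⊓ lE ≤ fx V Q ⊓ F := by
    rintro p ⟨hp, hpE⟩
    have h1 := h.five_a k (h.inv_nmem hl) (p := l⁻¹ • p) (hmE.1 hpE) (by rwa [inv_inv, smul_inv_smul])
    rwa [inv_inv, smul_inv_smul] at h1
  have hFa : Nat.card F ≤ c ^ 2 := by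
    have h1 := card_sup_as F lE
    have h2 : Nat.card ↥(F ⊔ lE) ≤ Nat.card V := Nat.card_le_card_of_injective _ Subtype.val_injective
    have h3 := card_mono_as hFE
    rw [hclE, hcE] at h1
    rw [hcV] at h2
    have hp : 0 < Nat.card F * c ^ 2 := Nat.mul_pos Nat.card_pos (pow_pos hc0 2)
    apply Nat.le_of_mul_le_mul_right _ hp
    calc Nat.card F * (Nat.card F * c ^ 2) = Nat.card ↥(F ⊔ lE) * Nat.card ↥(F ⊓ lE) := h1.symm
      _ ≤ (Nat.card F * c ^ 3) * c := Nat.mul_le_mul h2 h3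
      _ = c ^ 2 * (Nat.card F * c ^ 2) := by ring
  -- `v`
  obtain ⟨v, ⟨hvE, hvlE⟩, hvX⟩ : ∃ v ∈ E ⊓ lE, v ∉ fx V Q := by
    by_contra h1
    push Not at h1
    have h2 := card_mono_as (W₁ := E ⊓ lE) (W₂ := fx V Q) h1
    rw [hVE, h.cX] at h2
    have h3 : c * c < Nat.card F * c := Nat.mul_lt_mul_of_pos_right hFc hc0
    rw [← pow_two] at h3
    exact absurd h2 (not_le_of_gt h3)
  have hvlE' := hmE.1 hvlE
  have hvF : v ∉ fx V Q ⊔ F := by
    intro h1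
    rw [AddSubgroup.mem_sup] at h1
    obtain ⟨x, hx, f, hf, rfl⟩ := h1
    apply hvX
    have h2 : f ∈ F ⊓ lE := by
      refine ⟨hf, hmE.2 ?_⟩
      rw [smul_add] at hvlE'
      exact (AddSubgroup.add_mem_cancel_left E (h.beta.XE (h.Xmem hx))).1 hvlE'
    exact (fx V Q).add_mem hx (hFE h2).1
  have hv'F : l⁻¹ • v ∉ fx V Q ⊔ F := by
    intro h1
    rw [AddSubgroup.mem_sup] at h1
    obtain ⟨x, hx, f, hf, he⟩ := h1
    apply hvX
    have hv : v = l • x + l • f := by rw [← smul_add, he, smul_inv_smul]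
    have h2 : l • f ∈ E := by
      rw [hv] at hvE
      exact (AddSubgroup.add_mem_cancel_left E (h.beta.XE (h.Xmem hx))).1 hvE
    have h3 := h.five_a k hl h2 (by rwa [inv_smul_smul])
    rw [inv_smul_smul] at h3
    rw [hv]
    exact (fx V Q).add_mem (h.Xmem hx) (h.Xmem h3.1)
  -- `φ_v` is onto
  set D := Dx Y h.two (fx V Q : AddSubgroup V) with hD
  set φ := phi (Y := Y) h.two (fx V Q : AddSubgroup V) v with hφ
  have hB1 : ∀ b ∈ A ⊓ Q, (b : Y) ∈ D := by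
    intro b hb
    have := h.B_le_D k hb 1
    rwa [one_mul, inv_one, mul_one] at this
  have hsurj : Function.Surjective φ := by
    intro x
    obtain ⟨x, rfl⟩ := Multiplicative.ofAdd.surjective x
    obtain ⟨x, hx⟩ := x
    have hx' := hx
    rw [h.beta.sup l hl, AddSubgroup.mem_sup] at hx'
    obtain ⟨x₁, hx₁, x₂, hx₂, he⟩ := hx'
    obtain ⟨b₁, hb₁, h1⟩ := h.onto k hvE hvF hx₁
    obtain ⟨b₂, hb₂, h2⟩ := h.onto k hvlE' hv'F (mem_smul_as.1 hx₂)
    have hd : (b₁ : Y) * ((l * b₂ * l⁻¹ : L) : Y) ∈ D := mul_mem (hB1 b₁ hb₁) (h.B_le_D k hb₂ l)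
    refine ⟨⟨_, hd⟩, ?_⟩
    have h3 : φ ⟨_, hd⟩ = φ ⟨_, hB1 b₁ hb₁⟩ * φ ⟨_, h.B_le_D k hb₂ l⟩ := by
      rw [← map_mul]; rfl
    have h4 : (l * b₂ * l⁻¹) • v + v = x₂ := by
      rw [← h.conj_smul_add k (l := l) (b := b₂) v] at h2
      exact smul_left_cancel _ h2
    have hx₂X : x₂ ∈ fx V Q := h.loc.mem_X_of hx₂
    have h5 : φ ⟨_, hB1 b₁ hb₁⟩ = Multiplicative.ofAdd ⟨x₁, hx₁.1⟩ := (phi_eq _ _).2 h1
    have h6 : φ ⟨_, h.B_le_D k hb₂ l⟩ = Multiplicative.ofAdd ⟨x₂, hx₂X⟩ := (phi_eq _ _).2 h4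
    rw [h3, h5, h6]
    apply congrArg Multiplicative.ofAdd
    exact Subtype.ext he
  -- cardinalities
  set κ := Nat.card φ.ker with hκ
  have hκ0 : 0 < κ := Nat.card_pos
  have hcD : Nat.card D = c ^ 2 * κ := by
    have h1 := Subgroup.card_mul_index φ.ker
    rw [Subgroup.index_ker, MonoidHom.range_eq_top.2 hsurj, Subgroup.card_top] at h1
    have h2 : Nat.card (Multiplicative ↥(fx V Q : AddSubgroup V)) = c ^ 2 := h.cX
    rw [← h1, h2]
    ring
  -- `D₁ = φ⁻¹(X₁)`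
  let X₁' : Subgroup (Multiplicative ↥(fx V Q : AddSubgroup V)) := AddSubgroup.toSubgroup (F.addSubgroupOf (fx V Q))
  have hX₁' : X₁'.index = c := by
    have h1 : X₁'.index = (F.addSubgroupOf (fx V Q)).index := rfl
    have h2 := AddSubgroup.card_mul_index (F.addSubgroupOf (fx V Q))
    have h3 : Nat.card ↥(F.addSubgroupOf (fx V Q)) = c := by
      apply Nat.card_congr
      exact
        { toFun := fun v => ⟨v.1.1, v.1.2, AddSubgroup.mem_addSubgroupOf.1 v.2⟩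
          invFun := fun v => ⟨⟨v.1, v.2.1⟩, AddSubgroup.mem_addSubgroupOf.2 v.2.2⟩
          left_inv := fun v => rfl
          right_inv := fun v => rfl }
    rw [h3, h.cX, pow_two] at h2
    rw [h1]
    exact Nat.eq_of_mul_eq_mul_left hc0 h2
  set D₁ : Subgroup Y := (X₁'.comap φ).map D.subtype with hD₁
  have hmD₁ : ∀ {d : Y}, d ∈ D₁ ↔ d ∈ D ∧ d • v + v ∈ F := by
    intro d
    constructor
    · rintro ⟨d', hd', rfl⟩
      exact ⟨d'.2, AddSubgroup.mem_addSubgroupOf.1 hd'⟩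
    · rintro ⟨hd, hdF⟩
      exact ⟨⟨d, hd⟩, AddSubgroup.mem_addSubgroupOf.2 hdF, rfl⟩
  have hcD₁ : Nat.card D₁ = c * κ := by
    have h1 : Nat.card D₁ = Nat.card (X₁'.comap φ) :=
      Nat.card_congr ((X₁'.comap φ).equivMapOfInjective _ D.subtype_injective).symm.toEquiv
    have h2 := Subgroup.card_mul_index (X₁'.comap φ)
    rw [Subgroup.index_comap_of_surjective _ hsurj, hX₁', hcD] at h2
    rw [h1]
    apply Nat.eq_of_mul_eq_mul_right hc0
    rw [h2]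
    ring
  -- `D₀`
  obtain ⟨D₀, hD₀, hcD₀⟩ := h.count_X' k (P := D) (fun p hp => ⟨h.D_le_T hp, h.D_le_NX hp⟩)
    (fun p hp x hx => hp.1 x hx.1)
  rw [hcD] at hcD₀
  have hcD₀' : c * κ ≤ Nat.card D₀ := by
    apply Nat.le_of_mul_le_mul_left _ hc0
    calc c * (c * κ) = c ^ 2 * κ := by ring
      _ ≤ _ := hcD₀
  set X' : AddSubgroup V := t • (fx V Q : AddSubgroup V) with hX'
  set U := (fx V Q : AddSubgroup V) ⊔ X' with hU
  have hUX : (fx V Q : AddSubgroup V) ≤ U := le_sup_left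
  have hUX' : X' ≤ U := le_sup_right
  set W := Dx Y h.two U with hW
  have htriv : ∀ d : Y, (∀ x ∈ fx V Q, d • x = x) → (∀ x ∈ X', d • x = x) → ∀ x ∈ U, d • x = x := by
    intro d h1 h2 x hx
    rw [hU, AddSubgroup.mem_sup] at hx
    obtain ⟨y, hy, w, hw, rfl⟩ := hx
    rw [smul_add, h1 y hy, h2 w hw]
  have hD₀W : D₀ ≤ W := by
    intro d hd
    obtain ⟨hd1, hd2⟩ := (hD₀ d).1 hd
    exact ⟨htriv d hd1.1 hd2, fun v => hUX (hd1.2 v)⟩
  set D₀t : Subgroup Y := MulAut.conj t • D₀ with hD₀t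
  have hD₀tmem : ∀ {d : Y}, d ∈ D₀t → (∀ x ∈ fx V Q, d • x = x) ∧ (∀ x ∈ X', d • x = x) ∧ ∀ v : V, d • v + v ∈ X' := by
    intro d hd
    rw [hD₀t, mem_conj] at hd
    obtain ⟨hd1, hd2⟩ := (hD₀ _).1 hd
    have hs : ∀ x : V, t • ((t⁻¹ * d * t) • (t⁻¹ • x)) = d • x := by
      intro x
      rw [← mul_smul, ← mul_smul]
      congr 1
      group
    refine ⟨fun x hx => ?_, fun x hx => ?_, fun v => ?_⟩
    · rw [← hs, hd2 _ (h.ttX k hx), smul_inv_smul]
    · rw [← hs, hd1.1 _ (mem_smul_as.1 hx), smul_inv_smul]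
    · rw [hX', mem_smul_as, smul_add, ← hs v, inv_smul_smul]
      exact hd1.2 _
  have hD₀tW : D₀t ≤ W := by
    intro d hd
    obtain ⟨h1, h2, h3⟩ := hD₀tmem hd
    exact ⟨htriv d h1 h2, fun v => hUX' (h3 v)⟩
  have hcD₀t : Nat.card D₀t = Nat.card D₀ :=
    (Nat.card_congr (Subgroup.equivSMul (MulAut.conj t) D₀).toEquiv).symm
  have h1 := card_mul_le hD₀W hD₀tW
  rw [hcD₀t] at h1
  -- `I`
  have hI : Nat.card ↥(D₀ ⊓ D₀t) ≤ κ := by
    have h2 : D₀ ⊓ D₀t ≤ D₁ := by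
      rintro d ⟨hd1, hd2⟩
      have h3 := ((hD₀ d).1 hd1).1
      refine hmD₁.2 ⟨h3, ?_⟩
      exact (h.inf_X' k (h3.2 v) ((hD₀tmem hd2).2.2 v)).2
    have h3 : (A ⊓ Q).map L.subtype ≤ D₁ := by
      rintro _ ⟨b, hb, rfl⟩
      exact hmD₁.2 ⟨hB1 b hb, h.loc.mem.EB b hb.1 v hvE⟩
    have h4 := card_mul_le h2 h3
    have h5 : (D₀ ⊓ D₀t) ⊓ (A ⊓ Q).map L.subtype = ⊥ := by
      rw [eq_bot_iff]
      rintro _ ⟨⟨hd1, hd2⟩, ⟨b, hb, rfl⟩⟩
      rw [mem_bot]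
      obtain ⟨w, hw⟩ := h.loc.mem.ne
      have h6 : b • w + w ∈ F :=
        (h.inf_X' k (((hD₀ _).1 hd1).1.2 w) ((hD₀tmem hd2).2.2 w)).2
      rw [h.loc.mem.inj w hw b hb.1 h6]
      rfl
    have h6 : Nat.card ↥((A ⊓ Q).map L.subtype) = c := by
      rw [hc, ← h.cB k]
      exact Nat.card_congr ((A ⊓ Q).equivMapOfInjective _ L.subtype_injective).symm.toEquiv
    rw [h5, Subgroup.card_bot, mul_one, hcD₁, h6] at h4
    apply Nat.le_of_mul_le_mul_right _ hc0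
    calc Nat.card ↥(D₀ ⊓ D₀t) * c ≤ c * κ := h4
      _ = κ * c := by ring
  -- no offender
  have hWne : W ≠ ⊥ := by
    intro h2
    have h3 : D₀ = ⊥ := by rw [eq_bot_iff, ← h2]; exact hD₀W
    rw [h3, Subgroup.card_bot] at hcD₀'
    have : c * 1 ≤ c * κ := Nat.mul_le_mul_left _ hκ0
    omega
  have h2 := h.off W (fun b hb => Dx_sq h.faith hb) hWne
  have h3 : U ≤ fx V W := fun x hx d hd => hd.1 x hx
  have h4 := card_mono_as h3
  have hcU : Nat.card U = c ^ 3 := h.cU k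
  rw [hcU] at h4
  rw [hcV] at h2
  have h5 : Nat.card W < Nat.card F := by
    apply Nat.lt_of_mul_lt_mul_right (a := c ^ 3)
    exact lt_of_le_of_lt (Nat.mul_le_mul_left _ h4) h2
  -- end
  have h6 : c * κ * (c * κ) ≤ Nat.card W * κ := by
    calc c * κ * (c * κ) ≤ Nat.card D₀ * Nat.card D₀ := Nat.mul_le_mul hcD₀' hcD₀'
      _ ≤ _ := h1
      _ ≤ _ := Nat.mul_le_mul_left _ hI
  have h7 : c ^ 2 * κ ≤ Nat.card W := by
    apply Nat.le_of_mul_le_mul_right _ hκ0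
    calc c ^ 2 * κ * κ = c * κ * (c * κ) := by ring
      _ ≤ _ := h6
  have h8 : c ^ 2 ≤ c ^ 2 * κ := Nat.le_mul_of_pos_right _ hκ0
  omega

end Hyp

end Cfsg.Agent.Omega.NO1.B0
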