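import Cfsg.Agent.Omega.NO1.B0.Coord

/-!
# THEOREM B0 (bb OMEGA 18835, helper970), (8) (shortcut, helper321)

`Sp P` : `P ≤ A` totally isotropic, `|P| ≥ a`, with `v, v₁, v + v₁ ∉ E`, `[v, P] ≤ [v₁, P]`.  `Sp P ⟹ P = S` or `P = S^t`.
So `N_Y(A)` permutes `{S, S^t}`.
-/

set_option autoImplicit false
set_option linter.unusedSectionVars false
set_option linter.style.haveILetI false

namespace Cfsg.Agent.Omega.NO1.B0

open Subgroup Cfsg.Agent.Omega.NO1.AB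
open scoped Pointwise

universe u

variable {Y : Type u} [Group Y] {V : Type u} [AddCommGroup V] [DistribMulAction Y V]

/-- special points -/
structure Sp {L : Subgroup Y} (A : Subgroup L) (E : AddSubgroup V) (P : Subgroup Y) : Prop where
  le : P ≤ A.map L.subtype
  iso : ∀ p ∈ P, ∀ p' ∈ P, ∀ v : V, p' • (p • v + v) = p • v + v
  card : E.index ≤ Nat.card P
  sp : ∃ v v₁ : V, v ∉ E ∧ v₁ ∉ E ∧ v + v₁ ∉ E ∧ ∀ p ∈ P, ∃ p₁ ∈ P, p • v + v = p₁ • v₁ + v₁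

theorem card_conj [Finite Y] (g : Y) (P : Subgroup Y) : Nat.card (MulAut.conj g • P : Subgroup Y) = Nat.card P :=
  (Nat.card_congr (Subgroup.equivSMul (MulAut.conj g) P).toEquiv).symm

theorem conj_inv_conj (g : Y) (P : Subgroup Y) : MulAut.conj g⁻¹ • (MulAut.conj g • P) = P := by
  rw [← mul_smul, ← map_mul, inv_mul_cancel, map_one, one_smul]

theorem conj_conj_inv (g : Y) (P : Subgroup Y) : MulAut.conj g • (MulAut.conj g⁻¹ • P) = P := by
  rw [← mul_smul, ← map_mul, mul_inv_cancel, map_one, one_smul]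

namespace Out

variable {T : Sylow 2 Y} {M L : Subgroup Y} {A Q L₁ : Subgroup L} {R : Sylow 2 L} {E F : AddSubgroup V}
  {z : V} {t : Y} (o : Out T M L A Q L₁ R E F z t)
include o

theorem eq_of_add {v w : V} (h : v + w = 0) : v = w := o.hyp.eq_of_add h

/-- elements of `A` -/
theorem mem_A {p : Y} (hp : p ∈ A.map L.subtype) :
    ∃ q ∈ Q, ∃ q' ∈ Q, p = q * (t * q' * t⁻¹) := by
  obtain ⟨b, hb, rfl⟩ := hp
  exact o.prod b hb

theorem exists_ne_E : ∃ v : V, v ∉ E := o.hyp.loc.mem.ne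

/-- `[v, q] ∉ F` -/
theorem comm_not_F {q : L} (hq : q ∈ Q) (hq1 : q ≠ 1) {v : V} (hv : v ∉ E) :
    q • v + v ∉ F := fun h1 => hq1 (o.hyp.loc.mem.inj v hv q (o.QA hq) h1)

theorem tAY [Finite Y] : MulAut.conj t • A.map L.subtype = A.map L.subtype := by
  apply conj_eq_self_of_le
  intro y hy
  rw [mem_conj] at hy
  obtain ⟨b, hb, h1⟩ := hy
  obtain ⟨c, hc, h2⟩ := o.tA b hb
  refine ⟨c, hc, ?_⟩
  change (c : Y) = y
  have h3 : (b : Y) = t⁻¹ * y * t := h1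
  rw [h2, h3]
  group

/-- a totally isotropic subgroup meeting `S` is in `S` -/
theorem le_S {P : Subgroup Y} (hP : P ≤ A.map L.subtype)
    (iso : ∀ p ∈ P, ∀ p' ∈ P, ∀ v : V, p' • (p • v + v) = p • v + v) {q : L} (hq : q ∈ Q) (hq1 : q ≠ 1)
    (hqP : (q : Y) ∈ P) : P ≤ Q.map L.subtype := by
  intro p hp
  obtain ⟨b, hb, rfl⟩ := hP hp
  obtain ⟨v, hv⟩ := o.exists_ne_E
  refine ⟨b, ?_, rfl⟩
  apply o.hyp.beta.cen (q • v + v) (o.QV q hq v) (o.comm_not_F hq hq1 hv) b hb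
  exact iso _ hqP _ hp v

omit o in
theorem iso_conj {P : Subgroup Y} (g : Y) (iso : ∀ p ∈ P, ∀ p' ∈ P, ∀ v : V, p' • (p • v + v) = p • v + v) :
    ∀ p ∈ MulAut.conj g • P, ∀ p' ∈ MulAut.conj g • P, ∀ v : V, p' • (p • v + v) = p • v + v := by
  intro p hp p' hp' v
  rw [mem_conj] at hp hp'
  have h1 := iso _ hp _ hp' (g⁻¹ • v)
  have e1 : (g⁻¹ * p * g) • (g⁻¹ • v) + g⁻¹ • v = g⁻¹ • (p • v + v) := by
    rw [smul_add, ← mul_smul, ← mul_smul]
    congr 2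
    group
  have e2 : ∀ w : V, (g⁻¹ * p' * g) • (g⁻¹ • w) = g⁻¹ • (p' • w) := by
    intro w
    rw [← mul_smul, ← mul_smul]
    congr 1
    group
  rw [e1, e2] at h1
  exact smul_left_cancel _ h1

/-- a totally isotropic subgroup meeting `S^t` is in `S^t` -/
theorem le_S' [Finite Y] {P : Subgroup Y} (hP : P ≤ A.map L.subtype)
    (iso : ∀ p ∈ P, ∀ p' ∈ P, ∀ v : V, p' • (p • v + v) = p • v + v) {q : L} (hq : q ∈ Q) (hq1 : q ≠ 1)
    (hqP : t * (q : Y) * t⁻¹ ∈ P) : P ≤ MulAut.conj t • Q.map L.subtype := by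
  have h1 : MulAut.conj t⁻¹ • P ≤ A.map L.subtype := by
    rw [conj_le_iff, inv_inv, o.tAY]
    exact hP
  have h2 := o.le_S h1 (iso_conj t⁻¹ iso) hq hq1 (by
    rw [mem_conj, inv_inv]
    exact hqP)
  rw [conj_le_iff, inv_inv] at h2
  exact h2

theorem smul_F {g : Y} (hg : MulAut.conj g • A.map L.subtype = A.map L.subtype) (v : V) : g • v ∈ F ↔ v ∈ F := by
  have key : ∀ g : Y, MulAut.conj g • A.map L.subtype = A.map L.subtype → ∀ v ∈ F, g • v ∈ F := by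
    intro g hg v hv
    apply o.hyp.loc.mem.CB
    intro b hb
    have h1 : (b : Y) ∈ MulAut.conj g • A.map L.subtype := by rw [hg]; exact ⟨b, hb, rfl⟩
    rw [mem_conj] at h1
    obtain ⟨c, hc, h2⟩ := h1
    have h3 := o.hyp.loc.mem.FB c hc v hv
    change (c : Y) • v = v at h3
    have h4 : (c : Y) = g⁻¹ * b * g := h2
    rw [h4, mul_smul, mul_smul, inv_smul_eq_iff] at h3
    exact h3
  refine ⟨fun hv => ?_, key g hg v⟩
  have h1 := key g⁻¹ (by rw [← hg, conj_inv_conj]; exact hg.symm) _ hv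
  rwa [inv_smul_smul] at h1

theorem memE_iff {v : V} : v ∈ E ↔ ∀ b ∈ A, b • v + v ∈ F := by
  constructor
  · exact fun hv b hb => o.hyp.loc.mem.EB b hb v hv
  · intro hv
    by_contra hvE
    apply o.hyp.beta.ne
    rw [eq_bot_iff]
    intro b hb
    rw [mem_bot]
    exact o.hyp.loc.mem.inj v hvE b hb.1 (hv b hb.1)

theorem smul_E {g : Y} (hg : MulAut.conj g • A.map L.subtype = A.map L.subtype) (v : V) : g • v ∈ E ↔ v ∈ E := by
  have key : ∀ g : Y, MulAut.conj g • A.map L.subtype = A.map L.subtype → ∀ v ∈ E, g • v ∈ E := by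
    intro g hg v hv
    rw [o.memE_iff]
    intro b hb
    have h1 : (b : Y) ∈ MulAut.conj g • A.map L.subtype := by rw [hg]; exact ⟨b, hb, rfl⟩
    rw [mem_conj] at h1
    obtain ⟨c, hc, h2⟩ := h1
    have h3 := o.hyp.loc.mem.EB c hc v hv
    rw [← o.smul_F hg] at h3
    have h4 : (c : Y) = g⁻¹ * b * g := h2
    have h5 : g • (c • v + v) = b • (g • v) + g • v := by
      rw [smul_add]
      congr 1
      change g • ((c : Y) • v) = (b : Y) • (g • v)
      rw [h4, ← mul_smul, ← mul_smul]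
      congr 1
      group
    rwa [h5] at h3
  refine ⟨fun hv => ?_, key g hg v⟩
  have h1 := key g⁻¹ (by rw [← hg, conj_inv_conj]; exact hg.symm) _ hv
  rwa [inv_smul_smul] at h1

theorem Sp_conj [Finite Y] {P : Subgroup Y} (h : Sp A E P) {g : Y}
    (hg : MulAut.conj g • A.map L.subtype = A.map L.subtype) : Sp A E (MulAut.conj g • P) where
  le := by
    rw [← hg]
    exact conj_le_conj g h.le
  iso := iso_conj g h.iso
  card := by rw [card_conj]; exact h.card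
  sp := by
    obtain ⟨v, v₁, h1, h2, h3, h4⟩ := h.sp
    refine ⟨g • v, g • v₁, fun h5 => h1 ((o.smul_E hg _).1 h5), fun h5 => h2 ((o.smul_E hg _).1 h5), fun h5 => ?_, ?_⟩
    · rw [← smul_add] at h5
      exact h3 ((o.smul_E hg _).1 h5)
    · intro p hp
      rw [mem_conj] at hp
      obtain ⟨p₁, hp₁, h5⟩ := h4 _ hp
      refine ⟨_, conj_mem_conj hp₁, ?_⟩
      have e : ∀ (p : Y) (w : V), (g * p * g⁻¹) • (g • w) + g • w = g • (p • w + w) := by
        intro p w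
        rw [smul_add]
        congr 1
        rw [← mul_smul, ← mul_smul]
        congr 1
        group
      have e2 : p = g * (g⁻¹ * p * g) * g⁻¹ := by group
      rw [e, ← h5, ← e, ← e2]

section cd

variable {k : Type} [Field k] [Finite k] [CharP k 2] {g g' N N' : V →+ (Fin 2 → k)} {c c' : Y → k} {κ : k}
  (cd : Cd Q E F t k g g' N N' c c' κ)
include cd

theorem rX' {q : L} (hq : q ∈ Q) {x : V} (hx : x ∈ t • (fx V Q : AddSubgroup V)) : (t * (q : Y) * t⁻¹) • x = x := by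
  rw [mem_smul_as] at hx
  rw [mul_smul, mul_smul]
  have := hx q hq
  change (q : Y) • (t⁻¹ • x) = _ at this
  rw [this, smul_inv_smul]

theorem rVX' {q : L} (hq : q ∈ Q) (v : V) : (t * (q : Y) * t⁻¹) • v + v ∈ t • (fx V Q : AddSubgroup V) := by
  rw [mem_smul_as, smul_add, mul_smul, mul_smul, inv_smul_smul]
  exact o.QV q hq _

theorem rX_mem {q : L} (hq : q ∈ Q) {x : V} (hx : x ∈ fx V Q) : (t * (q : Y) * t⁻¹) • x + x ∈ F := by
  obtain ⟨b, hb, h1⟩ := o.QtA q hq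
  rw [← h1]
  exact o.hyp.loc.mem.EB b hb x (o.hyp.beta.XE hx)

theorem rcomm {q q' : L} (hq : q ∈ Q) (hq' : q' ∈ Q) : (q : Y) * (t * (q' : Y) * t⁻¹) = t * (q' : Y) * t⁻¹ * q := by
  obtain ⟨b, hb, h1⟩ := o.QtA q' hq'
  rw [← h1]
  exact congrArg Subtype.val (o.hyp.loc.mem.comm q (o.QA hq) b hb)

theorem expand {q q' : L} (hq : q ∈ Q) (hq' : q' ∈ Q) (v : V) :
    ((q : Y) * (t * (q' : Y) * t⁻¹)) • v + v = ((q : Y) • v + v) + ((t * (q' : Y) * t⁻¹) • v + v) +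
      ((t * (q' : Y) * t⁻¹) • ((q : Y) • v + v) + ((q : Y) • v + v)) := by
  set r := t * (q' : Y) * t⁻¹ with hr
  rw [o.rcomm cd hq hq', mul_smul, smul_add]
  have h1 := o.two (r • v)
  have h2 := o.two ((q : Y) • v)
  have h3 := o.two v
  have : (q : Y) • v + v + (r • v + v) + (r • (q : Y) • v + r • v + ((q : Y) • v + v)) =
    r • (q : Y) • v + v + (((q : Y) • v + (q : Y) • v) + (r • v + r • v) + (v + v)) := by abel
  rw [this, h1, h2, h3, add_zero, add_zero, add_zero]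

/-- `[[v, q], r]` in coordinates -/
theorem g_qr {q q' : L} (hq : q ∈ Q) (hq' : q' ∈ Q) (v : V) :
    g ((t * (q' : Y) * t⁻¹) • ((q : Y) • v + v) + ((q : Y) • v + v)) =
      ![κ * c' (t * (q' : Y) * t⁻¹) * (c (q : Y) * N v 1), 0] := by
  have hx : (q : Y) • v + v ∈ fx V Q := o.QV q hq v
  rw [cd.κX q' hq' _ hx, cd.cN q hq v]
  rfl

theorem c_inj {q q₁ : L} (hq : q ∈ Q) (hq₁ : q₁ ∈ Q) (h : c (q : Y) = c (q₁ : Y)) : q = q₁ := by
  have h1 : ∀ v : V, (q : Y) • v = (q₁ : Y) • v := by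
    intro v
    have h2 : g (((q : Y) • v + v) + ((q₁ : Y) • v + v)) = 0 := by
      rw [map_add, cd.cN q hq, cd.cN q₁ hq₁, h, ← cd.cN q₁ hq₁, ← map_add, o.two, map_zero]
    have h3 := o.eq_of_add (cd.injX _ ((fx V Q).add_mem (o.QV q hq v) (o.QV q₁ hq₁ v)) h2)
    exact add_right_cancel h3
  have h4 : (q : Y)⁻¹ * q₁ = 1 := by
    apply o.hyp.faith
    intro v
    rw [mul_smul, ← h1, inv_smul_smul]
  exact Subtype.ext (inv_mul_eq_one.1 h4)

theorem c'_inj {q q₁ : L} (hq : q ∈ Q) (hq₁ : q₁ ∈ Q)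
    (h : c' (t * (q : Y) * t⁻¹) = c' (t * (q₁ : Y) * t⁻¹)) : q = q₁ := by
  have h1 : ∀ v : V, (t * (q : Y) * t⁻¹) • v = (t * (q₁ : Y) * t⁻¹) • v := by
    intro v
    have h2 : g' (((t * (q : Y) * t⁻¹) • v + v) + ((t * (q₁ : Y) * t⁻¹) • v + v)) = 0 := by
      rw [map_add, cd.cN' q hq, cd.cN' q₁ hq₁, h, ← cd.cN' q₁ hq₁, ← map_add, o.two, map_zero]
    have h3 := o.eq_of_add (cd.injX' _ ((t • (fx V Q : AddSubgroup V)).add_mem (o.rVX' cd hq v) (o.rVX' cd hq₁ v)) h2)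
    exact add_right_cancel h3
  have h4 : (t * (q : Y) * t⁻¹)⁻¹ * (t * (q₁ : Y) * t⁻¹) = 1 := by
    apply o.hyp.faith
    intro v
    rw [mul_smul, ← h1, inv_smul_smul]
  have h5 := inv_mul_eq_one.1 h4
  have h6 : (q : Y) = q₁ := mul_left_cancel (mul_right_cancel h5)
  exact Subtype.ext h6

/-- isotropy in coordinates -/
theorem iso_iff {q q' q₁ q₁' : L} (hq : q ∈ Q) (hq' : q' ∈ Q) (hq₁ : q₁ ∈ Q) (hq₁' : q₁' ∈ Q)
    (iso : ∀ v : V, ((q₁ : Y) * (t * (q₁' : Y) * t⁻¹)) • (((q : Y) * (t * (q' : Y) * t⁻¹)) • v + v) =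
      ((q : Y) * (t * (q' : Y) * t⁻¹)) • v + v) :
    c' (t * (q₁' : Y) * t⁻¹) * c (q : Y) = c' (t * (q' : Y) * t⁻¹) * c (q₁ : Y) := by
  obtain ⟨v, hv⟩ := o.exists_ne_E
  have hν : N v 1 ≠ 0 := fun h1 => hv ((cd.memE v).2 h1)
  set r := t * (q' : Y) * t⁻¹ with hr
  set r₁ := t * (q₁' : Y) * t⁻¹ with hr₁
  set x := (q : Y) • v + v with hx
  set x' := r • v + v with hx'
  set f := r • x + x with hf
  have hxX : x ∈ fx V Q := o.QV q hq v
  have hx'X : x' ∈ t • (fx V Q : AddSubgroup V) := o.rVX' cd hq' v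
  have hfF : f ∈ F := o.rX_mem cd hq' hxX
  have h1 : ((q : Y) * r) • v + v = x + x' + f := o.expand cd hq hq' v
  have h2 := iso v
  rw [h1, smul_add, smul_add] at h2
  -- `p₁ x = r₁ x`
  have h3 : ((q₁ : Y) * r₁) • x = r₁ • x := by
    rw [mul_smul]
    have h4 : r₁ • x ∈ fx V Q := by
      have := o.rX_mem cd hq₁' hxX
      exact (AddSubgroup.add_mem_cancel_right _ hxX).1 (o.FX this)
    exact h4 q₁ hq₁
  have h4 : ((q₁ : Y) * r₁) • x' = (q₁ : Y) • x' := by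
    rw [mul_smul, o.rX' cd hq₁' hx'X]
  have h5 : ((q₁ : Y) * r₁) • f = f := by
    have h6 : r₁ • f = f := by
      obtain ⟨b, hb, h7⟩ := o.QtA q₁' hq₁'
      rw [hr₁, ← h7]
      exact o.hyp.loc.mem.FB b hb f hfF
    rw [mul_smul, h6]
    exact o.FX hfF q₁ hq₁
  rw [h3, h4, h5] at h2
  have h6 : (r₁ • x + x) + ((q₁ : Y) • x' + x') = 0 := by
    have h7 : r₁ • x + (q₁ : Y) • x' = x + x' := add_right_cancel h2
    have : r₁ • x + x + ((q₁ : Y) • x' + x') = (r₁ • x + (q₁ : Y) • x') + (x + x') := by abel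
    rw [this, h7, o.two]
  -- `[[v, r], q₁] = [[v, q₁], r]`
  have h7 : (q₁ : Y) • x' + x' = r • ((q₁ : Y) • v + v) + ((q₁ : Y) • v + v) := by
    rw [hx', smul_add, smul_add, ← mul_smul, ← mul_smul, hr, o.rcomm cd hq₁ hq']
    abel
  rw [h7] at h6
  have h8 := congrArg g h6
  rw [map_zero, map_add, hr₁, hx, hr, o.g_qr cd hq hq₁', o.g_qr cd hq₁ hq'] at h8
  have h9 := congrFun h8 0
  change κ * c' (t * (q₁' : Y) * t⁻¹) * (c (q : Y) * N v 1) + κ * c' (t * (q' : Y) * t⁻¹) * (c (q₁ : Y) * N v 1) = 0 at h9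
  have h10 : (κ * N v 1) * (c' (t * (q₁' : Y) * t⁻¹) * c (q : Y)) =
      (κ * N v 1) * (c' (t * (q' : Y) * t⁻¹) * c (q₁ : Y)) := by
    have h11 := CharTwo.add_eq_zero.1 h9
    calc (κ * N v 1) * (c' (t * (q₁' : Y) * t⁻¹) * c (q : Y))
        = κ * c' (t * (q₁' : Y) * t⁻¹) * (c (q : Y) * N v 1) := by ring
      _ = _ := h11
      _ = _ := by ring
  exact mul_left_cancel₀ (mul_ne_zero cd.κ_ne hν) h10

/-- the computation: `p = q r`, `p₁ = q₁ r₁` with `[v, p] = [v₁, p₁]` -/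
theorem comp_eq [Finite Y] [Finite V] {q q' q₁ q₁' : L} (hq : q ∈ Q) (hq' : q' ∈ Q) (hq₁ : q₁ ∈ Q) (hq₁' : q₁' ∈ Q)
    {v v₁ : V} (he : ((q : Y) * (t * (q' : Y) * t⁻¹)) • v + v = ((q₁ : Y) * (t * (q₁' : Y) * t⁻¹)) • v₁ + v₁) :
    c (q : Y) * N v 1 + c (q₁ : Y) * N v₁ 1 = 0 ∧
      (c (q : Y) * N v 0 + c (q₁ : Y) * N v₁ 0) +
        (c' (t * (q' : Y) * t⁻¹) * N' v 0 + c' (t * (q₁' : Y) * t⁻¹) * N' v₁ 0) +
        (κ * c' (t * (q' : Y) * t⁻¹) * (c (q : Y) * N v 1) +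
          κ * c' (t * (q₁' : Y) * t⁻¹) * (c (q₁ : Y) * N v₁ 1)) = 0 := by
  rw [o.expand cd hq hq', o.expand cd hq₁ hq₁'] at he
  set x := (q : Y) • v + v with hx
  set x₁ := (q₁ : Y) • v₁ + v₁ with hx₁
  set r := t * (q' : Y) * t⁻¹ with hr
  set r₁ := t * (q₁' : Y) * t⁻¹ with hr₁
  set x' := r • v + v with hx'
  set x₁' := r₁ • v₁ + v₁ with hx₁'
  set f := r • x + x with hf
  set f₁ := r₁ • x₁ + x₁ with hf₁
  have hxX : x ∈ fx V Q := o.QV q hq v
  have hx₁X : x₁ ∈ fx V Q := o.QV q₁ hq₁ v₁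
  have hx'X : x' ∈ t • (fx V Q : AddSubgroup V) := o.rVX' cd hq' v
  have hx₁'X : x₁' ∈ t • (fx V Q : AddSubgroup V) := o.rVX' cd hq₁' v₁
  have hfF : f ∈ F := o.rX_mem cd hq' hxX
  have hf₁F : f₁ ∈ F := o.rX_mem cd hq₁' hx₁X
  have hFX' : F ≤ t • (fx V Q : AddSubgroup V) := by
    rw [← o.infF]; exact inf_le_right
  -- `u + u' + w = 0`
  have hsum : (x + x₁) + (x' + x₁') + (f + f₁) = 0 := by
    have : (x + x₁) + (x' + x₁') + (f + f₁) = (x + x' + f) + (x₁ + x₁' + f₁) := by abel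
    rw [this, he, o.two]
  have hu : x + x₁ ∈ F := by
    rw [← o.infF]
    refine ⟨(fx V Q).add_mem hxX hx₁X, ?_⟩
    have h1 : x + x₁ = (x' + x₁') + (f + f₁) := o.eq_of_add (by rw [← add_assoc]; exact hsum)
    rw [h1]
    exact AddSubgroup.add_mem _ (AddSubgroup.add_mem _ hx'X hx₁'X) (hFX' (F.add_mem hfF hf₁F))
  have hu' : x' + x₁' ∈ F := by
    have h1 : x' + x₁' = (x + x₁) + (f + f₁) := by
      apply o.eq_of_add
      have : x' + x₁' + (x + x₁ + (f + f₁)) = (x + x₁) + (x' + x₁') + (f + f₁) := by abel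
      rw [this, hsum]
    rw [h1]
    exact F.add_mem hu (F.add_mem hfF hf₁F)
  have g1 : g (x + x₁) = c (q : Y) • N v + c (q₁ : Y) • N v₁ := by
    rw [map_add, hx, hx₁, cd.cN q hq, cd.cN q₁ hq₁]
  have g2 : g (x' + x₁') = c' r • N' v + c' r₁ • N' v₁ := by
    rw [← cd.gF _ hu', map_add, hx', hx₁', hr, hr₁, cd.cN' q' hq', cd.cN' q₁' hq₁']
  have g3 : g (f + f₁) = ![κ * c' r * (c (q : Y) * N v 1) + κ * c' r₁ * (c (q₁ : Y) * N v₁ 1), 0] := by
    rw [map_add, hf, hf₁, hx, hx₁, hr, hr₁, o.g_qr cd hq hq', o.g_qr cd hq₁ hq₁', add_vec, add_zero]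
  constructor
  · have h1 := (cd.memF _ (o.FX hu)).1 hu
    rw [g1] at h1
    exact h1
  · have h1 := congrArg g hsum
    rw [map_zero, map_add, map_add, g1, g2, g3] at h1
    exact congrFun h1 0

/-- **special points are `S` and `S^t`** -/
theorem sp_cases [Finite Y] [Finite V] (ha : 4 ≤ E.index) (hk : Nat.card k = E.index) {P : Subgroup Y}
    (h : Sp A E P) : P = Q.map L.subtype ∨ P = MulAut.conj t • Q.map L.subtype := by
  have hcQ : Nat.card (Q.map L.subtype) = E.index := by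
    rw [← o.cQ]
    exact Nat.card_congr (Q.equivMapOfInjective _ L.subtype_injective).symm.toEquiv
  by_cases h1 : ∃ q ∈ Q, q ≠ 1 ∧ (q : Y) ∈ P
  · obtain ⟨q, hq, hq1, hqP⟩ := h1
    left
    exact eq_of_le_of_card_ge (o.le_S h.le h.iso hq hq1 hqP) (by rw [hcQ]; exact h.card)
  by_cases h2 : ∃ q ∈ Q, q ≠ 1 ∧ t * (q : Y) * t⁻¹ ∈ P
  · obtain ⟨q, hq, hq1, hqP⟩ := h2
    right
    exact eq_of_le_of_card_ge (o.le_S' h.le h.iso hq hq1 hqP) (by rw [card_conj, hcQ]; exact h.card)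
  exfalso
  push Not at h1 h2
  -- `p₀`
  have hPc : 1 < Nat.card P := by have := h.card; omega
  haveI hPn : Nontrivial P := Finite.one_lt_card_iff_nontrivial.1 hPc
  obtain ⟨⟨p₀, hp₀⟩, hp₀1⟩ := exists_ne (1 : P)
  have hp₀1' : p₀ ≠ 1 := fun h3 => hp₀1 (Subtype.ext h3)
  obtain ⟨q, hq, q', hq', he₀⟩ := o.mem_A (h.le hp₀)
  have hq1 : q ≠ 1 := by
    rintro rfl
    rw [coe_one, one_mul] at he₀
    by_cases hq'1 : q' = 1
    · apply hp₀1'
      rw [he₀, hq'1]; simp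
    · exact h2 q' hq' hq'1 (by rw [← he₀]; exact hp₀)
  have hcq : c (q : Y) ≠ 0 := cd.c_ne q hq fun h3 => hq1 (Subtype.ext h3)
  have hq'1 : q' ≠ 1 := by
    rintro rfl
    have h3 : p₀ = q := by rw [he₀]; simp
    exact h1 q hq hq1 (by rw [← h3]; exact hp₀)
  have hc'q : c' (t * (q' : Y) * t⁻¹) ≠ 0 := cd.c'_ne q' hq' fun h3 => hq'1 (Subtype.ext h3)
  -- decomposition of the elements of `P`
  have hdec : ∀ p : P, ∃ q₁ ∈ Q, ∃ q₁' ∈ Q, (p : Y) = q₁ * (t * q₁' * t⁻¹) := fun p => o.mem_A (h.le p.2)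
  choose a haQ b hbQ hab using hdec
  have hrel : ∀ p : P, c' (t * (b p : Y) * t⁻¹) * c (q : Y) = c' (t * (q' : Y) * t⁻¹) * c (a p : Y) := by
    intro p
    apply o.iso_iff cd hq hq' (haQ p) (hbQ p)
    intro v
    rw [← hab, ← he₀]
    exact h.iso _ hp₀ _ p.2 v
  let f : P → k := fun p => c (a p : Y) / c (q : Y)
  have hf : Function.Injective f := by
    intro p p₁ hpp
    have h3 : c (a p : Y) = c (a p₁ : Y) := by
      have : c (a p : Y) / c (q : Y) = c (a p₁ : Y) / c (q : Y) := hpp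
      field_simp at this
      exact this
    have h4 := o.c_inj cd (haQ p) (haQ p₁) h3
    have h5 : c' (t * (b p : Y) * t⁻¹) = c' (t * (b p₁ : Y) * t⁻¹) := by
      apply mul_right_cancel₀ hcq
      rw [hrel, hrel, h3]
    have h6 := o.c'_inj cd (hbQ p) (hbQ p₁) h5
    apply Subtype.ext
    rw [hab p, hab p₁, h4, h6]
  have hfs : Function.Surjective f := (hf.bijective_of_nat_card_le (by rw [hk]; exact h.card)).2
  have hca : ∀ p : P, c (a p : Y) = f p * c (q : Y) := fun p => (div_mul_cancel₀ _ hcq).symm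
  have hc'b : ∀ p : P, c' (t * (b p : Y) * t⁻¹) = f p * c' (t * (q' : Y) * t⁻¹) := by
    intro p
    apply mul_right_cancel₀ hcq
    rw [hrel, hca]; ring
  obtain ⟨v, v₁, hv, hv₁, hvv, hsp⟩ := h.sp
  have hν : N v 1 ≠ 0 := fun h3 => hv ((cd.memE v).2 h3)
  have hν₁ : N v₁ 1 ≠ 0 := fun h3 => hv₁ ((cd.memE v₁).2 h3)
  set ν := N v 1 with hνd
  set ν₁ := N v₁ 1 with hν₁d
  set cq := c (q : Y) with hcqd
  set cr := c' (t * (q' : Y) * t⁻¹) with hcrd
  -- the polynomial identity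
  have hpoly : ∀ d : k, d * (cq * (N v 0 + ν / ν₁ * N v₁ 0) + cr * (N' v 0 + ν / ν₁ * N' v₁ 0)) +
      d ^ 2 * (κ * cr * cq * (ν * (1 + ν / ν₁))) = 0 := by
    intro d
    obtain ⟨p, hp⟩ := hfs d
    obtain ⟨p₁, hp₁, he⟩ := hsp p p.2
    have he' := he
    rw [hab p, show p₁ = ((⟨p₁, hp₁⟩ : P) : Y) from rfl, hab ⟨p₁, hp₁⟩] at he'
    obtain ⟨h3, h4⟩ := o.comp_eq cd (haQ p) (hbQ p) (haQ ⟨p₁, hp₁⟩) (hbQ ⟨p₁, hp₁⟩) he'
    set d₁ := f ⟨p₁, hp₁⟩ with hd₁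
    rw [hca, hca, hp, ← hd₁, ← hνd, ← hν₁d] at h3
    rw [hca, hca, hc'b, hc'b, hp, ← hd₁, ← hνd, ← hν₁d] at h4
    have h5 : d₁ = d * (ν / ν₁) := by
      have h6 : d * ν = d₁ * ν₁ := by
        apply mul_right_cancel₀ hcq
        have h7 := CharTwo.add_eq_zero.1 h3
        calc d * ν * cq = d * cq * ν := by ring
          _ = d₁ * cq * ν₁ := h7
          _ = _ := by ring
      field_simp
      exact h6.symm
    rw [h5] at h4
    rw [← h4]
    field_simp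
  -- `d₀ ≠ 0, 1`
  obtain ⟨d₀, hd₀, hd₀1⟩ : ∃ d₀ : k, d₀ ≠ 0 ∧ d₀ ≠ 1 := by
    by_contra hc
    push Not at hc
    have h3 : (Set.univ : Set k) ⊆ {0, 1} := by
      intro d _
      by_cases h4 : d = 0
      · exact Or.inl h4
      · exact Or.inr (hc d h4)
    have h4 := Set.ncard_le_ncard h3 (Set.toFinite _)
    rw [Set.ncard_univ, hk] at h4
    have h5 : ({0, 1} : Set k).ncard ≤ 2 := (Set.ncard_insert_le _ _).trans (by rw [Set.ncard_singleton])
    omega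
  set m := cq * (N v 0 + ν / ν₁ * N v₁ 0) + cr * (N' v 0 + ν / ν₁ * N' v₁ 0) with hm
  set bb := κ * cr * cq * (ν * (1 + ν / ν₁)) with hbb
  have e1 := hpoly 1
  have e2 := hpoly d₀
  have h3 : bb = 0 := by
    have h4 : m = bb := by
      rw [one_mul, one_pow, one_mul] at e1
      exact CharTwo.add_eq_zero.1 e1
    rw [h4] at e2
    have h5 : d₀ * (1 + d₀) * bb = 0 := by rw [← e2]; ring
    have h6 : (1 : k) + d₀ ≠ 0 := fun h7 => hd₀1 (CharTwo.add_eq_zero.1 h7).symm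
    exact (mul_eq_zero.1 h5).resolve_left (mul_ne_zero hd₀ h6)
  have h4 : 1 + ν / ν₁ = 0 := by
    have h5 : κ * cr * cq * ν ≠ 0 := mul_ne_zero (mul_ne_zero (mul_ne_zero cd.κ_ne hc'q) hcq) hν
    have h6 : κ * cr * cq * ν * (1 + ν / ν₁) = 0 := by rw [← h3, hbb]; ring
    exact (mul_eq_zero.1 h6).resolve_left h5
  apply hvv
  rw [cd.memE, map_add]
  change N v 1 + N v₁ 1 = 0
  rw [← hνd, ← hν₁d]
  have h5 : (1 + ν / ν₁) * ν₁ = 0 := by rw [h4, zero_mul]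
  rw [add_mul, one_mul, div_mul_cancel₀ _ hν₁] at h5
  rw [add_comm]; exact h5

/-- `S` is special -/
theorem sp_S [Finite Y] [Finite V] (ha : 4 ≤ E.index) (hk : Nat.card k = E.index) :
    Sp A E (Q.map L.subtype) where
  le := map_mono o.QA
  iso := by
    rintro _ ⟨q, hq, rfl⟩ _ ⟨q', hq', rfl⟩ v
    exact o.QV q hq v q' hq'
  card := by
    rw [← o.cQ]
    exact (Nat.card_congr (Q.equivMapOfInjective _ L.subtype_injective).symm.toEquiv).ge
  sp := by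
    obtain ⟨d₀, hd₀, hd₀1⟩ : ∃ d₀ : k, d₀ ≠ 0 ∧ d₀ ≠ 1 := by
      by_contra hc
      push Not at hc
      have h3 : (Set.univ : Set k) ⊆ {0, 1} := by
        intro d _
        by_cases h4 : d = 0
        · exact Or.inl h4
        · exact Or.inr (hc d h4)
      have h4 := Set.ncard_le_ncard h3 (Set.toFinite _)
      rw [Set.ncard_univ, hk] at h4
      have h5 : ({0, 1} : Set k).ncard ≤ 2 := (Set.ncard_insert_le _ _).trans (by rw [Set.ncard_singleton])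
      omega
    obtain ⟨v, hv⟩ := o.exists_ne_E
    have hν : N v 1 ≠ 0 := fun h3 => hv ((cd.memE v).2 h3)
    obtain ⟨v₁, hv₁⟩ := cd.surjN (d₀ • N v)
    refine ⟨v, v₁, hv, fun h1 => ?_, fun h1 => ?_, ?_⟩
    · rw [cd.memE, hv₁] at h1
      exact mul_ne_zero hd₀ hν h1
    · rw [cd.memE, map_add, hv₁] at h1
      have h2 : N v 1 + d₀ * N v 1 = 0 := h1
      have h3 : (1 + d₀) * N v 1 = 0 := by rw [← h2]; ring
      exact hd₀1 (CharTwo.add_eq_zero.1 ((mul_eq_zero.1 h3).resolve_right hν)).symm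
    · rintro _ ⟨q, hq, rfl⟩
      obtain ⟨q₁, hq₁, h1⟩ := cd.c_surj (c (q : Y) * d₀⁻¹)
      refine ⟨q₁, ⟨q₁, hq₁, rfl⟩, ?_⟩
      apply o.eq_of_add
      apply cd.injX _ ((fx V Q).add_mem (o.QV q hq v) (o.QV q₁ hq₁ v₁))
      change g (((q : Y) • v + v) + ((q₁ : Y) • v₁ + v₁)) = 0
      rw [map_add, cd.cN q hq, cd.cN q₁ hq₁, h1, hv₁, smul_smul, mul_assoc, inv_mul_cancel₀ hd₀, mul_one]
      ext i
      exact CharTwo.add_self_eq_zero _

/-- **`N_Y(A)` permutes `{S, S^t}`** -/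
theorem perm [Finite Y] [Finite V] (ha : 4 ≤ E.index) (hk : Nat.card k = E.index) {y : Y}
    (hy : MulAut.conj y • A.map L.subtype = A.map L.subtype) :
    MulAut.conj y • Q.map L.subtype = Q.map L.subtype ∨
      MulAut.conj y • Q.map L.subtype = MulAut.conj t • Q.map L.subtype :=
  o.sp_cases cd ha hk (o.Sp_conj (o.sp_S cd ha hk) hy)

theorem perm' [Finite Y] [Finite V] (ha : 4 ≤ E.index) (hk : Nat.card k = E.index) {y : Y}
    (hy : MulAut.conj y • A.map L.subtype = A.map L.subtype) :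
    MulAut.conj y • MulAut.conj t • Q.map L.subtype = Q.map L.subtype ∨
      MulAut.conj y • MulAut.conj t • Q.map L.subtype = MulAut.conj t • Q.map L.subtype := by
  apply o.sp_cases cd ha hk
  exact o.Sp_conj (o.Sp_conj (o.sp_S cd ha hk) o.tAY) hy

end cd

/-- **`N_Y(A)` permutes `{S, S^t}`** -/
theorem perm_S [Finite Y] [Finite V] (ha : 4 ≤ E.index) {y : Y}
    (hy : MulAut.conj y • A.map L.subtype = A.map L.subtype) :
    (MulAut.conj y • Q.map L.subtype = Q.map L.subtype ∧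
      MulAut.conj y • MulAut.conj t • Q.map L.subtype = MulAut.conj t • Q.map L.subtype) ∨
    (MulAut.conj y • Q.map L.subtype = MulAut.conj t • Q.map L.subtype ∧
      MulAut.conj y • MulAut.conj t • Q.map L.subtype = Q.map L.subtype) := by
  obtain ⟨k, i1, i2, i3, e, K, φ, ok, -⟩ := o.exists_K
  obtain ⟨g, g', N, N', c, c', κ, cd, -, -⟩ := o.exists_cd ok
  have hne : Q.map L.subtype ≠ MulAut.conj t • Q.map L.subtype := by
    intro h1
    obtain ⟨q, hq, hq1⟩ := o.hyp.exists_q o.tk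
    have h2 : (q : Y) ∈ Q.map L.subtype := ⟨q, hq, rfl⟩
    rw [h1, mem_conj] at h2
    obtain ⟨q', hq', h3⟩ := h2
    apply hq1
    apply o.inf1 q hq q' hq'
    have h4 : (q' : Y) = t⁻¹ * q * t := h3
    rw [h4]; group
  rcases o.perm cd ha ok.card hy with h1 | h1 <;> rcases o.perm' cd ha ok.card hy with h2 | h2
  · exfalso
    rw [← h1] at h2
    have h3 := congrArg (fun P => MulAut.conj y⁻¹ • P) h2
    simp only [conj_inv_conj] at h3
    rw [h1] at h3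
    exact hne h3.symm
  · exact Or.inl ⟨h1, h2⟩
  · exact Or.inr ⟨h1, h2⟩
  · exfalso
    rw [← h1] at h2
    have h3 := congrArg (fun P => MulAut.conj y⁻¹ • P) h2
    simp only [conj_inv_conj] at h3
    exact hne (h3.symm.trans h1)

end Out

end Cfsg.Agent.Omega.NO1.B0
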