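import Cfsg.Agent.Omega.NO1.B0.Fld

/-!
# THEOREM B0 (bb OMEGA 18835, helper970): the hypotheses in `Y`, the components, the 2-element `t`
-/

set_option autoImplicit false
set_option linter.unusedSectionVars false
set_option linter.style.haveILetI false

namespace Cfsg.Agent.Omega.NO1.B0

open Subgroup Cfsg.Agent.Omega.NO1.AB
open scoped Pointwise MatrixGroups

universe u

section

variable {L : Type u} [Group L] {V : Type u} [AddCommGroup V] [DistribMulAction L V]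
  {A : Subgroup L} {E F : AddSubgroup V} {Q L₁ : Subgroup L} {R : Sylow 2 L} {z : V}
  (h : Loc A E F Q L₁ R z) (hb : Beta A E F (fx V Q) Q L₁)
include h hb

/-- Coordinates on `X` with `z = (1,0)`. -/
theorem exists_coord' [Finite L] [Finite V] (hC : fx V (⊤ : Subgroup L) = ⊥) :
    ∃ (K : Type) (_ : Field K) (_ : Fintype K) (_ : CharP K 2) (e : ↥(fx V Q) ≃+ (Fin 2 → K)),
      Nat.card K = Nat.card ↥(fx V Q ⊓ F) ∧ (∀ v : ↥(fx V Q), (v : V) ∈ F ↔ e v 1 = 0) ∧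
      (∀ l : L, ∃ s : Matrix.SpecialLinearGroup (Fin 2) K, ∀ v : ↥(fx V Q),
        e ⟨l • (v : V), h.smul_X l v.2⟩ = s.1.mulVec (e v)) ∧
      (∀ s : Matrix.SpecialLinearGroup (Fin 2) K, ∃ l : L, ∀ v : ↥(fx V Q),
        e ⟨l • (v : V), h.smul_X l v.2⟩ = s.1.mulVec (e v)) ∧
      e ⟨z, h.z_mem.1⟩ = ![1, 0] := by
  obtain ⟨K, i1, i2, i3, e, h1, h2, h3, h4, -⟩ := exists_coord h hb hC
  have hz1 : e ⟨z, h.z_mem.1⟩ 1 = 0 := (h2 _).1 h.z_mem.2
  have hz0 : e ⟨z, h.z_mem.1⟩ 0 ≠ 0 := by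
    intro h0
    have h5 : e ⟨z, h.z_mem.1⟩ = 0 := by
      ext i
      fin_cases i
      · exact h0
      · exact hz1
    rw [map_eq_zero_iff e e.injective] at h5
    apply h.z_not
    rw [hC, AddSubgroup.mem_bot]
    exact congrArg Subtype.val h5
  set c := e ⟨z, h.z_mem.1⟩ 0 with hc
  let sc : (Fin 2 → K) ≃+ (Fin 2 → K) :=
    { toFun := fun v => c⁻¹ • v
      invFun := fun v => c • v
      left_inv := fun v => by
        change c • c⁻¹ • v = v
        rw [smul_smul, mul_inv_cancel₀ hz0, one_smul]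
      right_inv := fun v => by
        change c⁻¹ • c • v = v
        rw [smul_smul, inv_mul_cancel₀ hz0, one_smul]
      map_add' := fun v w => smul_add _ _ _ }
  refine ⟨K, i1, i2, i3, e.trans sc, h1, fun v => ?_, fun l => ?_, fun s => ?_, ?_⟩
  · rw [h2]
    change _ ↔ c⁻¹ * e v 1 = 0
    rw [mul_eq_zero, inv_eq_zero]
    exact ⟨Or.inr, fun h6 => h6.resolve_left hz0⟩
  · obtain ⟨s, hs⟩ := h3 l
    refine ⟨s, fun v => ?_⟩
    change c⁻¹ • e _ = s.1.mulVec (c⁻¹ • e v)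
    rw [hs, Matrix.mulVec_smul]
  · obtain ⟨l, hs⟩ := h4 s
    refine ⟨l, fun v => ?_⟩
    change c⁻¹ • e _ = s.1.mulVec (c⁻¹ • e v)
    rw [hs, Matrix.mulVec_smul]
  · change c⁻¹ • e ⟨z, h.z_mem.1⟩ = ![1, 0]
    rw [vec_eq (e ⟨z, h.z_mem.1⟩), ← hc, hz1, smul_vec, inv_mul_cancel₀ hz0, mul_zero]

/-- `L` is transitive on `X#` -/
theorem trans_z [Finite L] [Finite V] (hC : fx V (⊤ : Subgroup L) = ⊥) {x : V} (hx : x ∈ fx V Q)
    (hx0 : x ≠ 0) : ∃ l : L, l • z = x := by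
  obtain ⟨K, i1, i2, i3, e, h1, h2, h3, h4, h5⟩ := exists_coord' h hb hC
  have key : ∃ s : Matrix.SpecialLinearGroup (Fin 2) K, s.1.mulVec ![1, 0] = e ⟨x, hx⟩ := by
    set a := e ⟨x, hx⟩ 0 with ha
    set b := e ⟨x, hx⟩ 1 with hb'
    have hv : e ⟨x, hx⟩ = ![a, b] := vec_eq _
    rw [hv]
    by_cases ha0 : a = 0
    · have hb0 : b ≠ 0 := by
        intro hb0
        rw [ha0, hb0] at hv
        have h6 : e ⟨x, hx⟩ = 0 := by
          rw [hv]
          ext i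
          fin_cases i <;> rfl
        rw [map_eq_zero_iff e e.injective] at h6
        exact hx0 (congrArg Subtype.val h6)
      refine ⟨⟨!![0, -b⁻¹; b, 0], by rw [Matrix.det_fin_two_of]; field_simp; ring⟩, ?_⟩
      ext i
      fin_cases i <;> simp [Matrix.mulVec, dotProduct, Fin.sum_univ_two, ha0]
    · refine ⟨⟨!![a, 0; b, a⁻¹], by rw [Matrix.det_fin_two_of]; field_simp; ring⟩, ?_⟩
      ext i
      fin_cases i <;> simp [Matrix.mulVec, dotProduct, Fin.sum_univ_two]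
  obtain ⟨s, hs⟩ := key
  obtain ⟨l, hl⟩ := h4 s
  refine ⟨l, ?_⟩
  have h6 := hl ⟨z, h.z_mem.1⟩
  rw [h5, hs] at h6
  exact congrArg Subtype.val (e.injective h6)

end

variable {Y : Type u} [Group Y] {V : Type u} [AddCommGroup V] [DistribMulAction Y V]

/-- The hypotheses in `Y` (`X = C_V(Q)`, `C_V(L) = 0`). -/
structure Hyp0 (T : Sylow 2 Y) (M L : Subgroup Y) (A Q L₁ : Subgroup L) (R : Sylow 2 L) (E F : AddSubgroup V)
    (z : V) : Prop where
  loc : Loc A E F Q L₁ R z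
  beta : Beta A E F (fx V Q) Q L₁
  C0 : fx V (⊤ : Subgroup L) = ⊥
  faith : ∀ y : Y, (∀ v : V, y • v = v) → y = 1
  irr : ∀ W : AddSubgroup V, (∀ y : Y, ∀ w ∈ W, y • w ∈ W) → W ≤ E → W = ⊥
  off : ∀ B : Subgroup Y, (∀ b ∈ B, b * b = 1) → B ≠ ⊥ → Nat.card B * Nat.card ↥(fx V B) < Nat.card V
  TM : (T : Subgroup Y) ≤ M
  M_ne : M ≠ ⊤
  uniqM : ∀ H : Subgroup Y, (T : Subgroup Y) ≤ H → H ≠ ⊤ → H ≤ M
  L₁M : ∀ l : L, l ∈ L₁ → (l : Y) ∈ M
  LM : ¬ L ≤ M
  RT : ∀ r : L, r ∈ R → (r : Y) ∈ T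
  zT : ∀ t ∈ T, t • z = z

/-- `N_Y(X)` -/
def NX (L : Subgroup Y) (V : Type u) [AddCommGroup V] [DistribMulAction Y V] (Q : Subgroup L) : Subgroup Y :=
  MulAction.stabilizer Y (fx V Q : AddSubgroup V)

theorem mem_NX {L : Subgroup Y} {Q : Subgroup L} {y : Y} : y ∈ NX L V Q ↔ y • (fx V Q : AddSubgroup V) = fx V Q :=
  Iff.rfl

theorem NX_smul {L : Subgroup Y} {Q : Subgroup L} {y : Y} (hy : y ∈ NX L V Q) {x : V} (hx : x ∈ fx V Q) :
    y • x ∈ fx V Q := by
  rw [← mem_NX.1 hy]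
  exact smul_mem_smul_as hx

theorem mem_NX_of [Finite V] {L : Subgroup Y} {Q : Subgroup L} {y : Y} (hy : ∀ x ∈ fx V Q, y • x ∈ fx V Q) :
    y ∈ NX L V Q := by
  rw [mem_NX]
  apply eq_of_le_as
  · intro v hv
    have := hy _ (mem_smul_as.1 hv)
    rwa [smul_inv_smul] at this
  · exact (card_smul_as y _).ge

namespace Hyp0

variable {T : Sylow 2 Y} {M L : Subgroup Y} {A Q L₁ : Subgroup L} {R : Sylow 2 L} {E F : AddSubgroup V}
  {z : V} (h : Hyp0 T M L A Q L₁ R E F z)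
include h

theorem two (v : V) : v + v = 0 := h.loc.two v

theorem neg (v : V) : -v = v := neg_eq_of_add_eq_zero_left (h.two v)

theorem eq_of_add {v w : V} (hvw : v + w = 0) : v = w := by
  rw [← neg_eq_iff_add_eq_zero, h.neg] at hvw
  exact hvw

theorem z_ne : z ≠ 0 := by
  intro h1
  apply h.loc.z_not
  rw [h1]
  exact AddSubgroup.zero_mem _

theorem L_le_NX [Finite V] : L ≤ NX L V Q := by
  intro l hl
  apply mem_NX_of
  intro x hx
  exact h.loc.smul_X ⟨l, hl⟩ hx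

theorem mem_L₁ {l : L} : l ∈ L₁ ↔ (l : Y) ∈ M := by
  refine ⟨h.L₁M l, fun hl => ?_⟩
  have h1 := h.loc.uniq (M.subgroupOf L) (fun a ha => h.L₁M a (h.loc.A_le ha)) (by
    rw [Ne, subgroupOf_eq_top]
    exact h.LM)
  exact h1 hl

theorem stab_z : MulAction.stabilizer Y z ≤ M := by
  apply h.uniqM
  · intro t ht
    exact h.zT t ht
  · intro h1
    -- `z` fixed by `Y`
    obtain ⟨l, hl⟩ := h.loc.zL
    apply hl
    have : (l : Y) ∈ MulAction.stabilizer Y z := by rw [h1]; exact mem_top _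
    exact this

theorem trans [Finite Y] [Finite V] {x : V} (hx : x ∈ fx V Q) (hx0 : x ≠ 0) : ∃ l : L, l • z = x :=
  trans_z h.loc h.beta h.C0 hx hx0

/-- `N_Y(X)` permutes the components -/
theorem comp [Finite Y] [Finite V] {y : Y} (hy : y ∈ NX L V Q) (l : L) :
    ∃ m : L, ∀ x : V, l⁻¹ • x ∈ fx V Q ⊓ F → m⁻¹ • (y • x) ∈ fx V Q ⊓ F := by
  have hz : l • z ∈ fx V Q := h.loc.smul_X l h.loc.z_mem.1
  have hyz : y • (l • z) ∈ fx V Q := NX_smul hy hz
  obtain ⟨m, hm⟩ := h.trans hyz (by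
    rw [Ne, smul_eq_zero_iff_eq, smul_eq_zero_iff_eq]
    exact h.z_ne)
  refine ⟨m, ?_⟩
  intro x hx
  by_cases hx0 : x = 0
  · rw [hx0, smul_zero, smul_zero]; exact AddSubgroup.zero_mem _
  have hxX : x ∈ fx V Q := h.loc.mem_X_of (mem_smul_as.2 hx)
  obtain ⟨k, hk⟩ := h.trans hxX hx0
  have hk0 : k • z ∉ fx V (⊤ : Subgroup L) := by
    rw [hk, h.C0, AddSubgroup.mem_bot]; exact hx0
  -- `l⁻¹ k ∈ L₁`
  have h1 : l⁻¹ * k ∈ L₁ := by
    by_contra h2
    exact hk0 (h.loc.mem_C_of h2 (by rw [hk]; exact mem_smul_as.2 hx) (smul_mem_smul_as h.loc.z_mem))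
  obtain ⟨n, hn⟩ := h.trans (NX_smul hy hxX) (by rwa [Ne, smul_eq_zero_iff_eq])
  have h2 : ((m : Y)⁻¹ * y * l : Y) ∈ M := by
    apply h.stab_z
    rw [MulAction.mem_stabilizer_iff, mul_smul, mul_smul, inv_smul_eq_iff]
    exact hm.symm
  have h3 : ((n : Y)⁻¹ * y * k : Y) ∈ M := by
    apply h.stab_z
    rw [MulAction.mem_stabilizer_iff, mul_smul, mul_smul, inv_smul_eq_iff]
    have : (k : Y) • z = x := hk
    rw [this]
    exact hn.symm
  have h4 : m⁻¹ * n ∈ L₁ := by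
    rw [h.mem_L₁]
    have e : ((m⁻¹ * n : L) : Y) = ((m : Y)⁻¹ * y * l) * ((l⁻¹ * k : L) : Y) * ((n : Y)⁻¹ * y * k)⁻¹ := by
      rw [coe_mul, coe_mul, coe_inv, coe_inv]; group
    rw [e]
    exact mul_mem (mul_mem h2 (h.mem_L₁.1 h1)) (inv_mem h3)
  have h5 := smul_mem_smul_as (g := m⁻¹ * n) h.loc.z_mem
  rw [h.beta.inv _ h4, mul_smul] at h5
  rw [← hn]
  exact h5

theorem comp_z [Finite Y] [Finite V] {y : Y} (hy : y ∈ NX L V Q) (hyz : y • z = z) {x : V}
    (hx : x ∈ fx V Q ⊓ F) : y • x ∈ fx V Q ⊓ F := by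
  obtain ⟨m, hm⟩ := h.comp hy 1
  have h1 := hm z (by rw [inv_one, one_smul]; exact h.loc.z_mem)
  rw [hyz] at h1
  have h2 : m ∈ L₁ := by
    by_contra h3
    have h4 := h.loc.mem_C_of_F h3 (mem_smul_as.2 h1) h.loc.z_mem.2
    exact h.loc.z_not h4
  have h3 := smul_mem_smul_as (g := m) (hm x (by rw [inv_one, one_smul]; exact hx))
  rwa [h.beta.inv m h2, smul_inv_smul] at h3

end Hyp0

/-- ... and `N_T(X)` is Sylow in `N_Y(X)` -/
structure Hyp (T : Sylow 2 Y) (M L : Subgroup Y) (A Q L₁ : Subgroup L) (R : Sylow 2 L) (E F : AddSubgroup V)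
    (z : V) : Prop extends Hyp0 T M L A Q L₁ R E F z where
  max : ∀ P : Subgroup Y, IsPGroup 2 P → P ≤ NX L V Q → (T : Subgroup Y) ⊓ NX L V Q ≤ P → P ≤ T

theorem Hyp0.exists_hyp [Finite Y] [Finite V] {T : Sylow 2 Y} {M L : Subgroup Y} {A Q L₁ : Subgroup L}
    {R : Sylow 2 L} {E F : AddSubgroup V} {z : V} (h : Hyp0 T M L A Q L₁ R E F z) :
    ∃ (T' : Sylow 2 Y) (z' : V), Hyp T' M L A Q L₁ R E F z' := by
  have : Fact (Nat.Prime 2) := ⟨Nat.prime_two⟩
  set N := NX L V Q with hN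
  set RY : Subgroup Y := (R : Subgroup L).map L.subtype with hRY
  have hRN : RY ≤ N := by
    rintro _ ⟨r, hr, rfl⟩
    exact h.L_le_NX r.2
  have hR2 : IsPGroup 2 RY := R.2.map _
  have hRN2 : IsPGroup 2 (RY.subgroupOf N) := hR2.comap_of_injective N.subtype Subtype.coe_injective
  obtain ⟨P, hP⟩ := hRN2.exists_le_sylow
  have hP2 : IsPGroup 2 ((P : Subgroup N).map N.subtype) := P.2.map _
  obtain ⟨T', hT'⟩ := hP2.exists_le_sylow
  have hRT' : RY ≤ T' := by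
    intro r hr
    exact hT' ⟨⟨r, hRN hr⟩, hP (mem_subgroupOf.2 hr), rfl⟩
  -- `T'` is a conjugate of `T`
  obtain ⟨y, hy⟩ := MulAction.exists_smul_eq Y T T'
  set z' := y • z with hz'
  have hz'T : ∀ t ∈ T', t • z' = z' := by
    intro t ht
    rw [← hy, HE.mem_smul_sylow] at ht
    have h1 := h.zT _ ht
    rw [mul_smul, mul_smul, inv_smul_eq_iff] at h1
    exact h1
  have hz'0 : z' ≠ 0 := by
    rw [hz', Ne, smul_eq_zero_iff_eq]
    exact h.z_ne
  have hz'R : ∀ r ∈ R, (r : L) • z' = z' := fun r hr => hz'T _ (hRT' ⟨r, hr, rfl⟩)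
  have hz'X : z' ∈ fx V Q ⊓ F :=
    ⟨fun q hq => hz'R q (h.loc.Q_le_R hq), h.loc.mem.CB z' fun b hb => hz'R b (h.loc.AR hb)⟩
  obtain ⟨l, hl⟩ := h.trans hz'X.1 hz'0
  have hlL : l ∈ L₁ := by
    by_contra h1
    have h2 := h.loc.mem_C_of_F h1 (smul_mem_smul_as h.loc.z_mem) (by rw [hl]; exact hz'X.2)
    rw [hl, h.C0, AddSubgroup.mem_bot] at h2
    exact hz'0 h2
  -- `y ∈ M`
  have hyM : y ∈ M := by
    have h1 : (l : Y)⁻¹ * y ∈ M := by
      apply h.stab_z
      rw [MulAction.mem_stabilizer_iff, mul_smul, inv_smul_eq_iff]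
      exact hl.symm
    have := mul_mem (h.L₁M l hlL) h1
    rwa [mul_inv_cancel_left] at this
  have hT'M : (T' : Subgroup Y) ≤ M := by
    intro t ht
    have ht' : t ∈ T' := ht
    rw [← hy, HE.mem_smul_sylow] at ht'
    have := mul_mem (mul_mem hyM (h.TM ht')) (inv_mem hyM)
    have e : y * (y⁻¹ * t * y) * y⁻¹ = t := by group
    rwa [e] at this
  refine ⟨T', z', ?_⟩
  exact
    { loc := { h.loc with
        zR := hz'R
        zL := by
          by_contra hc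
          push Not at hc
          apply hz'0
          have : z' ∈ fx V (⊤ : Subgroup L) := fun l _ => hc l
          rwa [h.C0, AddSubgroup.mem_bot] at this }
      beta := h.beta
      C0 := h.C0
      faith := h.faith
      irr := h.irr
      off := h.off
      TM := hT'M
      M_ne := h.M_ne
      uniqM := by
        intro H hH hH1
        -- conjugate
        have h1 : (T : Subgroup Y) ≤ MulAut.conj y⁻¹ • H := by
          intro t ht
          rw [mem_conj, inv_inv]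
          apply hH
          change y * t * y⁻¹ ∈ T'
          rw [← hy, HE.mem_smul_sylow]
          have e : y⁻¹ * (y * t * y⁻¹) * y = t := by group
          rwa [e]
        have h2 := h.uniqM _ h1 fun h3 => hH1 (conj_eq_top h3)
        intro x hx
        have h3 : y⁻¹ * x * y ∈ MulAut.conj y⁻¹ • H := by
          rw [mem_conj]
          have e : y⁻¹⁻¹ * (y⁻¹ * x * y) * y⁻¹ = x := by group
          rwa [e]
        have := mul_mem (mul_mem hyM (h2 h3)) (inv_mem hyM)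
        have e : y * (y⁻¹ * x * y) * y⁻¹ = x := by group
        rwa [e] at this
      L₁M := h.L₁M
      LM := h.LM
      RT := fun r hr => hRT' ⟨r, hr, rfl⟩
      zT := hz'T
      max := by
        intro P' hP'2 hP'N hP'
        have h1 : IsPGroup 2 (P'.subgroupOf N) := hP'2.comap_of_injective N.subtype Subtype.coe_injective
        have h2 : (P : Subgroup N) ≤ P'.subgroupOf N := by
          intro p hp
          rw [mem_subgroupOf]
          exact hP' ⟨hT' ⟨p, hp, rfl⟩, p.2⟩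
        have h3 := P.is_maximal' h1 h2
        intro p hp
        apply hT'
        have h4 : (⟨p, hP'N hp⟩ : N) ∈ (P : Subgroup N) := by
          rw [← h3]
          exact mem_subgroupOf.2 hp
        exact ⟨⟨p, hP'N hp⟩, h4, rfl⟩ }

end Cfsg.Agent.Omega.NO1.B0
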